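import Groth.Agent.CycLib.DevSwindle
import Groth.Agent.CycLib.DevK0Equiv
import Groth.Agent.CycLib.DevDelta
import Groth.Agent.CycLib.DevTwist
import Groth.Agent.ProjTwist.Tensor
import Groth.Agent.AmpCrit.NegVan
import Groth.Prelude.Def_FGA

/-!
# Classes of coherent modules in `K₀(Coh_{≤ a})`, the dimension filtration, and the operators
`∏ (1 - [N_i ⊗ -])`
-/

set_option autoImplicit false
set_option linter.style.haveILetI false

universe u

open CategoryTheory Limits AlgebraicGeometry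
open scoped TensorProduct

noncomputable section

namespace Groth.Agent.RefChK0

open Groth.Agent.PullStalk.Sky Groth.Agent.PullStalk.Exact CycLib.Dev

variable {X : Scheme.{u}} {δ : X → ℤ}

/-- The class of a module in `K₀(Coh_{≤ a})`. -/
abbrev kc (δ : X → ℤ) (a : ℤ) (F : X.Modules) : KZero.K0sub (Cyc.CohLe δ a) :=
  KZero.clSub (Cyc.CohLe δ a) F

/-- The classes of modules of dimension at most `m`. -/
def filt (δ : X → ℤ) (a m : ℤ) : AddSubgroup (KZero.K0sub (Cyc.CohLe δ a)) :=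
  AddSubgroup.closure {c | ∃ F : X.Modules, Cyc.CohLe δ m F ∧ c = KZero.clSub (Cyc.CohLe δ a) F}

theorem kc_mem_filt {a m : ℤ} {F : X.Modules} (hF : Cyc.CohLe δ m F) : kc δ a F ∈ filt δ a m :=
  AddSubgroup.subset_closure ⟨F, hF, rfl⟩

theorem filt_mono {a m m' : ℤ} (h : m ≤ m') : filt δ a m ≤ filt δ a m' :=
  AddSubgroup.closure_mono fun _ ⟨F, hF, e⟩ => ⟨F, cohLe_mono h hF, e⟩

theorem mk_eq_iff {a b : ℤ} {c c' : KZero.K0sub (Cyc.CohLe δ a)} :
    (QuotientAddGroup.mk c : Cyc.K0CohQuot δ a b) = QuotientAddGroup.mk c' ↔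
      c - c' ∈ filt δ a b := by
  rw [QuotientAddGroup.eq_iff_sub_mem]
  rfl

theorem mk_eq_zero_iff {a b : ℤ} {c : KZero.K0sub (Cyc.CohLe δ a)} :
    (QuotientAddGroup.mk c : Cyc.K0CohQuot δ a b) = 0 ↔ c ∈ filt δ a b :=
  QuotientAddGroup.eq_zero_iff c

theorem kc_add {a : ℤ} {S : ShortComplex X.Modules} (hS : S.ShortExact) (h₁ : Cyc.CohLe δ a S.X₁)
    (h₂ : Cyc.CohLe δ a S.X₂) (h₃ : Cyc.CohLe δ a S.X₃) :
    kc δ a S.X₂ = kc δ a S.X₁ + kc δ a S.X₃ := ResK0.Basic.clSub_add _ hS h₁ h₂ h₃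

theorem subsingleton_of_cohLe {a : ℤ} {F : X.Modules} (hF : Cyc.CohLe δ a F) {y : X} (hy : a < δ y) :
    Subsingleton (F.presheaf.stalk y) :=
  not_nontrivial_iff_subsingleton.1 fun h => (hy.trans_le (hF.2 y h)).false

variable [IsLocallyNoetherian X]

theorem cohLe_iso {a : ℤ} {A B : X.Modules} (e : A ≅ B) (hA : Cyc.CohLe δ a A) : Cyc.CohLe δ a B :=
  cohLe_of_epi e.hom hA (CohDev.isCoh_of_iso e hA.1).1

theorem kc_of_isZero {a : ℤ} {F : X.Modules} (h : IsZero F) : kc δ a F = 0 := by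
  have hF : Cyc.CohLe δ a F :=
    cohLe_of_subsingleton (CohDev.isCoh_of_isZero h) (subsingleton_stalk_of_isZero h) a
  let S := ShortComplex.mk (𝟙 F) (0 : F ⟶ F) (h.eq_of_tgt _ _)
  have hS : S.ShortExact :=
    { exact := ShortComplex.exact_of_isZero_X₂ _ h
      mono_f := inferInstanceAs (Mono (𝟙 F))
      epi_g := ⟨fun _ _ _ => h.eq_of_src _ _⟩ }
  have := kc_add hS hF hF hF
  simpa [S] using this.symm

theorem kc_iso {a : ℤ} {A B : X.Modules} (e : A ≅ B) : kc δ a A = kc δ a B := by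
  by_cases hA : Cyc.CohLe δ a A
  · have hz : IsZero (kernel e.hom) := isZero_kernel_of_mono e.hom
    let S := ShortComplex.mk (0 : kernel e.hom ⟶ A) e.hom zero_comp
    have hS : S.ShortExact :=
      { exact := by
          haveI : Mono S.g := inferInstanceAs (Mono e.hom)
          exact (S.exact_iff_mono rfl).mpr this
        mono_f := ⟨fun _ _ _ => hz.eq_of_tgt _ _⟩
        epi_g := inferInstanceAs (Epi e.hom) }
    exact (kc_add hS (cohLe_of_subsingleton (CohDev.isCoh_of_isZero hz) (subsingleton_stalk_of_isZero hz) a)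
      hA (cohLe_iso e hA)).trans (by rw [kc_of_isZero (δ := δ) (a := a) hz, zero_add])
  · have hB : ¬ Cyc.CohLe δ a B := fun h => hA (cohLe_iso e.symm h)
    simp only [kc, KZero.clSub, dif_neg hA, dif_neg hB]

theorem kc_biprod {a : ℤ} {A B : X.Modules} (hA : Cyc.CohLe δ a A) (hB : Cyc.CohLe δ a B) :
    kc δ a (A ⊞ B) = kc δ a A + kc δ a B :=
  kc_add (ShortComplex.Splitting.ofHasBinaryBiproduct A B).shortExact hA (cohLe_biprod hA hB) hB

theorem kc_map {a : ℤ} {A B : X.Modules} (g : A ⟶ B) (hA : Cyc.CohLe δ a A) (hB : Cyc.CohLe δ a B) :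
    kc δ a A - kc δ a (kernel g) = kc δ a B - kc δ a (cokernel g) := by
  have hK := cohLe_of_mono (kernel.ι g) (CohDev.isCoh_kernel g hA.1 hB.1.1).1 hA
  have hC := cohLe_of_epi (cokernel.π g) hB (CohDev.isCoh_cokernel g hA.1.1 hB.1).1
  have hI := cohLe_of_mono (Abelian.image.ι g) (CohDev.isCoh_image g hA.1 hB.1.1).1 hB
  let S1 := ShortComplex.mk (kernel.ι g) (Abelian.factorThruImage g) (by
    rw [← cancel_mono (Abelian.image.ι g), zero_comp, Category.assoc, Abelian.image.fac, kernel.condition])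
  have hS1 : S1.ShortExact :=
    { exact := by
        rw [ShortComplex.exact_iff_exact_up_to_refinements]
        intro Z z hz
        refine ⟨Z, 𝟙 Z, inferInstance, kernel.lift g z ?_, ?_⟩
        · rw [← Abelian.image.fac g, ← Category.assoc]
          exact (congrArg (· ≫ Abelian.image.ι g) hz).trans zero_comp
        · rw [Category.id_comp]; exact (kernel.lift_ι _ _ _).symm
      mono_f := inferInstanceAs (Mono (kernel.ι g))
      epi_g := inferInstanceAs (Epi (Abelian.factorThruImage g)) }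
  let S2 := ShortComplex.mk (kernel.ι (cokernel.π g)) (cokernel.π g) (kernel.condition _)
  have hS2 : S2.ShortExact :=
    { exact := S2.exact_of_f_is_kernel (kernelIsKernel _)
      mono_f := inferInstanceAs (Mono (kernel.ι (cokernel.π g)))
      epi_g := inferInstanceAs (Epi (cokernel.π g)) }
  have e1 := kc_add hS1 hK hA hI
  have e2 := kc_add hS2 hI hB hC
  change kc δ a A = kc δ a (kernel g) + kc δ a (Abelian.image g) at e1
  change kc δ a B = kc δ a (Abelian.image g) + kc δ a (cokernel g) at e2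
  rw [e1, e2]
  abel

variable (hd : Cyc.IsDimFun X δ)

include hd in
/-- Modules with the same lengths in dimension `m` have the same class modulo dimension `< m`. -/
theorem kc_sub_mem_of_sheafFun {a m : ℤ} (ha : m ≤ a) {A B : X.Modules} (hA : Cyc.CohLe δ m A)
    (hB : Cyc.CohLe δ m B) (h : Cyc.sheafFun δ m A = Cyc.sheafFun δ m B) :
    kc δ a A - kc δ a B ∈ filt δ a (m - 1) := by
  rw [← mk_eq_iff]
  have hA' := (cl_eq_cycle hd ha hA).2
  have hB' := (cl_eq_cycle hd ha hB).2
  rw [h] at hA'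
  exact hA'.trans hB'.symm

include hd in
/-- Modules with isomorphic stalks in dimension `m` have the same class modulo dimension `< m`. -/
theorem kc_sub_mem_of_stalk_equiv {a m : ℤ} (ha : m ≤ a) {A B : X.Modules} (hA : Cyc.CohLe δ m A)
    (hB : Cyc.CohLe δ m B)
    (h : ∀ y : X, δ y = m → Nonempty (A.presheaf.stalk y ≃ₗ[X.presheaf.stalk y] B.presheaf.stalk y)) :
    kc δ a A - kc δ a B ∈ filt δ a (m - 1) :=
  kc_sub_mem_of_sheafFun hd ha hA hB (funext fun y => by
    simp only [Cyc.sheafFun]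
    by_cases hy : δ y = m
    · rw [if_pos hy, if_pos hy, (h y hy).some.length_eq]
    · rw [if_neg hy, if_neg hy])

/-! ### Additive functions and twisting -/

/-- An additive function on coherent modules, as a homomorphism on `K₀`. -/
def lift (a : ℤ) {G : Type*} [AddCommGroup G] (f : X.Modules → G)
    (hf : ∀ S : ShortComplex X.Modules, S.ShortExact → Cyc.CohLe δ a S.X₁ → Cyc.CohLe δ a S.X₂ →
      Cyc.CohLe δ a S.X₃ → f S.X₂ = f S.X₁ + f S.X₃) : KZero.K0sub (Cyc.CohLe δ a) →+ G :=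
  QuotientAddGroup.lift _ (FreeAbelianGroup.lift fun F : Subtype (Cyc.CohLe (X := X) δ a) => f F.1)
    ((AddSubgroup.closure_le _).2 (by
      rintro _ ⟨S, h₁, h₂, h₃, hS, rfl⟩
      rw [SetLike.mem_coe, AddMonoidHom.mem_ker, map_sub, map_sub, FreeAbelianGroup.lift_apply_of,
        FreeAbelianGroup.lift_apply_of, FreeAbelianGroup.lift_apply_of, hf S hS h₁ h₂ h₃]
      abel))

omit [IsLocallyNoetherian X] in
theorem lift_kc {a : ℤ} {G : Type*} [AddCommGroup G] {f : X.Modules → G} {hf} {F : X.Modules}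
    (hF : Cyc.CohLe δ a F) : lift (δ := δ) a f hf (kc δ a F) = f F := by
  rw [kc, KZero.clSub, dif_pos hF]
  exact FreeAbelianGroup.lift_apply_of _ _

theorem stalk_equiv_tensor {N : X.Modules} (hN : PicF.IsInvertible N) (F : X.Modules) (y : X) :
    Nonempty ((CohB1.tensorMod N F).presheaf.stalk y ≃ₗ[X.presheaf.stalk y] F.presheaf.stalk y) := by
  obtain ⟨t, ht⟩ := exists_isBas hN y
  exact ⟨(LinearEquiv.ofBijective (Ref1.tfrom N F y)
      ⟨Ref1.tfrom_injective N F y, Ref1.tfrom_surjective N F y⟩).symm.trans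
    ((TensorProduct.congr (LinearEquiv.ofBijective _ ht).symm (LinearEquiv.refl _ _)).trans
      (TensorProduct.lid _ _))⟩

theorem isCoh_of_isInvertible {N : X.Modules} (hN : PicF.IsInvertible N) : Coh.IsCoh N :=
  haveI : N.IsQuasicoherent := ProjTwist.isQCoh_of_isInvertible hN
  ⟨ProjTwist.isQCoh_of_isInvertible hN, (QCoh.isFiniteType_iff _).mpr fun U hU =>
    haveI : N.IsQuasicoherent := ProjTwist.isQCoh_of_isInvertible hN
    LFDesc.finite_sections_of_frames N (fun x => by
      obtain ⟨V, e, hx, he⟩ := LFDesc.exists_frame_one hN x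
      exact ⟨V, 1, e, hx, he⟩) hU⟩

theorem cohLe_twist {a : ℤ} {N : X.Modules} (hN : PicF.IsInvertible N) {F : X.Modules}
    (hF : Cyc.CohLe δ a F) : Cyc.CohLe δ a (CohB1.tensorMod N F) :=
  ⟨Ref1.isCoh_tensorMod (isCoh_of_isInvertible hN) hF.1, fun x hx =>
    hF.2 x (stalk_equiv_tensor hN F x).some.symm.toEquiv.nontrivial⟩

/-- Twisting by an invertible module. -/
def tw (δ : X → ℤ) (a : ℤ) {N : X.Modules} (hN : PicF.IsInvertible N) :
    KZero.K0sub (Cyc.CohLe δ a) →+ KZero.K0sub (Cyc.CohLe δ a) :=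
  lift a (fun F => kc δ a (CohB1.tensorMod N F)) fun S hS h₁ h₂ h₃ =>
    kc_add (CohDev.tens_shortExact (ProjTwist.isFinLocFreeOfRank_one hN) hS)
      (cohLe_twist hN h₁) (cohLe_twist hN h₂) (cohLe_twist hN h₃)

theorem tw_kc {a : ℤ} {N : X.Modules} (hN : PicF.IsInvertible N) {F : X.Modules}
    (hF : Cyc.CohLe δ a F) : tw δ a hN (kc δ a F) = kc δ a (CohB1.tensorMod N F) := lift_kc hF

/-- `1 - [N ⊗ -]`, the first Chern class of the inverse of `N`. -/
def c1op (δ : X → ℤ) (a : ℤ) {N : X.Modules} (hN : PicF.IsInvertible N) :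
    KZero.K0sub (Cyc.CohLe δ a) →+ KZero.K0sub (Cyc.CohLe δ a) :=
  AddMonoidHom.id _ - tw δ a hN

theorem c1op_kc {a : ℤ} {N : X.Modules} (hN : PicF.IsInvertible N) {F : X.Modules}
    (hF : Cyc.CohLe δ a F) : c1op δ a hN (kc δ a F) = kc δ a F - kc δ a (CohB1.tensorMod N F) := by
  rw [c1op, AddMonoidHom.sub_apply, AddMonoidHom.id_apply, tw_kc hN hF]

include hd in
/-- The first Chern class lowers the dimension. -/
theorem c1op_mem {a m : ℤ} (ha : m ≤ a) {N : X.Modules} (hN : PicF.IsInvertible N)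
    {c : KZero.K0sub (Cyc.CohLe δ a)} (hc : c ∈ filt δ a m) : c1op δ a hN c ∈ filt δ a (m - 1) := by
  have hle : filt δ a m ≤ (filt δ a (m - 1)).comap (c1op δ a hN) := by
    refine (AddSubgroup.closure_le _).2 ?_
    rintro _ ⟨F, hF, rfl⟩
    rw [SetLike.mem_coe, AddSubgroup.mem_comap, c1op_kc hN (cohLe_mono ha hF)]
    exact kc_sub_mem_of_stalk_equiv hd ha hF (cohLe_twist hN hF)
      fun y _ => ⟨(stalk_equiv_tensor hN F y).some.symm⟩
  exact hle hc

/-- `∏ (1 - [M_i ⊗ -])`. -/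
def altOp (δ : X → ℤ) (a : ℤ) : ∀ {r : ℕ} (M : Fin r → X.Modules), (∀ i, PicF.IsInvertible (M i)) →
    (KZero.K0sub (Cyc.CohLe δ a) →+ KZero.K0sub (Cyc.CohLe δ a))
  | 0, _, _ => AddMonoidHom.id _
  | _ + 1, M, hM => (altOp δ a (fun i => M i.succ) fun i => hM i.succ).comp (c1op δ a (hM 0))

/-- Subsets of `Fin (r + 1)` with and without `0`. -/
theorem sum_finset_fin_succ {G : Type*} [AddCommMonoid G] {r : ℕ} (f : Finset (Fin (r + 1)) → G) :
    ∑ I : Finset (Fin (r + 1)), f I =
      ∑ J : Finset (Fin r), f (J.map (Fin.succEmb r)) +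
      ∑ J : Finset (Fin r), f (insert 0 (J.map (Fin.succEmb r))) := by
  classical
  let g : Finset (Fin r) ⊕ Finset (Fin r) → Finset (Fin (r + 1)) :=
    Sum.elim (fun J => J.map (Fin.succEmb r)) fun J => insert 0 (J.map (Fin.succEmb r))
  have h0 : ∀ J : Finset (Fin r), (0 : Fin (r + 1)) ∉ J.map (Fin.succEmb r) := fun J h => by
    obtain ⟨i, -, hi⟩ := Finset.mem_map.1 h
    exact Fin.succ_ne_zero i hi
  have hg : Function.Bijective g := by
    rw [Fintype.bijective_iff_injective_and_card]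
    refine ⟨?_, by simp [pow_succ, mul_comm, two_mul]⟩
    rintro (J | J) (J' | J') h <;> simp only [g, Sum.elim_inl, Sum.elim_inr] at h
    · rw [Finset.map_inj.1 h]
    · exact absurd (h ▸ Finset.mem_insert_self _ _) (h0 J)
    · exact absurd (h ▸ Finset.mem_insert_self _ _) (h0 J')
    · rw [Finset.map_inj.1 (((congrArg (fun s => Finset.erase s 0) h).trans
        (Finset.erase_insert (h0 J'))) |> (Finset.erase_insert (h0 J)).symm.trans)]
  rw [← hg.sum_comp f, Fintype.sum_sum_type]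
  rfl

theorem sort_map_succ {r : ℕ} (J : Finset (Fin r)) :
    (J.map (Fin.succEmb r)).sort (· ≤ ·) = (J.sort (· ≤ ·)).map Fin.succ :=
  (Finset.map_sort (r := (· ≤ ·)) (r' := (· ≤ ·)) (f := Fin.succEmb r) (s := J)
    fun _ _ _ _ => Fin.succ_le_succ_iff.symm).symm

theorem sort_insert_zero {r : ℕ} (J : Finset (Fin r)) :
    (insert 0 (J.map (Fin.succEmb r))).sort (· ≤ ·) = 0 :: (J.sort (· ≤ ·)).map Fin.succ := by
  rw [Finset.sort_insert (r := (· ≤ ·)) (fun b _ => Fin.zero_le b) (fun h => by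
    obtain ⟨i, -, hi⟩ := Finset.mem_map.1 h
    exact Fin.succ_ne_zero i hi), sort_map_succ]

/-- The value of the operator on a class. -/
theorem altOp_kc {a : ℤ} : ∀ {r : ℕ} (M : Fin r → X.Modules) (hM : ∀ i, PicF.IsInvertible (M i))
    {F : X.Modules}, Cyc.CohLe δ a F →
    altOp δ a M hM (kc δ a F) = ∑ I : Finset (Fin r), ((-1 : ℤ) ^ I.card) •
      kc δ a (CohB1.tensorMod (FGA.tensorList ((I.sort (· ≤ ·)).map M)) F)
  | 0, M, hM, F, hF => by
    rw [Fintype.sum_unique]
    change kc δ a F = _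
    simp only [Finset.sort_empty, Finset.card_empty, List.map_nil, FGA.tensorList,
      Subsingleton.elim (default : Finset (Fin 0)) ∅, pow_zero, one_smul]
    exact kc_iso (ProjTwist.oneTens F).symm
  | r + 1, M, hM, F, hF => by
    rw [altOp, AddMonoidHom.comp_apply, c1op_kc _ hF, map_sub,
      altOp_kc _ _ hF, altOp_kc _ _ (cohLe_twist (hM 0) hF), sum_finset_fin_succ, sub_eq_add_neg,
      ← Finset.sum_neg_distrib]
    congr 1
    · refine Finset.sum_congr rfl fun J _ => ?_
      rw [sort_map_succ, List.map_map, Finset.card_map]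
      rfl
    · refine Finset.sum_congr rfl fun J _ => ?_
      rw [sort_insert_zero, Finset.card_insert_of_notMem (fun h => by
        obtain ⟨i, -, hi⟩ := Finset.mem_map.1 h
        exact Fin.succ_ne_zero i hi), Finset.card_map, pow_succ, mul_neg_one, neg_smul, neg_inj,
        List.map_cons, List.map_map, FGA.tensorList]
      refine congrArg _ (kc_iso ?_)
      exact (ProjTwist.tensAssoc _ _ _).symm ≪≫
        ProjTwist.tensCongr (ProjTwist.tensComm _ _) (Iso.refl F)

include hd in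
/-- The product lowers the dimension by the number of factors. -/
theorem altOp_mem {a : ℤ} : ∀ {r : ℕ} (M : Fin r → X.Modules) (hM : ∀ i, PicF.IsInvertible (M i))
    {m : ℤ}, m ≤ a → ∀ {c : KZero.K0sub (Cyc.CohLe δ a)}, c ∈ filt δ a m →
      altOp δ a M hM c ∈ filt δ a (m - r)
  | 0, M, hM, m, _, c, hc => by simpa [altOp] using hc
  | r + 1, M, hM, m, hm, c, hc => by
    have := altOp_mem (fun i => M i.succ) (fun i => hM i.succ) (m := m - 1) (by omega)
      (c1op_mem hd hm (hM 0) hc)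
    rw [show m - ((r + 1 : ℕ) : ℤ) = m - 1 - r by push_cast; ring]
    exact this

/-- Below dimension zero there is nothing. -/
theorem eq_zero_of_mem_filt {a m : ℤ} (hm : ∀ x : X, m < δ x) {c : KZero.K0sub (Cyc.CohLe δ a)}
    (hc : c ∈ filt δ a m) : c = 0 := by
  have hle : filt δ a m ≤ ⊥ := by
    refine (AddSubgroup.closure_le _).2 ?_
    rintro _ ⟨F, hF, rfl⟩
    exact kc_of_isZero (CohDev.isZero_of_support_eq_empty (Set.eq_empty_iff_forall_notMem.2
      fun x hx => hx (subsingleton_of_cohLe hF (hm x))))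
  simpa using hle hc

end Groth.Agent.RefChK0
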