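import Groth.Agent.RefChK0.Common
import Groth.Agent.EulerChar.Basic
import Groth.Agent.EulerChar.Deg
import Groth.Agent.CohTop.Vanishing
import Groth.Agent.ProjProper.Basic
import Groth.Agent.CycLib.FieldDelta
import Groth.Agent.LFFrame.Basic

/-!
# Euler characteristics of the classes, and reflexive powers
-/

set_option autoImplicit false
set_option linter.style.haveILetI false

universe u

open CategoryTheory Limits AlgebraicGeometry TopologicalSpace

noncomputable section

namespace Groth.Agent.RefChK0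

open Groth.Agent.Ref1 CycLib.Dev

variable {X : Scheme.{u}} (k : Type u) [Field k] [X.Over (Spec (CommRingCat.of k))]

theorem isProper_of_proj
    (hproj : ∃ (N : ℕ) (ι : X ⟶ CohB1.ProjSpace N k), IsClosedImmersion ι ∧
      ι ≫ CohB1.ProjSpace.toSpec N k = X ↘ Spec (CommRingCat.of k)) :
    IsProper (X ↘ Spec (CommRingCat.of k)) := by
  obtain ⟨N, ι, hι, e⟩ := hproj
  haveI := hι
  haveI : IsProper (CohB1.ProjSpace.toSpec N k) := ProjProper.Basic.isProper_toSpec N k
  rw [← e]
  infer_instance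

variable [IsProper (X ↘ Spec (CommRingCat.of k))]

/-- Above the dimension there is no cohomology, so the truncated Euler characteristic is the full one. -/
theorem eulerCharLE_eq {d : ℕ} (hd : topologicalKrullDim X ≤ d) (M : X.Modules) :
    FGA.eulerCharLE k X M d = Curv2.euler k X M := by
  haveI := EulerChar.isNoetherian k (X := X)
  haveI : NoetherianSpace X.toTopCat := inferInstanceAs (NoetherianSpace X)
  rw [EulerChar.euler_eq_sum k (t := d + 1) fun p hp =>
    CohTop.Vanishing.grothendieck_vanishing (X := X.toTopCat) d hd (Coh.toAb M) p (by omega)]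
  rfl

omit [IsProper (X ↘ Spec (CommRingCat.of k))] in
include k in
/-- A dimension function with a given value at the generic point. -/
theorem exists_dimFun [IsIntegral X] [LocallyOfFiniteType (X ↘ Spec (CommRingCat.of k))] (n : ℕ) :
    ∃ δ : X → ℤ, Cyc.IsDimFun X δ ∧ δ (genericPoint X) = (n : ℤ) := by
  let f := CycLib.fdelta k (X ↘ Spec (CommRingCat.of k))
  refine ⟨fun x => f x - f (genericPoint X) + n, fun x y hxy hne => ?_, by ring⟩
  obtain ⟨h1, h2⟩ := CycLib.isDimFun_fdelta k (X ↘ Spec (CommRingCat.of k)) x y hxy hne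
  refine ⟨by simp only [f]; omega, fun h => ?_⟩
  have := h2 h
  simp only [f]
  omega

theorem eulerCharLE_add {d : ℕ} (hd : topologicalKrullDim X ≤ d) {S : ShortComplex X.Modules}
    (hS : S.ShortExact) (h₁ : Coh.IsCoh S.X₁) (h₂ : Coh.IsCoh S.X₂) (h₃ : Coh.IsCoh S.X₃) :
    FGA.eulerCharLE k X S.X₂ d = FGA.eulerCharLE k X S.X₁ d + FGA.eulerCharLE k X S.X₃ d := by
  rw [eulerCharLE_eq k hd, eulerCharLE_eq k hd, eulerCharLE_eq k hd]
  exact EulerChar.euler_add k hS h₁ h₂ h₃

/-- The Euler characteristic on `K₀`. -/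
def chiHom (δ : X → ℤ) (a : ℤ) {d : ℕ} (hd : topologicalKrullDim X ≤ d) :
    KZero.K0sub (Cyc.CohLe δ a) →+ ℤ :=
  lift a (fun F => FGA.eulerCharLE k X F d) fun _ hS h₁ h₂ h₃ => eulerCharLE_add k hd hS h₁.1 h₂.1 h₃.1

theorem chiHom_kc {δ : X → ℤ} {a : ℤ} {d : ℕ} (hd : topologicalKrullDim X ≤ d) {F : X.Modules}
    (hF : Cyc.CohLe δ a F) : chiHom k δ a hd (kc δ a F) = FGA.eulerCharLE k X F d := lift_kc hF

/-- An intersection number as the Euler characteristic of the operator. -/
theorem intNum_eq [IsLocallyNoetherian X] {δ : X → ℤ} {a : ℤ} {d : ℕ} (hd : topologicalKrullDim X ≤ d) {r : ℕ}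
    (M : Fin r → X.Modules) (hM : ∀ i, PicF.IsInvertible (M i))
    (hlist : ∀ {F : X.Modules}, Cyc.CohLe δ a F → ∀ I : Finset (Fin r),
      Cyc.CohLe δ a (CohB1.tensorMod (FGA.tensorList ((I.sort (· ≤ ·)).map M)) F))
    {F : X.Modules} (hF : Cyc.CohLe δ a F) :
    FGA.intNum k X d M F = chiHom k δ a hd (altOp δ a M hM (kc δ a F)) := by
  rw [altOp_kc M hM hF, map_sum, FGA.intNum]
  refine Finset.sum_congr rfl fun I _ => ?_
  rw [map_zsmul, chiHom_kc k hd (hlist hF I), smul_eq_mul]

omit [X.Over (Spec (CommRingCat.of k))] [IsProper (X ↘ Spec (CommRingCat.of k))] in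
theorem isInvertible_tensorList : ∀ l : List X.Modules, (∀ M ∈ l, PicF.IsInvertible M) →
    PicF.IsInvertible (FGA.tensorList l)
  | [], _ => LFFrame.isInvertible_structureModule X
  | M :: l, h => PicLaw.isInvertible_tensor (h M (List.mem_cons_self ..))
      (isInvertible_tensorList l fun N hN => h N (List.mem_cons_of_mem _ hN))

theorem intNum_eq' [IsLocallyNoetherian X] {δ : X → ℤ} {a : ℤ} {d : ℕ} (hd : topologicalKrullDim X ≤ d) {r : ℕ}
    (M : Fin r → X.Modules) (hM : ∀ i, PicF.IsInvertible (M i)) {F : X.Modules} (hF : Cyc.CohLe δ a F) :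
    FGA.intNum k X d M F = chiHom k δ a hd (altOp δ a M hM (kc δ a F)) :=
  intNum_eq k hd M hM (fun {_} hG I => cohLe_twist (isInvertible_tensorList _ fun N hN => by
    obtain ⟨i, -, rfl⟩ := List.mem_map.1 hN
    exact hM i) hG) hF

end Groth.Agent.RefChK0
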