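import Groth.Agent.RefChK0.Lattice
import Groth.Prelude.Def_RefPow
import Groth.Prelude.Def_KZero
import Groth.Agent.PicLaw.Calc

/-!
# Classes of rank one reflexive modules modulo codimension two
-/

set_option autoImplicit false
set_option linter.style.haveILetI false

universe u

open CategoryTheory Limits AlgebraicGeometry

noncomputable section

namespace Groth.Agent.RefChK0

open Groth.Agent.HomShQC Groth.Agent.Ref1 CycLib.Dev

variable {X : Scheme.{u}} [IsIntegral X] [IsLocallyNoetherian X] {δ : X → ℤ}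
  (hd : Cyc.IsDimFun X δ)

local notation "η" => genericPoint X

omit [IsLocallyNoetherian X] in
include hd in
theorem δ_nonneg {n : ℕ} (hdim : topologicalKrullDim X = n) (hη : δ η = n) (x : X) : 0 ≤ δ x := by
  obtain ⟨m, hm, hm'⟩ := CycLib.ringKrullDim_stalk hd x
  have h : ringKrullDim (X.presheaf.stalk x) ≤ topologicalKrullDim X := by
    rw [ringKrullDim_stalk_eq_coheight]
    exact (Order.coheight_le_krullDim x).trans
      (le_of_eq (@Order.krullDim_eq_of_orderIso _ _ _ _ (irreducibleSetEquivPoints (α := X))).symm)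
  rw [hm', hdim] at h
  have : m ≤ n := by exact_mod_cast h
  omega

include hd in
/-- `[O_X] - [ℒ]` is supported in codimension one. -/
theorem ref1_sub_mem {ℒ : X.Modules} (hℒ : RefHull.IsRef1 ℒ) :
    kc δ (δ η) (Coh.structureModule X) - kc δ (δ η) ℒ ∈ filt δ (δ η) (δ η - 1) := by
  refine kc_sub_mem_of_stalk_equiv hd le_rfl (cohLe_top hd isRef1_structureModule.1) (cohLe_top hd hℒ.1)
    fun y hy => ?_
  obtain rfl := eq_η hd hy
  obtain ⟨e⟩ := rankOne_of_isRef1 hℒ
  exact ⟨(unitStalk _).symm.trans e⟩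

include hd in
/-- Additivity in the divisor modulo codimension two. -/
theorem refTensor_sub_mem (hnorm : Pi1.IsNormalScheme X) {ℒ₁ ℒ₂ : X.Modules} (h₁ : RefHull.IsRef1 ℒ₁)
    (h₂ : RefHull.IsRef1 ℒ₂) :
    kc δ (δ η) (RefPow.refTensor ℒ₁ ℒ₂) - kc δ (δ η) ℒ₁ -
      (kc δ (δ η) ℒ₂ - kc δ (δ η) (Coh.structureModule X)) ∈ filt δ (δ η) (δ η - 2) := by
  obtain ⟨s₁, hs₁⟩ := (rankOne_of_isRef1 h₁).exists_ne_zero
  obtain ⟨s₂, hs₂⟩ := (rankOne_of_isRef1 h₂).exists_ne_zero
  obtain ⟨hR, hne, hord⟩ := tensorSec_spec hnorm h₁ h₂ hs₁ hs₂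
  have hone : unitStalk η (1 : X.presheaf.stalk η) ≠ 0 := fun h =>
    one_ne_zero ((unitStalk η).injective (h.trans (map_zero _).symm))
  obtain ⟨b₁, f₁⟩ := exists_framed_ref1 hd hnorm h₁ hs₁
  obtain ⟨b₂, f₂⟩ := exists_framed_ref1 hd hnorm h₂ hs₂
  obtain ⟨b₁₂, f₁₂⟩ := exists_framed_ref1 hd hnorm hR hne
  obtain ⟨b₀, f₀⟩ := exists_framed_ref1 hd hnorm isRef1_structureModule hone
  refine kc_sub_eq_of_framed hd hnorm f₁₂ f₁ f₂ f₀ fun y hy => ?_
  have hco := coheight_one hd hy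
  rw [hord y hco, ordS_one hco]
  ring

include hd in
/-- The class of a torsion free module modulo codimension two. -/
theorem sub_rank_add_det_mem (hnorm : Pi1.IsNormalScheme X) {r : ℕ} {F W : X.Modules} (hF : Coh.IsCoh F)
    (hFtf : TorSh.IsTorsionFree F)
    (hrk : Module.finrank (X.presheaf.stalk η) (F.presheaf.stalk η) = r) (hW : ExtPow.IsExtPow r F W) :
    kc δ (δ η) F - r • kc δ (δ η) (Coh.structureModule X) -
      (kc δ (δ η) (RefHull.ddual W) - kc δ (δ η) (Coh.structureModule X)) ∈ filt δ (δ η) (δ η - 2) := by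
  haveI := hF.1
  obtain ⟨φ, hφ⟩ := hW
  let Φ : ExtPowSt.Sys r F W := ⟨φ, hφ⟩
  haveI := finite_stalk F hF.2 η
  obtain ⟨b⟩ : Nonempty (Module.Basis (Fin r) (X.presheaf.stalk η) (F.presheaf.stalk η)) := by
    letI : Field (X.presheaf.stalk η) := inferInstanceAs (Field X.functionField)
    exact ⟨Module.finBasisOfFinrankEq _ _ hrk⟩
  have hL : Coh.IsCoh W := ExtPowSt.isCoh Φ hF
  have hR := isRef1_ddual W hL (ExtPowSt.isRankOne_extPow Φ b)
  have hs : ExtPowSt.sη Φ (⇑b) ≠ 0 := fun h =>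
    ExtPowSt.wη_ne_zero Φ b ((bijective_bidual_η W hL).1 (h.trans (map_zero _).symm))
  have hone : unitStalk η (1 : X.presheaf.stalk η) ≠ 0 := fun h =>
    one_ne_zero ((unitStalk η).injective (h.trans (map_zero _).symm))
  obtain ⟨bO, fO⟩ := exists_framed_pow_O hd hnorm r
  obtain ⟨bW, fW⟩ := exists_framed_ref1 hd hnorm hR hs
  obtain ⟨b₀, f₀⟩ := exists_framed_ref1 hd hnorm isRef1_structureModule hone
  rw [← kc_pow hd isRef1_structureModule.1 r]
  refine kc_sub_eq_of_framed hd hnorm (framed_det hd hnorm hF hFtf Φ b) fO fW f₀ fun y hy => ?_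
  rw [ordS_one (coheight_one hd hy)]
  ring

theorem isInvertible_inverse {L M : X.Modules} (hL : PicF.IsInvertible L)
    (e : Nonempty (CohB1.tensorMod L M ≅ Coh.structureModule X)) : PicF.IsInvertible M :=
  e.elim fun i => AmpCrit.NegVan.isInvertible_of_inverse hL i

/-- The symbol of `O_D`, as the value of the operator. -/
theorem altOp_sub {a : ℤ} {r : ℕ} (M : Fin r → X.Modules) (hM : ∀ i, PicF.IsInvertible (M i))
    {O ℒ : X.Modules} (hO : Cyc.CohLe δ a O) (hℒ : Cyc.CohLe δ a ℒ) :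
    (∑ I : Finset (Fin r), ((-1 : ℤ) ^ I.card) •
      (kc δ a (CohB1.tensorMod (FGA.tensorList ((I.sort (· ≤ ·)).map M)) O) -
        kc δ a (CohB1.tensorMod (FGA.tensorList ((I.sort (· ≤ ·)).map M)) ℒ))) =
      altOp δ a M hM (kc δ a O - kc δ a ℒ) := by
  rw [map_sub, altOp_kc M hM hO, altOp_kc M hM hℒ, ← Finset.sum_sub_distrib]
  simp only [smul_sub]

theorem altOp_congr {a : ℤ} {r : ℕ} {M M' : Fin r → X.Modules} (h : M = M')
    (hM : ∀ i, PicF.IsInvertible (M i)) (hM' : ∀ i, PicF.IsInvertible (M' i)) :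
    altOp δ a M hM = altOp δ a M' hM' := by
  subst h; rfl

theorem altOp_cons {a : ℤ} {r : ℕ} {M : Fin r → X.Modules} {N : X.Modules}
    (hM : ∀ i, PicF.IsInvertible (M i)) (hN : PicF.IsInvertible N)
    (hNM : ∀ i, PicF.IsInvertible (Fin.cons (α := fun _ => X.Modules) N M i)) :
    altOp δ a (Fin.cons (α := fun _ => X.Modules) N M) hNM =
      (altOp δ a M hM).comp (c1op δ a hN) := by
  rw [altOp]
  rfl

include hd in
/-- Additivity of the first Chern class. -/
theorem altOp_cons_tensor {a m : ℤ} (hma : m ≤ a) {r : ℕ} {M : Fin r → X.Modules} {A B : X.Modules}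
    (hM : ∀ i, PicF.IsInvertible (M i)) (hA : PicF.IsInvertible A) (hB : PicF.IsInvertible B)
    (hAB : PicF.IsInvertible (CohB1.tensorMod A B)) {c : KZero.K0sub (Cyc.CohLe δ a)} (hc : c ∈ filt δ a m) :
    altOp δ a M hM (c1op δ a hAB c) - altOp δ a M hM (c1op δ a hA c) - altOp δ a M hM (c1op δ a hB c) ∈
      filt δ a (m - 2 - r) := by
  have key : ∀ c, tw δ a hAB c = tw δ a hA (tw δ a hB c) := by
    intro c
    obtain ⟨z, rfl⟩ := QuotientAddGroup.mk_surjective c
    induction z using FreeAbelianGroup.induction_on with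
    | zero => simp only [QuotientAddGroup.mk_zero, map_zero]
    | of F =>
      have hF : (QuotientAddGroup.mk (FreeAbelianGroup.of F) : KZero.K0sub (Cyc.CohLe δ a)) = kc δ a F.1 := by
        simp only [kc, KZero.clSub, dif_pos F.2]
      rw [hF, tw_kc hAB F.2, tw_kc hB F.2, tw_kc hA (cohLe_twist hB F.2)]
      exact kc_iso (ProjTwist.tensAssoc A B F.1)
    | neg F h => rw [QuotientAddGroup.mk_neg, map_neg, map_neg, map_neg, h]
    | add x y hx hy => rw [QuotientAddGroup.mk_add, map_add, map_add, map_add, hx, hy]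
  have hid : c1op δ a hAB c - c1op δ a hA c - c1op δ a hB c = -c1op δ a hA (c1op δ a hB c) := by
    simp only [c1op, AddMonoidHom.sub_apply, AddMonoidHom.id_apply, map_sub, key]
    abel
  rw [← map_sub, ← map_sub, hid, map_neg]
  refine neg_mem ?_
  have h1 := c1op_mem hd (m := m - 1) (by omega) hA (c1op_mem hd hma hB hc)
  have h2 := altOp_mem hd M hM (m := m - 1 - 1) (by omega) h1
  rwa [show m - 1 - 1 - (r : ℤ) = m - 2 - r by ring] at h2

end Groth.Agent.RefChK0
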