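import Groth.Agent.RefChK0.Pow
import Groth.Agent.CycLib.SheafSpec
import Groth.Agent.Ref1.Cycle
import Groth.Agent.Ref1.PowAffine
import Groth.Agent.Omega.Stalks
import Groth.Agent.AmpleLib.Span

/-!
# Divisors and their lattices in the function field
-/

set_option autoImplicit false
set_option linter.style.haveILetI false

universe u

open CategoryTheory Limits AlgebraicGeometry

noncomputable section

namespace Groth.Agent.RefChK0

open Groth.Agent.HomShQC Groth.Agent.Ref1 Groth.Agent.PullStalk.Sky Groth.Agent.PullStalk.Exact CycLib.Dev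

variable {X : Scheme.{u}} [IsIntegral X] [IsLocallyNoetherian X]

local notation "η" => genericPoint X
local notation "K" => Scheme.functionField X

/-- A divisor is the order of a rational section of a rank one reflexive module. -/
def IsDiv (D : X → ℤ) : Prop :=
  ∃ (F : X.Modules) (s : F.presheaf.stalk η), RefHull.IsRef1 F ∧ s ≠ 0 ∧
    ∀ y : X, Order.coheight y = 1 → ordS F y s = D y

/-- Membership in the lattice of a divisor at a point. -/
def InLat (D : X → ℤ) (x : X) (a : K) : Prop :=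
  a = 0 ∨ ∀ y : X, y ⤳ x → Order.coheight y = 1 → 0 ≤ Scheme.ord a y + D y

/-- The lattice of a divisor at a point. -/
def lat (D : X → ℤ) (x : X) : Submodule (X.presheaf.stalk x) K :=
  Submodule.span _ {a | InLat D x a}

theorem IsDiv.congr {D D' : X → ℤ} (h : IsDiv D) (e : ∀ y, Order.coheight y = 1 → D y = D' y) : IsDiv D' := by
  obtain ⟨F, s, hF, hs, hD⟩ := h
  exact ⟨F, s, hF, hs, fun y hy => (hD y hy).trans (e y hy)⟩

theorem unit_one_ne_zero : unitStalk η (1 : X.presheaf.stalk η) ≠ 0 :=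
  fun h => one_ne_zero ((unitStalk η).injective (h.trans (map_zero _).symm))

theorem isDiv_zero : IsDiv (0 : X → ℤ) :=
  ⟨_, _, isRef1_structureModule, unit_one_ne_zero, fun _ hy => ordS_one hy⟩

variable (hX : Pi1.IsNormalScheme X)

include hX

theorem IsDiv.add {D E : X → ℤ} (hD : IsDiv D) (hE : IsDiv E) : IsDiv (D + E) := by
  obtain ⟨F, s, hF, hs, eF⟩ := hD
  obtain ⟨G, t, hG, ht, eG⟩ := hE
  obtain ⟨hR, hne, h⟩ := tensorSec_spec hX hF hG hs ht
  exact ⟨_, _, hR, hne, fun y hy => by rw [h y hy, eF y hy, eG y hy, Pi.add_apply]⟩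

theorem IsDiv.neg {D : X → ℤ} (hD : IsDiv D) : IsDiv (-D) := by
  obtain ⟨F, s, hF, hs, eF⟩ := hD
  obtain ⟨w, hw, ew⟩ := exists_dualSec hX hF hs
  exact ⟨_, w, isRef1_dual hF, hw, fun y hy => by rw [ew y hy, eF y hy, Pi.neg_apply]⟩

theorem IsDiv.sub {D E : X → ℤ} (hD : IsDiv D) (hE : IsDiv E) : IsDiv (D - E) :=
  sub_eq_add_neg D E ▸ hD.add hX (hE.neg hX)

theorem isDiv_ord {f : K} (hf : f ≠ 0) : IsDiv (fun y => Scheme.ord f y) :=
  ⟨_, _, isRef1_structureModule, fun h => hf ((unitStalk η).injective (h.trans (map_zero _).symm)),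
    fun _ hy => ordS_unit hy hf⟩

omit hX in
theorem exists_coe_smul {F : X.Modules} (hF : RefHull.IsRef1 F) {s : F.presheaf.stalk η} (hs : s ≠ 0) {x : X}
    (v : F.presheaf.stalk x) : ∃ a : K, a • s = toη F x v := by
  obtain ⟨a, ha⟩ := (rankOne_of_isRef1 hF).exists_smul hs (toη F x v)
  exact ⟨a, ha.symm⟩

/-- The lattice in terms of a module. -/
theorem inLat_iff {F : X.Modules} (hF : RefHull.IsRef1 F) {s : F.presheaf.stalk η} (hs : s ≠ 0) {D : X → ℤ}
    (hD : ∀ y : X, Order.coheight y = 1 → ordS F y s = D y) (x : X) (a : K) :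
    InLat D x a ↔ a • s ∈ Set.range (toη F x) := by
  constructor
  · intro h
    by_cases ha : a = 0
    · exact ⟨0, by rw [map_zero, ha, zero_smul]⟩
    refine mem_range_of_codim_one hX _ hF.1 hF.2.1 x _ fun y hyx hy => ?_
    have hy' := coheight_eq_one hy
    obtain ⟨_, hdvr⟩ := VarDim.isDiscreteValuationRing_stalk_of_coheight_eq_one hX y hy'
    obtain ⟨e, φ, hge, hφ, hσφ, e1⟩ := exists_coord hX hF hy' hs
    have h0 := (h.resolve_left ha) y hyx hy'
    rw [← hD y hy', e1, ← ord_mul' ha hφ] at h0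
    obtain ⟨c, hc⟩ : (a * φ) ∈ Set.range (toK y) := by
      rcases ValuationRing.isInteger_or_isInteger (X.presheaf.stalk y) (a * φ : X.functionField) with
        ⟨c, hc⟩ | ⟨c, hc⟩
      · exact ⟨c, hc⟩
      · have hne' : (a * φ : X.functionField) ≠ 0 := mul_ne_zero ha hφ
        have hc0 : c ≠ 0 := by rintro rfl; exact inv_ne_zero hne' (by rw [← hc, map_zero])
        have h1 : Scheme.ord (toK y c) y = - Scheme.ord (a * φ) y := by
          rw [toK_eq_algebraMap, hc]; exact ord_inv' hne'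
        have h2 : 0 ≤ Scheme.ord (toK y c) y := by rw [ord_toK hy' hc0]; exact Int.natCast_nonneg _
        obtain ⟨u, -, hu⟩ := exists_unit_of_ord_eq_zero hy' hne' (by omega)
        exact ⟨u, hu⟩
    exact ⟨c • e, by rw [toη, sp_smul, hσφ, smul_smul]; exact congrArg (· • _) hc⟩
  · rintro ⟨v, hv⟩
    refine or_iff_not_imp_left.mpr fun ha y hyx hy => ?_
    obtain ⟨e, φ, hge, hφ, hσφ, e1⟩ := exists_coord hX hF hy hs
    obtain ⟨b, hb⟩ := hge.exists_eq (sp F hyx v)
    have h2 : toK y b • toη F y e = (a * φ) • toη F y e := by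
      rw [toη, ← sp_smul, hb, sp_sp, mul_smul, ← hσφ]
      exact hv
    have hab : toK y b = a * φ := by
      refine sub_eq_zero.mp ((rankOne_of_isRef1 hF).eq_zero_or _ _ (?_ : (toK y b - a * φ) • toη F y e = 0) |>.resolve_right hge.2)
      rw [sub_smul, h2, sub_self]
    have hb0 : b ≠ 0 := fun h => mul_ne_zero ha hφ (by rw [← hab, h, map_zero])
    rw [← hD y hy, e1, ← ord_mul' ha hφ, ← hab, ord_toK hy hb0]
    exact Int.natCast_nonneg _

theorem mem_lat {D : X → ℤ} (hD : IsDiv D) {x : X} {a : K} : a ∈ lat D x ↔ InLat D x a := by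
  refine ⟨fun h => ?_, fun h => Submodule.subset_span h⟩
  obtain ⟨F, s, hF, hs, eD⟩ := hD
  rw [inLat_iff hX hF hs eD]
  induction h using Submodule.span_induction with
  | mem a ha => exact (inLat_iff hX hF hs eD x a).1 ha
  | zero => exact ⟨0, by rw [map_zero, zero_smul]⟩
  | add a b _ _ ha hb =>
    obtain ⟨v, hv⟩ := ha; obtain ⟨w, hw⟩ := hb
    exact ⟨v + w, by rw [map_add, hv, hw, add_smul]⟩
  | smul r a _ ha =>
    obtain ⟨v, hv⟩ := ha
    refine ⟨r • v, ?_⟩
    rw [toη, sp_smul, ← toη, hv, smul_smul]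
    rfl

theorem mem_lat_iff {F : X.Modules} (hF : RefHull.IsRef1 F) {s : F.presheaf.stalk η} (hs : s ≠ 0) {D : X → ℤ}
    (hD : ∀ y : X, Order.coheight y = 1 → ordS F y s = D y) {x : X} {a : K} :
    a ∈ lat D x ↔ a • s ∈ Set.range (toη F x) := by
  rw [mem_lat hX ⟨F, s, hF, hs, hD⟩, inLat_iff hX hF hs hD]

omit hX in
theorem InLat.mul {D E : X → ℤ} {x : X} {a b : K} (ha : InLat D x a) (hb : InLat E x b) :
    InLat (D + E) x (a * b) := by
  refine or_iff_not_imp_left.2 fun h y hyx hy => ?_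
  obtain ⟨ha0, hb0⟩ := mul_ne_zero_iff.1 h
  have h1 := ha.resolve_left ha0 y hyx hy
  have h2 := hb.resolve_left hb0 y hyx hy
  have h3 : Scheme.ord (a * b) y = Scheme.ord a y + Scheme.ord b y := Scheme.ord_mul ha0 hb0
  rw [h3, Pi.add_apply]
  omega

theorem mul_mem_lat {D E : X → ℤ} (hD : IsDiv D) (hE : IsDiv E) {x : X} {a b : K}
    (ha : a ∈ lat D x) (hb : b ∈ lat E x) : a * b ∈ lat (D + E) x :=
  (mem_lat hX (hD.add hX hE)).2 (((mem_lat hX hD).1 ha).mul ((mem_lat hX hE).1 hb))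

theorem inLat_zero_iff {x : X} {a : K} :
    InLat 0 x a ↔ ∃ r : X.presheaf.stalk x, toK x r = a := by
  rw [inLat_iff hX isRef1_structureModule unit_one_ne_zero (D := 0) (fun _ hy => (ordS_one hy).trans rfl)]
  constructor
  · rintro ⟨v, hv⟩
    refine ⟨(unitStalk x).symm v, (unitStalk η).injective ?_⟩
    rw [toK, ← sp_unitStalk, LinearEquiv.apply_symm_apply]
    exact hv.trans (by rw [← map_smul]; exact congrArg _ (mul_one a))
  · rintro ⟨r, rfl⟩
    refine ⟨unitStalk x r, ?_⟩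
    rw [toη, sp_unitStalk, ← map_smul]
    exact congrArg _ (mul_one _).symm

theorem mem_lat_zero {x : X} {a : K} : a ∈ lat 0 x ↔ ∃ r : X.presheaf.stalk x, toK x r = a := by
  rw [mem_lat hX isDiv_zero, inLat_zero_iff hX]

theorem lat_mono {D E : X → ℤ} (h : ∀ y, Order.coheight y = 1 → D y ≤ E y) (x : X) : lat D x ≤ lat E x :=
  Submodule.span_mono fun a ha => by
    rcases ha with ha | ha
    · exact Or.inl ha
    · exact Or.inr fun y hyx hy => le_trans (ha y hyx hy) (by have := h y hy; omega)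

theorem fg_lat {D : X → ℤ} (hD : IsDiv D) (x : X) : (lat D x).FG := by
  obtain ⟨F, s, hF, hs, eD⟩ := hD
  haveI := hF.1.1
  haveI := finite_stalk F hF.1.2 x
  obtain ⟨n, v, hv⟩ := Module.Finite.exists_fin (R := X.presheaf.stalk x) (M := F.presheaf.stalk x)
  choose a ha using fun i => exists_coe_smul hF hs (v i)
  classical
  refine ⟨Finset.univ.image a, le_antisymm ?_ ?_⟩
  · rw [Submodule.span_le, Finset.coe_image, Finset.coe_univ, Set.image_univ]
    rintro _ ⟨i, rfl⟩
    exact (mem_lat_iff hX hF hs eD).2 ⟨v i, (ha i).symm⟩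
  · intro b hb
    obtain ⟨w, hw⟩ := (mem_lat_iff hX hF hs eD).1 hb
    obtain ⟨c, hc⟩ := (Submodule.mem_span_range_iff_exists_fun _).1 (hv.ge (Submodule.mem_top (x := w)))
    have e : b = ∑ i, c i • a i := by
      refine sub_eq_zero.1 (((rankOne_of_isRef1 hF).eq_zero_or _ _ ?_).resolve_right hs)
      rw [sub_smul, ← hw, ← hc, map_sum, Finset.sum_smul, sub_eq_zero]
      refine Finset.sum_congr rfl fun i _ => ?_
      rw [toη, sp_smul, ← toη, ← ha i, smul_smul]
      rfl
    rw [e]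
    exact sum_mem fun i _ => Submodule.smul_mem _ _ (Submodule.subset_span (by simp))

/-- In codimension one the lattice reaches the divisor. -/
theorem exists_gen {D : X → ℤ} (hD : IsDiv D) {x y : X} (hyx : y ⤳ x) (hy : Order.coheight y = 1) :
    ∃ u ∈ lat D x, u ≠ 0 ∧ Scheme.ord u y = - D y := by
  obtain ⟨F, s, hF, hs, eD⟩ := hD
  haveI := hF.1.1
  obtain ⟨e, φ, hge, hφ, hσφ, e1⟩ := exists_coord hX hF hy hs
  letI := CycLib.stalkModule F hyx
  haveI := CycLib.isLocalizedModule_spLin F hyx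
  obtain ⟨⟨v, c⟩, hvc⟩ := IsLocalizedModule.surj (CycLib.ptPrime x y hyx).asIdeal.primeCompl (CycLib.spLin F hyx) e
  obtain ⟨u, hu⟩ := exists_coe_smul hF hs v
  have hc : IsUnit (spR hyx c.1) := by
    have := c.2
    change c.1 ∉ RingHom.ker (Cyc.specMap x y hyx) at this
    rw [CycLib.ker_specMap_eq_comap, Ideal.mem_comap] at this
    exact IsLocalRing.notMem_maximalIdeal.1 this
  have h2 : u • s = toK y (spR hyx c.1) • toη F y e := by
    rw [hu, toη, toη, ← sp_smul, ← sp_sp F (hsp y) hyx]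
    exact congrArg _ hvc.symm
  have h3 : u * φ = toK y (spR hyx c.1) := by
    refine sub_eq_zero.1 (((rankOne_of_isRef1 hF).eq_zero_or (u * φ - toK y (spR hyx c.1)) (toη F y e) ?_).resolve_right hge.2)
    rw [sub_smul, mul_smul, ← hσφ, h2, sub_self]
  have hu0 : u ≠ 0 := fun h => by
    rw [h, zero_mul] at h3
    exact toK_ne_zero hc.ne_zero h3.symm
  refine ⟨u, (mem_lat_iff hX hF hs eD).2 ⟨v, hu.symm⟩, hu0, ?_⟩
  have h4 : Scheme.ord u y + Scheme.ord φ y = 0 := by
    rw [← ord_mul' hu0 hφ, h3, ord_toK_of_isUnit hy hc]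
  rw [← eD y hy, e1]
  omega

/-- An element carrying one lattice into the integers lies in the opposite one. -/
theorem mem_lat_neg {D : X → ℤ} (hD : IsDiv D) {x : X} {c : K} (h : ∀ a ∈ lat D x, c * a ∈ lat 0 x) :
    c ∈ lat (-D) x := by
  refine Submodule.subset_span (or_iff_not_imp_left.2 fun hc y hyx hy => ?_)
  obtain ⟨u, hu, hu0, e⟩ := exists_gen hX hD hyx hy
  have h1 := ((mem_lat hX isDiv_zero).1 (h u hu)).resolve_left (mul_ne_zero hc hu0) y hyx hy
  have h3 : Scheme.ord (c * u) y = Scheme.ord c y + Scheme.ord u y := Scheme.ord_mul hc hu0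
  rw [h3, e, Pi.zero_apply] at h1
  rw [Pi.neg_apply]
  omega

/-! ### Classes of divisors -/

/-- The class of a divisor. -/
def kd (δ : X → ℤ) (D : X → ℤ) : KZero.K0sub (Cyc.CohLe δ (δ η)) :=
  letI := Classical.propDecidable (IsDiv D)
  if h : IsDiv D then kc δ (δ η) (Classical.choose h) else 0

theorem kd_eq {δ : X → ℤ} {D : X → ℤ} {F : X.Modules} (hF : RefHull.IsRef1 F) {s : F.presheaf.stalk η}
    (hs : s ≠ 0) (hD : ∀ y : X, Order.coheight y = 1 → ordS F y s = D y) : kd δ D = kc δ (δ η) F := by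
  have h : IsDiv D := ⟨F, s, hF, hs, hD⟩
  rw [kd, dif_pos h]
  obtain ⟨t, hG, ht, eG⟩ := Classical.choose_spec h
  obtain ⟨e⟩ := iso_of_ordS_eq hX hG hF ht hs fun y hy => (eG y hy).trans (hD y hy).symm
  exact kc_iso e

variable {δ : X → ℤ} (hd : Cyc.IsDimFun X δ)

include hd in
theorem kd_mem_filt {D : X → ℤ} (hD : IsDiv D) : kd δ D ∈ filt δ (δ η) (δ η) := by
  obtain ⟨F, s, hF, hs, eD⟩ := hD
  rw [kd_eq hX hF hs eD]
  exact kc_mem_filt (cohLe_top hd hF.1)

include hd in
theorem kd_sub_mem {D E : X → ℤ} (hD : IsDiv D) (hE : IsDiv E) :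
    kd δ (D + E) - kd δ D - (kd δ E - kd δ 0) ∈ filt δ (δ η) (δ η - 2) := by
  obtain ⟨F, s, hF, hs, eF⟩ := hD
  obtain ⟨G, t, hG, ht, eG⟩ := hE
  obtain ⟨hR, hne, h⟩ := tensorSec_spec hX hF hG hs ht
  rw [kd_eq hX hF hs eF, kd_eq hX hG ht eG,
    kd_eq hX isRef1_structureModule unit_one_ne_zero (D := 0) (fun y hy => (ordS_one hy).trans rfl),
    kd_eq hX hR hne (D := D + E) fun y hy => by rw [h y hy, eF y hy, eG y hy, Pi.add_apply]]
  exact refTensor_sub_mem hd hX hF hG

include hd in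
/-- Adding a Cartier divisor is twisting. -/
theorem kd_add_cartier {D E : X → ℤ} {N : X.Modules} (hN : PicF.IsInvertible N) {t : N.presheaf.stalk η}
    (ht : t ≠ 0) (eN : ∀ y : X, Order.coheight y = 1 → ordS N y t = E y) (hD : IsDiv D) :
    kd δ (E + D) = tw δ (δ η) hN (kd δ D) := by
  obtain ⟨F, s, hF, hs, eF⟩ := hD
  have hNr := ExtPowSt.isRef1_of_isInvertible hN
  obtain ⟨hR, hne, h⟩ := tensorSec_spec hX hNr hF ht hs
  haveI := isIso_toRefTensor hN hF
  rw [kd_eq hX hF hs eF, tw_kc hN (cohLe_top hd hF.1),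
    kd_eq hX hR hne (D := E + D) fun y hy => by rw [h y hy, eN y hy, eF y hy, Pi.add_apply]]
  exact kc_iso (asIso (RefPow.toRefTensor N F)).symm

end Groth.Agent.RefChK0
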