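import Groth.Agent.RefChK0.Lattice
import Groth.Agent.PullStalk.Basic
import Groth.Agent.ZClosLib.CohDescent
import Groth.Prelude.Def_Frob
import Mathlib.RingTheory.TensorProduct.IsBaseChangeFree

/-!
# Framed modules and reflexive Frobenius pull-back: orders of determinants are multiplied by `p`
-/

set_option autoImplicit false
set_option linter.style.haveILetI false
set_option maxHeartbeats 800000

universe u

open CategoryTheory Limits AlgebraicGeometry

noncomputable section

namespace Groth.Agent.RefChK0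

open Groth.Agent.PullStalk.Sky Groth.Agent.PullStalk.Exact Groth.Agent.PullStalk.Basic Groth.Agent.HomShQC Groth.Agent.Ref1
open CycLib.Dev

variable {X : Scheme.{u}} (p : ℕ) [Fact p.Prime] [FrobSch.IsCharP X p]

local notation "F_" => FrobSch.frob X p

theorem stalkMap_frob (x : X) (r : X.presheaf.stalk x) : (F_).stalkMap x r = r ^ p := by
  obtain ⟨U, hxU, s, rfl⟩ := X.presheaf.exists_germ_eq (x := x) r
  refine ((F_).germ_stalkMap_apply U x hxU s).trans ?_
  rw [← map_pow]
  rfl

/-- The unit on stalks, at a point. -/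
abbrev fu (A : X.Modules) (x : X) :
    A.presheaf.stalk x →+ ((Scheme.Modules.pullback F_).obj A).presheaf.stalk x :=
  (unitStalkHom F_ A x).hom

theorem fu_smul (A : X.Modules) (x : X) (r : X.presheaf.stalk x) (t : A.presheaf.stalk x) :
    fu p A x (r • t) = r ^ p • fu p A x t := by
  rw [← stalkMap_frob p x r]
  exact unitStalkHom_smul F_ A x r t

theorem sp_fu (A : X.Modules) {y x : X} (h : y ⤳ x) (t : A.presheaf.stalk x) :
    sp ((Scheme.Modules.pullback F_).obj A) h (fu p A x t) = fu p A y (sp A h t) := by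
  obtain ⟨U, hxU, m, rfl⟩ := exists_germM_eq A x t
  refine (congrArg (sp _ h) (unitStalkHom_germ F_ A x U hxU m)).trans ?_
  refine (sp_germ _ h hxU _).trans ?_
  rw [sp_germ]
  exact (unitStalkHom_germ F_ A y U (h.mem_open U.2 hxU) m).symm

theorem span_fu (A : X.Modules) (x : X) {ι : Type*} (m : ι → A.presheaf.stalk x)
    (hm : Submodule.span (X.presheaf.stalk x) (Set.range m) = ⊤) :
    Submodule.span (X.presheaf.stalk x) (Set.range fun i => fu p A x (m i)) = ⊤ := by
  set S := Submodule.span (X.presheaf.stalk x) (Set.range fun i => fu p A x (m i))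
  have key : ∀ t : A.presheaf.stalk x, fu p A x t ∈ S := by
    intro t
    have ht : t ∈ Submodule.span (X.presheaf.stalk x) (Set.range m) := hm ▸ Submodule.mem_top
    induction ht using Submodule.span_induction with
    | mem a ha =>
      obtain ⟨i, rfl⟩ := ha
      exact Submodule.subset_span ⟨i, rfl⟩
    | zero => exact (map_zero (fu p A x)).symm ▸ zero_mem S
    | add a b _ _ ha hb => exact (map_add (fu p A x) a b).symm ▸ add_mem ha hb
    | smul r a _ ha => exact (fu_smul p A x r a).symm ▸ S.smul_mem _ ha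
  have h : S.mkQ = 0 :=
    hom_eq_of_unitStalk F_ _ _ fun t => (Submodule.Quotient.mk_eq_zero S).2 (key t)
  refine eq_top_iff.2 fun v _ => (Submodule.Quotient.mk_eq_zero S).1 ?_
  exact LinearMap.congr_fun h v

omit [Fact p.Prime] [FrobSch.IsCharP X p] in
/-- A basis of a stalk gives a basis of the stalk of the pull-back. -/
theorem exists_basis_pullback {Y : Scheme.{u}} (f : X ⟶ Y) (A : Y.Modules) (x : X) {ι : Type}
    (b : Module.Basis ι (Y.presheaf.stalk (f x)) (A.presheaf.stalk (f x))) :
    ∃ b' : Module.Basis ι (X.presheaf.stalk x) (((Scheme.Modules.pullback f).obj A).presheaf.stalk x),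
      ∀ i, b' i = unitStalkHom f A x (b i) := by
  letI := (f.stalkMap x).hom.toAlgebra
  letI := moduleOver f A x
  haveI : IsScalarTower (Y.presheaf.stalk (f x)) (X.presheaf.stalk x)
      (((Scheme.Modules.pullback f).obj A).presheaf.stalk x) :=
    IsScalarTower.of_algebraMap_smul fun _ _ => rfl
  have h := isBaseChange_unitStalk f A x
  exact ⟨h.basis b, fun i => h.basis_apply b i⟩

/-- A basis of a stalk gives a basis of the stalk of the Frobenius pull-back. -/
theorem exists_basis_fu (A : X.Modules) (x : X) {ι : Type}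
    (b : Module.Basis ι (X.presheaf.stalk x) (A.presheaf.stalk x)) :
    ∃ b' : Module.Basis ι (X.presheaf.stalk x) (((Scheme.Modules.pullback F_).obj A).presheaf.stalk x),
      ∀ i, b' i = fu p A x (b i) :=
  exists_basis_pullback F_ A x b

variable [IsIntegral X] [IsLocallyNoetherian X]

local notation "η" => genericPoint X

variable {δ : X → ℤ} (hd : Cyc.IsDimFun X δ)

include hd in
/-- The reflexive Frobenius pull-back of a framed module is framed, with orders multiplied by `p`. -/
theorem exists_framed_frob (hnorm : Pi1.IsNormalScheme X) {A A' : X.Modules}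
    (e : A' ≅ RefHull.ddual ((Scheme.Modules.pullback F_).obj A)) {r : ℕ}
    {b : Module.Basis (Fin r) (X.presheaf.stalk η) (A.presheaf.stalk η)} {f : X → ℤ}
    (hA : Framed δ A b f) :
    ∃ b' : Module.Basis (Fin r) (X.presheaf.stalk η) (A'.presheaf.stalk η),
      Framed δ A' b' fun y => (p : ℤ) * f y := by
  classical
  set P := (Scheme.Modules.pullback F_).obj A with hPdef
  have hP : Coh.IsCoh P := ZClosLib.CohDescent.isCoh_pullback F_ A hA.1
  obtain ⟨hR, hRr⟩ := isReflexive_ddual P hP
  let ν : ∀ x : X, P.presheaf.stalk x →ₗ[X.presheaf.stalk x] A'.presheaf.stalk x :=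
    fun x => stalkLin (RefHull.bidualMap P ≫ e.inv) x
  have hνsp : ∀ (y : X) (t : P.presheaf.stalk y), toη A' y (ν y t) = ν η (toη P y t) := fun y t =>
    sp_stalkMap _ (hsp y) t
  have hνb : ∀ (x : X) [Module.Free (X.presheaf.stalk x) (P.presheaf.stalk x)],
      Function.Bijective (ν x) := fun x _ => by
    have h := (CycLib.Dev.stalkLin_iso_bijective e.inv x).comp (bijective_bidual_of_free P hP x)
    rw [show ⇑(ν x) = ⇑(stalkLin e.inv x) ∘ ⇑(stalkLin (RefHull.bidualMap P) x) from
      funext (CohDev.stalkLin_comp_apply _ _ x)]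
    exact h
  obtain ⟨bP, hbP⟩ := exists_basis_fu p A η b
  haveI : Module.Free (X.presheaf.stalk η) (P.presheaf.stalk η) := Module.Free.of_basis bP
  let b' := bP.map (LinearEquiv.ofBijective (ν η) (hνb η))
  have hb' : ∀ i, b' i = ν η (fu p A η (b i)) := fun i => by
    rw [Module.Basis.map_apply, hbP]
    rfl
  let φ : X.presheaf.stalk η →+* X.presheaf.stalk η :=
    ((F_).stalkMap η).hom
  have hφ : ∀ c, φ c = c ^ p := stalkMap_frob p η
  have hdet : ∀ v : Fin r → A.presheaf.stalk η,
      b'.det (fun i => ν η (fu p A η (v i))) = b.det v ^ p := by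
    intro v
    have hv : (fun j => ν η (fu p A η (v j))) = fun j => ∑ i, φ (b.toMatrix v i j) • b' i := by
      funext j
      conv_lhs => rw [← b.sum_repr (v j)]
      rw [map_sum, map_sum]
      refine Finset.sum_congr rfl fun i _ => ?_
      rw [fu_smul, map_smul, hφ, hb', Module.Basis.toMatrix_apply]
    rw [hv, show (fun j => ∑ i, φ (b.toMatrix v i j) • b' i) =
        (fun j => ∑ i, (φ.mapMatrix (b.toMatrix v)) i j • b' i) from rfl,
      det_comb b' (⇑b') (φ.mapMatrix (b.toMatrix v)), b'.det_self, one_mul, ← hφ,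
      b.det_apply, RingHom.map_det]
  have hA'coh : Coh.IsCoh A' := CohDev.isCoh_of_iso e.symm hR
  refine ⟨b', hA'coh, fun y hy => ?_⟩
  have hco := coheight_one hd hy
  obtain ⟨hAi, m, hm, hmdet, hmf⟩ := hA.2 y hy
  refine ⟨?_, fun i => ν y (fu p A y (m i)), ?_, ?_⟩
  · intro s t hst
    refine (CycLib.Dev.stalkLin_iso_bijective e.hom y).1
      (toη_injective_of_isReflexive _ hR hRr y ?_)
    rw [show toη _ y (stalkLin e.hom y s) = stalkLin e.hom η (toη A' y s) from sp_stalkMap _ (hsp y) s,
      show toη _ y (stalkLin e.hom y t) = stalkLin e.hom η (toη A' y t) from sp_stalkMap _ (hsp y) t,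
      hst]
  · have hli : LinearIndependent (X.presheaf.stalk y) m := by
      rw [Fintype.linearIndependent_iff]
      intro c hc i
      have h1 := congrArg (toη A y) hc
      rw [map_sum, map_zero] at h1
      have h2 : ∑ i, toK y (c i) • toη A y (m i) = 0 :=
        (Finset.sum_congr rfl fun i _ => (sp_smul A (hsp y) (c i) (m i)).symm).trans h1
      exact toK_injective y ((Fintype.linearIndependent_iff.1
        ((b.is_basis_iff_det).2 (isUnit_of_ne_zero hmdet)).1 _ h2 i).trans (map_zero _).symm)
    obtain ⟨bm, -⟩ := exists_basis_fu p A y (Module.Basis.mk hli hm.ge)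
    haveI : Module.Free (X.presheaf.stalk y) (P.presheaf.stalk y) := Module.Free.of_basis bm
    rw [show (Set.range fun i => ν y (fu p A y (m i))) = ν y '' (Set.range fun i => fu p A y (m i)) from
      Set.range_comp (ν y) _, Submodule.span_image, span_fu p A y m hm, Submodule.map_top,
      LinearMap.range_eq_top.2 (hνb y).2]
  · have heq : (fun i => toη A' y (ν y (fu p A y (m i)))) = fun i => ν η (fu p A η (toη A y (m i))) := by
      funext i
      rw [hνsp]
      exact congrArg (ν η) (sp_fu p A (hsp y) (m i))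
    rw [heq, hdet]
    refine ⟨pow_ne_zero _ hmdet, ?_⟩
    have hord : ∀ n : ℕ, Scheme.ord ((b.det fun i => toη A y (m i)) ^ n) y = n * f y := by
      intro n
      induction n with
      | zero =>
        rw [pow_zero, ← map_one (toK y), ord_toK_of_isUnit hco isUnit_one]
        simp
      | succ n ih =>
        rw [pow_succ, ord_mul' (pow_ne_zero n hmdet) hmdet, ih, hmf]
        push_cast
        ring
    exact hord p

include hd in
/-- A torsion free module has some framing. -/
theorem exists_framed (hnorm : Pi1.IsNormalScheme X) {A : X.Modules} (hA : Coh.IsCoh A)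
    (hinj : ∀ y, Function.Injective (toη A y)) :
    ∃ (r : ℕ) (b : Module.Basis (Fin r) (X.presheaf.stalk η) (A.presheaf.stalk η)) (f : X → ℤ),
      Framed δ A b f := by
  classical
  haveI := hA.1
  haveI := finite_stalk A hA.2 η
  obtain ⟨b⟩ : Nonempty (Module.Basis (Fin (Module.finrank (X.presheaf.stalk η) (A.presheaf.stalk η)))
      (X.presheaf.stalk η) (A.presheaf.stalk η)) := by
    letI : Field (X.presheaf.stalk η) := inferInstanceAs (Field X.functionField)
    exact ⟨Module.finBasis _ _⟩
  have h : ∀ y : X, ∃ z : ℤ, δ y + 1 = δ η →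
      ∃ m, Submodule.span (X.presheaf.stalk y) (Set.range m) = ⊤ ∧
        b.det (fun i => toη A y (m i)) ≠ 0 ∧ Scheme.ord (b.det fun i => toη A y (m i)) y = z := by
    intro y
    by_cases hy : δ y + 1 = δ η
    · obtain ⟨_, hdvr⟩ := VarDim.isDiscreteValuationRing_stalk_of_coheight_eq_one hnorm y (coheight_one hd hy)
      obtain ⟨e, ε, hε, hspan⟩ := ExtPowSt.exists_lattice A hA y b
      refine ⟨_, fun _ => ⟨e, eq_top_iff.2 fun v _ => ?_, ?_, rfl⟩⟩
      · obtain ⟨c, hc⟩ := hspan v
        have : v = ∑ i, c i • e i := hinj y (by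
          rw [hc, map_sum]
          refine Finset.sum_congr rfl fun i _ => ?_
          rw [hε]
          exact (sp_smul A (hsp y) (c i) (e i)).symm)
        rw [this]
        exact Submodule.sum_mem _ fun i _ => Submodule.smul_mem _ _ (Submodule.subset_span ⟨i, rfl⟩)
      · rw [show (fun i => toη A y (e i)) = ⇑ε from funext fun i => (hε i).symm]
        exact (b.isUnit_det ε).ne_zero
    · exact ⟨0, fun h => absurd h hy⟩
  choose f hf using h
  exact ⟨_, b, f, hA, fun y hy => ⟨hinj y, hf y hy⟩⟩

include hd in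
/-- Proportional orders give proportional classes modulo codimension two. -/
theorem kc_sub_eq_nsmul_of_framed (hnorm : Pi1.IsNormalScheme X) (c : ℕ) {A B A' B' : X.Modules} {r r' : ℕ}
    {bA : Module.Basis (Fin r) (X.presheaf.stalk η) (A.presheaf.stalk η)}
    {bB : Module.Basis (Fin r) (X.presheaf.stalk η) (B.presheaf.stalk η)}
    {bA' : Module.Basis (Fin r') (X.presheaf.stalk η) (A'.presheaf.stalk η)}
    {bB' : Module.Basis (Fin r') (X.presheaf.stalk η) (B'.presheaf.stalk η)}
    {fA fB fA' fB' : X → ℤ}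
    (hA : Framed δ A bA fA) (hB : Framed δ B bB fB)
    (hA' : Framed δ A' bA' fA') (hB' : Framed δ B' bB' fB')
    (h : ∀ y, δ y + 1 = δ η → fA y - fB y = (c : ℤ) * (fA' y - fB' y)) :
    kc δ (δ η) A - kc δ (δ η) B - (c : ℤ) • (kc δ (δ η) A' - kc δ (δ η) B') ∈
      filt δ (δ η) (δ η - 2) := by
  obtain ⟨T₁, T₂, h₁, h₂, hdiff, hfun⟩ := exists_diff hd hnorm hA hB
  obtain ⟨S₁, S₂, g₁, g₂, gdiff, gfun⟩ := exists_diff hd hnorm hA' hB'
  have hle : δ η - 1 ≤ δ η := by omega
  have hpow : ∀ {S : X.Modules}, Cyc.CohLe δ (δ η - 1) S → ∀ j : ℕ,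
      Cyc.CohLe δ (δ η - 1) (CohDev.pow S j) ∧
      kc δ (δ η) (CohDev.pow S j) = (j : ℤ) • kc δ (δ η) S ∧
      Cyc.sheafFun δ (δ η - 1) (CohDev.pow S j) = (j : ℤ) • Cyc.sheafFun δ (δ η - 1) S := by
    intro S hS j
    induction j with
    | zero =>
      have hz : IsZero (CohDev.pow S 0) := by
        rw [IsZero.iff_id_eq_zero, ← biproduct.total]
        simp
      have hle' := fun a : ℤ => cohLe_of_subsingleton (δ := δ) (CohDev.isCoh_of_isZero hz)
        (subsingleton_stalk_of_isZero hz) a
      exact ⟨hle' _, by rw [kc_of_isZero hz]; simp, by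
        rw [sheafFun_eq_zero (show δ η - 1 - 1 < δ η - 1 by omega) (hle' _)]; simp⟩
    | succ j ih =>
      obtain ⟨i1, i2, i3⟩ := ih
      have hb := cohLe_biprod hS i1
      refine ⟨cohLe_iso (CohDev.powSucc S j).symm hb, ?_, ?_⟩
      · rw [kc_iso (CohDev.powSucc S j), kc_biprod (cohLe_mono hle hS) (cohLe_mono hle i1), i2,
          Nat.cast_succ, add_smul, one_smul, add_comm]
      · have hiso : Cyc.sheafFun δ (δ η - 1) (CohDev.pow S (j + 1)) =
            Cyc.sheafFun δ (δ η - 1) (S ⊞ CohDev.pow S j) := funext fun y => by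
          simp only [Cyc.sheafFun]
          rw [(LinearEquiv.ofBijective (stalkLin (CohDev.powSucc S j).hom y)
            (stalkLin_iso_bijective _ y)).length_eq]
        rw [hiso, sheafFun_biprod hd hS i1, i3, Nat.cast_succ, add_smul, one_smul, add_comm]
  obtain ⟨a1, a2, a3⟩ := hpow g₁ c
  obtain ⟨c1, c2, c3⟩ := hpow g₂ c
  have hs : Cyc.sheafFun δ (δ η - 1) (T₁ ⊞ CohDev.pow S₂ c) =
      Cyc.sheafFun δ (δ η - 1) (CohDev.pow S₁ c ⊞ T₂) := by
    rw [sheafFun_biprod hd h₁ c1, sheafFun_biprod hd a1 h₂, a3, c3]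
    funext y
    simp only [Pi.add_apply, Pi.smul_apply, smul_eq_mul]
    by_cases hy : δ y = δ η - 1
    · have e1 := hfun y hy
      have e2 := gfun y hy
      have e3 := h y (by omega)
      rw [← neg_inj, neg_sub, neg_sub] at e2
      linear_combination e1 + (c : ℤ) * e2 - e3
    · simp [Cyc.sheafFun, hy]
  have hk := kc_sub_mem_of_sheafFun hd hle (cohLe_biprod h₁ c1) (cohLe_biprod a1 h₂) hs
  rw [show δ η - 1 - 1 = δ η - 2 by omega, kc_biprod (cohLe_mono hle h₁) (cohLe_mono hle c1),
    kc_biprod (cohLe_mono hle a1) (cohLe_mono hle h₂), a2, c2] at hk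
  have := add_mem (sub_mem hdiff (AddSubgroup.zsmul_mem _ gdiff (c : ℤ))) hk
  convert this using 1
  simp only [smul_sub]
  abel

end Groth.Agent.RefChK0
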