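import Groth.Agent.OneDim.KrullAkizuki
import Mathlib.RingTheory.DedekindDomain.AdicValuation
import Mathlib.RingTheory.Ideal.MinimalPrime.Noetherian
import Mathlib.RingTheory.OrderOfVanishing.Basic
import Mathlib.RingTheory.LocalRing.RingHom.Basic
import Mathlib.Algebra.Module.Submodule.Union

/-!
# A generic member of a trace family cuts a one-dimensional quotient in bounded length

If `h` lies in the ideal generated by the values `μ v m`, then outside finitely many proper subspaces of
parameters `v` some `g = μ v m` satisfies `length R/(I, g) ≤ length R/(I, h)`.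
-/

set_option autoImplicit false
set_option linter.style.haveILetI false

universe u

namespace Groth.Agent.RefChK0.Gen

/-- `a • P` has colength that of `a` plus that of `P`. -/
theorem length_quotient_mul {A : Type u} [CommRing A] {a : A} (ha : IsSMulRegular A a) (P : Ideal A) :
    Module.length A (A ⧸ (Ideal.span {a} * P)) =
      Module.length A (A ⧸ P) + Module.length A (A ⧸ Ideal.span {a}) := by
  let f : (A ⧸ P) →ₗ[A] (A ⧸ (Ideal.span {a} * P)) :=
    Submodule.mapQ P (Ideal.span {a} * P) (LinearMap.lsmul A A a) fun z hz => by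
      rw [Submodule.mem_comap, LinearMap.lsmul_apply, smul_eq_mul]
      exact Ideal.mul_mem_mul (Ideal.mem_span_singleton_self a) hz
  let g : (A ⧸ (Ideal.span {a} * P)) →ₗ[A] (A ⧸ Ideal.span {a}) :=
    Submodule.factor Ideal.mul_le_left
  refine Module.length_eq_add_of_exact f g ?_ (Submodule.factor_surjective _) ?_
  · rw [injective_iff_map_eq_zero]
    intro z hz
    obtain ⟨z, rfl⟩ := Submodule.Quotient.mk_surjective P z
    rw [Submodule.mapQ_apply, Submodule.Quotient.mk_eq_zero, LinearMap.lsmul_apply, smul_eq_mul,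
      Ideal.mem_span_singleton_mul] at hz
    obtain ⟨w, hw, e⟩ := hz
    rw [Submodule.Quotient.mk_eq_zero, ← ha (show a • w = a • z from e)]
    exact hw
  · intro z
    obtain ⟨z, rfl⟩ := Submodule.Quotient.mk_surjective _ z
    constructor
    · intro hz
      rw [show g (Submodule.Quotient.mk z) = Submodule.Quotient.mk z from rfl,
        Submodule.Quotient.mk_eq_zero, Ideal.mem_span_singleton'] at hz
      obtain ⟨w, rfl⟩ := hz
      exact ⟨Submodule.Quotient.mk w, by rw [Submodule.mapQ_apply, LinearMap.lsmul_apply, smul_eq_mul, mul_comm a w]⟩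
    · rintro ⟨w, hw⟩
      obtain ⟨w, rfl⟩ := Submodule.Quotient.mk_surjective P w
      rw [Submodule.mapQ_apply] at hw
      rw [← hw]
      show Submodule.Quotient.mk (a • w) = 0
      rw [Submodule.Quotient.mk_eq_zero]
      exact Ideal.mul_mem_right _ _ (Ideal.mem_span_singleton_self a)

/-- An element integral over another cuts at least as much. -/
theorem length_le_of_sub_mem {A : Type u} [CommRing A] [IsNoetherianRing A] [Ring.KrullDimLE 1 A] {g h : A}
    (hg : g ∈ nonZeroDivisors A) (hh : h ∈ nonZeroDivisors A) {N : ℕ} {u : A}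
    (hu : u ∈ Ideal.span {g, h} ^ N) (e : h ^ (N + 1) = g * u) :
    Module.length A (A ⧸ Ideal.span {g}) ≤ Module.length A (A ⧸ Ideal.span {h}) := by
  let P : Ideal A := Ideal.span {g, h} ^ N
  have hgP : g ^ N ∈ P := Ideal.pow_mem_pow (Ideal.subset_span (Set.mem_insert _ _)) N
  have hfin : Module.length A (A ⧸ P) ≠ ⊤ := by
    refine ne_top_of_le_ne_top (Ring.ord_ne_top (pow_mem hg N)) ?_
    exact Module.length_le_of_surjective (Submodule.factor ((Ideal.span_singleton_le_iff_mem _).2 hgP))
      (Submodule.factor_surjective _)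
  have hmul : ∀ n, Ideal.span {h} * Ideal.span {g, h} ^ n ≤
      Ideal.span {h ^ (n + 1)} ⊔ Ideal.span {g} * Ideal.span {g, h} ^ n := by
    intro n
    induction n with
    | zero => simp
    | succ n ih =>
      rw [pow_succ, ← mul_assoc]
      refine (Ideal.mul_mono_left ih).trans ?_
      rw [Ideal.sup_mul, mul_assoc]
      refine sup_le ?_ le_sup_right
      rw [Ideal.span_insert, Ideal.mul_sup, Ideal.span_singleton_mul_span_singleton,
        Ideal.span_singleton_mul_span_singleton]
      refine sup_le ((Ideal.span_singleton_le_iff_mem _).2 (Submodule.mem_sup_right ?_))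
        ((Ideal.span_singleton_le_iff_mem _).2 (Submodule.mem_sup_left ?_))
      · rw [mul_comm (h ^ (n + 1)) g]
        refine Ideal.mul_mem_mul (Ideal.mem_span_singleton_self g) ?_
        rw [← pow_succ]
        exact Ideal.pow_mem_pow (Ideal.mem_sup_right (Ideal.mem_span_singleton_self h)) _
      · rw [← pow_succ]
        exact Ideal.mem_span_singleton_self _
  have hle : Ideal.span {h} * P ≤ Ideal.span {g} * P := by
    refine (hmul N).trans (sup_le ?_ le_rfl)
    rw [Ideal.span_singleton_le_iff_mem, e]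
    exact Ideal.mul_mem_mul (Ideal.mem_span_singleton_self g) hu
  have := Module.length_le_of_surjective (Submodule.factor hle) (Submodule.factor_surjective hle)
  rw [length_quotient_mul (fun _ _ h' => (mem_nonZeroDivisors_iff_left.1 hg _ (by
      rw [mul_sub]; exact sub_eq_zero.2 h') |> sub_eq_zero.1)) P,
    length_quotient_mul (fun _ _ h' => (mem_nonZeroDivisors_iff_left.1 hh _ (by
      rw [mul_sub]; exact sub_eq_zero.2 h') |> sub_eq_zero.1)) P] at this
  exact (ENat.add_le_add_iff_left hfin).1 this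

variable (k : Type u) [Field k] [Infinite k] {R : Type u} [CommRing R] [IsNoetherianRing R] [IsLocalRing R]
  [Algebra k R]

/-- For one component: finitely many valuations detecting integrality. -/
theorem exists_tests (q : Ideal R) [q.IsPrime] [Ring.KrullDimLE 1 (R ⧸ q)] :
    ∃ (ι : Type u) (_ : Finite ι) (small : ι → FractionRing (R ⧸ q) → Prop),
      (∀ i, small i 0) ∧ (∀ i a b, small i a → small i b → small i (a + b)) ∧
      (∀ i (r : R ⧸ q) a, small i a → small i (algebraMap (R ⧸ q) _ r * a)) ∧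
      (∀ i, ¬ small i 1) ∧ Nonempty ι ∧
      ∀ a, (∀ i, ¬ small i a) → a ≠ 0 ∧ IsIntegral (R ⧸ q) a⁻¹ := by
  classical
  let D := R ⧸ q
  let K := FractionRing D
  let O := integralClosure D K
  haveI : IsNoetherianRing O := OneDim.isNoetherianRing_subalgebra O
  haveI : Ring.DimensionLEOne O := OneDim.dimensionLEOne_subalgebra O
  haveI : Algebra.IsAlgebraic D K := IsLocalization.isAlgebraic K (nonZeroDivisors D)
  haveI : IsFractionRing O K := integralClosure.isFractionRing_of_algebraic (fun x hx =>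
    IsFractionRing.injective D K (hx.trans (map_zero _).symm))
  haveI : IsIntegrallyClosed O := integralClosure.isIntegrallyClosedOfFiniteExtension K
  haveI : IsDedekindDomain O := {}
  haveI : Finite (IsDedekindDomain.HeightOneSpectrum O) := by
    by_cases hF : IsField O
    · haveI : IsEmpty (IsDedekindDomain.HeightOneSpectrum O) := ⟨fun v => v.ne_bot (by
        letI := hF.toField
        exact (Ideal.eq_bot_or_top v.asIdeal).resolve_right v.isPrime.ne_top)⟩
      infer_instance
    · haveI : IsLocalRing D := IsLocalRing.of_surjective' (Ideal.Quotient.mk q) Ideal.Quotient.mk_surjective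
      haveI : Algebra.IsIntegral D O := IsIntegralClosure.isIntegral_algebra D K
      have hD : IsLocalRing.maximalIdeal D ≠ ⊥ := by
        rw [Ne, ← IsLocalRing.isField_iff_maximalIdeal_eq]
        exact fun h => hF (isField_of_isIntegral_of_isField' h)
      obtain ⟨a, ha, ha0⟩ := Submodule.exists_mem_ne_zero_of_ne_bot hD
      haveI := (OneDim.finite_maximal_containing O ha0).to_subtype
      refine Finite.of_injective (fun v => (⟨v.asIdeal, v.isMaximal, ?_⟩ :
        {P : Ideal O | P.IsMaximal ∧ algebraMap D O a ∈ P})) ?_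
      · haveI := v.isMaximal
        have := IsLocalRing.eq_maximalIdeal (Ideal.isMaximal_comap_of_isIntegral_of_isMaximal (R := D) v.asIdeal)
        exact (this.ge ha : a ∈ v.asIdeal.comap (algebraMap D O))
      · intro v w hvw
        exact IsDedekindDomain.HeightOneSpectrum.ext (congrArg Subtype.val hvw)
  refine ⟨Option (IsDedekindDomain.HeightOneSpectrum O), inferInstance,
    fun i a => i.elim (a = 0) fun v => v.valuation K a < 1, ?_, ?_, ?_, ?_, inferInstance, ?_⟩
  · rintro (_ | v) <;> simp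
  · rintro (_ | v) a b ha hb
    · simp_all
    · exact lt_of_le_of_lt (Valuation.map_add _ _ _) (max_lt ha hb)
  · rintro (_ | v) r a ha
    · simp_all
    · simp only [Option.elim_some, map_mul]
      refine lt_of_le_of_lt (mul_le_of_le_one_left' ?_) ha
      rw [IsScalarTower.algebraMap_apply D O K]
      exact v.valuation_le_one _
  · rintro (_ | v) <;> simp
  · intro a ha
    have ha0 : a ≠ 0 := ha none
    refine ⟨ha0, ?_⟩
    obtain ⟨y, hy⟩ := IsDedekindDomain.HeightOneSpectrum.mem_integers_of_valuation_le_one (R := O) K a⁻¹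
      fun v => by
        have := ha (some v)
        simp only [Option.elim_some, not_lt] at this
        rw [map_inv₀]
        exact inv_le_one_of_one_le₀ this
    rw [← hy]
    exact y.2

/-- An element integral over `(g)` modulo a prime satisfies a homogeneous equation there. -/
theorem exists_eq_of_isIntegral {D K : Type u} [CommRing D] [Field K] [Algebra D K]
    (π : R →+* D) (hπ : Function.Surjective π) (hinj : Function.Injective (algebraMap D K)) {g h : R}
    (hg : π g ≠ 0) (hint : IsIntegral D (algebraMap D K (π h) / algebraMap D K (π g))) :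
    ∃ N : ℕ, ∃ u ∈ Ideal.span {g, h} ^ N, h ^ (N + 1) - g * u ∈ RingHom.ker π := by
  classical
  obtain ⟨f, hf, hfe⟩ := hint
  have hn : f.natDegree ≠ 0 := fun h0 => by
    rw [hf.natDegree_eq_zero] at h0
    rw [h0] at hfe
    simp at hfe
  obtain ⟨N, hN⟩ : ∃ N, f.natDegree = N + 1 := ⟨f.natDegree - 1, by omega⟩
  choose c hc using fun i => hπ (f.coeff i)
  have hh : ∀ n, h ^ n ∈ Ideal.span {g, h} ^ n := fun n =>
    Ideal.pow_mem_pow (Ideal.subset_span (Set.mem_insert_of_mem _ (Set.mem_singleton h))) n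
  refine ⟨N, -∑ i ∈ Finset.range (N + 1), c i * (h ^ i * g ^ (N - i)), neg_mem (sum_mem fun i hi => ?_), ?_⟩
  · refine Ideal.mul_mem_left _ _ ?_
    rw [Finset.mem_range] at hi
    have := Ideal.mul_mem_mul (hh i) (Ideal.pow_mem_pow (I := Ideal.span {g, h})
      (Ideal.subset_span (Set.mem_insert g {h})) (N - i))
    rwa [← pow_add, show i + (N - i) = N by omega] at this
  · rw [RingHom.mem_ker]
    apply hinj
    have hg' : algebraMap D K (π g) ≠ 0 := fun h0 => hg (hinj (h0.trans (map_zero _).symm))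
    rw [map_zero, mul_neg, sub_neg_eq_add]
    simp only [map_add, map_mul, map_pow, map_sum, Finset.mul_sum, hc]
    set X := algebraMap D K (π h) with hX
    set Y := algebraMap D K (π g) with hY
    rw [Polynomial.eval₂_eq_sum_range, hN, Finset.sum_range_succ, ← hN, hf.coeff_natDegree, map_one, one_mul,
      hN] at hfe
    have key := congrArg (fun z => z * Y ^ (N + 1)) hfe
    simp only [zero_mul, add_mul, Finset.sum_mul, div_pow] at key
    rw [div_mul_cancel₀ _ (pow_ne_zero _ hg')] at key
    rw [← key, add_comm]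
    congr 1
    refine Finset.sum_congr rfl fun i hi => ?_
    rw [Finset.mem_range] at hi
    obtain ⟨j, hj⟩ : ∃ j, N = i + j := ⟨N - i, by omega⟩
    rw [show N - i = j by omega, hj, pow_succ, pow_add]
    field_simp

/-- The homogeneous equations multiply. -/
theorem exists_eq_mul {g h : R} {J J' : Ideal R}
    (e : ∃ N : ℕ, ∃ u ∈ Ideal.span {g, h} ^ N, h ^ (N + 1) - g * u ∈ J)
    (e' : ∃ N : ℕ, ∃ u ∈ Ideal.span {g, h} ^ N, h ^ (N + 1) - g * u ∈ J') :
    ∃ N : ℕ, ∃ u ∈ Ideal.span {g, h} ^ N, h ^ (N + 1) - g * u ∈ J * J' := by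
  obtain ⟨N, u, hu, hJ⟩ := e
  obtain ⟨N', u', hu', hJ'⟩ := e'
  generalize hP : (Ideal.span {g, h} : Ideal R) = P at hu hu' ⊢
  have hgP : g ∈ P := hP ▸ Ideal.subset_span (Set.mem_insert g {h})
  have hhP : h ∈ P := hP ▸ Ideal.subset_span (Set.mem_insert_of_mem g (Set.mem_singleton h))
  refine ⟨N + N' + 1, u * h ^ (N' + 1) + u' * h ^ (N + 1) - g * u * u', ?_, ?_⟩
  · have h1 : u * h ^ (N' + 1) ∈ P ^ (N + (N' + 1)) :=
      (pow_add P N (N' + 1)).symm ▸ Ideal.mul_mem_mul hu (Ideal.pow_mem_pow hhP (N' + 1))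
    have h2 : u' * h ^ (N + 1) ∈ P ^ (N' + (N + 1)) :=
      (pow_add P N' (N + 1)).symm ▸ Ideal.mul_mem_mul hu' (Ideal.pow_mem_pow hhP (N + 1))
    have h3 : g * u * u' ∈ P ^ 1 * P ^ N * P ^ N' :=
      Ideal.mul_mem_mul (Ideal.mul_mem_mul ((pow_one P).symm ▸ hgP) hu) hu'
    rw [← pow_add, ← pow_add, show 1 + N + N' = N + N' + 1 by omega] at h3
    rw [show N + (N' + 1) = N + N' + 1 by omega] at h1
    rw [show N' + (N + 1) = N + N' + 1 by omega] at h2
    exact sub_mem (add_mem h1 h2) h3
  · have e : h ^ (N + N' + 1 + 1) - g * (u * h ^ (N' + 1) + u' * h ^ (N + 1) - g * u * u') =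
        (h ^ (N + 1) - g * u) * (h ^ (N' + 1) - g * u') := by ring
    rw [e]
    exact Ideal.mul_mem_mul hJ hJ'

/-- Outside finitely many subspaces some member cuts a quotient at most as much as `h`. -/
theorem exists_avoid (I : Ideal R) (hI : I ≠ ⊤) [Ring.KrullDimLE 1 (R ⧸ I)] {h : R}
    (hh : ∀ q ∈ I.minimalPrimes, h ∉ q)
    (hnzd : ∀ g : R, (∀ q ∈ I.minimalPrimes, g ∉ q) → Ideal.Quotient.mk I g ∈ nonZeroDivisors (R ⧸ I))
    {V : Type u} [AddCommGroup V] [Module k V] {M : Type u} [AddCommGroup M] [Module R M]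
    [Module k M] [IsScalarTower k R M]
    (μ : V →ₗ[k] (M →ₗ[R] R)) (hspan : h ∈ Ideal.span (Set.range fun p : V × M => μ p.1 p.2)) :
    ∃ (ι : Type u) (_ : Finite ι) (W : ι → Submodule k V), (∀ i, W i ≠ ⊤) ∧ ∀ v, (∀ i, v ∉ W i) →
      ∃ m : M, (∀ q ∈ I.minimalPrimes, μ v m ∉ q) ∧
        Module.length R (R ⧸ (I ⊔ Ideal.span {μ v m})) ≤ Module.length R (R ⧸ (I ⊔ Ideal.span {h})) := by
  classical
  let P := {q : Ideal R // q ∈ I.minimalPrimes}
  haveI : Finite P := (I.finite_minimalPrimes_of_isNoetherianRing R).to_subtype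
  haveI : Fintype P := Fintype.ofFinite P
  haveI hprime : ∀ q : P, q.1.IsPrime := fun q => q.2.1.1
  haveI : ∀ q : P, Ring.KrullDimLE 1 (R ⧸ q.1) := fun q => by
    rw [Ring.krullDimLE_iff]
    exact (ringKrullDim_le_of_surjective (Ideal.Quotient.factor q.2.1.2)
      (Ideal.Quotient.factor_surjective _)).trans (Ring.krullDimLE_iff.1 ‹Ring.KrullDimLE 1 (R ⧸ I)›)
  choose ι hι small h0 hadd hmul h1 hne hint using fun q : P => exists_tests (R := R) q.1
  haveI := hι
  let ρ : ∀ q : P, R →+* FractionRing (R ⧸ q.1) := fun q =>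
    (algebraMap (R ⧸ q.1) (FractionRing (R ⧸ q.1))).comp (Ideal.Quotient.mk q.1)
  have hρh : ∀ q : P, ρ q h ≠ 0 := fun q h' => hh q.1 q.2 (Ideal.Quotient.eq_zero_iff_mem.1
    (IsFractionRing.injective (R ⧸ q.1) (FractionRing (R ⧸ q.1)) (h'.trans (map_zero _).symm)))
  have hsmul : ∀ (q : P) i (r z : R), small q i (ρ q z / ρ q h) → small q i (ρ q (r * z) / ρ q h) := by
    intro q i r z hz
    rw [map_mul, mul_div_assoc]
    exact hmul q i (Ideal.Quotient.mk q.1 r) _ hz
  have hadd' : ∀ (q : P) i (y z : R), small q i (ρ q y / ρ q h) → small q i (ρ q z / ρ q h) →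
      small q i (ρ q (y + z) / ρ q h) := by
    intro q i y z hy hz
    rw [map_add, add_div]
    exact hadd q i _ _ hy hz
  have hzero : ∀ (q : P) i, small q i (ρ q 0 / ρ q h) := fun q i => by
    rw [map_zero, zero_div]; exact h0 q i
  let W : (Σ q : P, ι q) → Submodule k V := fun p =>
    { carrier := {v | ∀ m : M, small p.1 p.2 (ρ p.1 (μ v m) / ρ p.1 h)}
      zero_mem' := fun m => by rw [map_zero]; exact hzero _ _
      add_mem' := fun hv hw m => by
        rw [map_add, LinearMap.add_apply]; exact hadd' _ _ _ _ (hv m) (hw m)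
      smul_mem' := fun c v hv m => by
        rw [map_smul, LinearMap.smul_apply, Algebra.smul_def]
        exact hsmul _ _ _ _ (hv m) }
  have hW : ∀ p, W p ≠ ⊤ := by
    intro p hp
    refine h1 p.1 p.2 ?_
    rw [← div_self (hρh p.1)]
    have hmem : ∀ z ∈ Ideal.span (Set.range fun p : V × M => μ p.1 p.2),
        small p.1 p.2 (ρ p.1 z / ρ p.1 h) := by
      intro z hz
      induction hz using Submodule.span_induction with
      | mem z hz =>
        obtain ⟨⟨v, m⟩, rfl⟩ := hz
        exact (show v ∈ W p from hp ▸ Submodule.mem_top) m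
      | zero => exact hzero _ _
      | add _ _ _ _ hy hz => exact hadd' _ _ _ _ hy hz
      | smul r z _ hz => exact hsmul _ _ r z hz
    exact hmem h hspan
  refine ⟨Σ q : P, ι q, inferInstance, W, hW, fun v hv => ?_⟩
  let W' : (Σ q : P, ι q) → Submodule k M := fun p =>
    { carrier := {m | small p.1 p.2 (ρ p.1 (μ v m) / ρ p.1 h)}
      zero_mem' := by
        show small p.1 p.2 (ρ p.1 (μ v 0) / ρ p.1 h)
        rw [map_zero]; exact hzero _ _
      add_mem' := fun {a b} ha hb => by
        show small p.1 p.2 (ρ p.1 (μ v (a + b)) / ρ p.1 h)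
        rw [map_add]; exact hadd' _ _ _ _ ha hb
      smul_mem' := fun c m hm => by
        show small p.1 p.2 (ρ p.1 (μ v (c • m)) / ρ p.1 h)
        rw [← IsScalarTower.algebraMap_smul R c m, map_smul, smul_eq_mul]
        exact hsmul _ _ _ _ hm }
  obtain ⟨m, hm⟩ := Submodule.exists_forall_notMem_of_forall_ne_top W' fun p hp =>
    hv p fun m => (show m ∈ W' p from hp ▸ Submodule.mem_top)
  have hgood : ∀ q : P, ρ q (μ v m) / ρ q h ≠ 0 ∧ IsIntegral (R ⧸ q.1) (ρ q (μ v m) / ρ q h)⁻¹ :=
    fun q => hint q _ fun i => hm ⟨q, i⟩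
  have hgq : ∀ q ∈ I.minimalPrimes, μ v m ∉ q := fun q hq hmem => by
    refine (hgood ⟨q, hq⟩).1 ?_
    simp [ρ, Ideal.Quotient.eq_zero_iff_mem.2 hmem]
  refine ⟨m, hgq, ?_⟩
  set g := μ v m with hg
  -- the equation modulo `I`
  have heq : ∀ q : P, ∃ N : ℕ, ∃ u ∈ Ideal.span {g, h} ^ N, h ^ (N + 1) - g * u ∈ q.1 := fun q => by
    rw [← Ideal.mk_ker (I := q.1)]
    refine exists_eq_of_isIntegral (Ideal.Quotient.mk q.1) Ideal.Quotient.mk_surjective
      (IsFractionRing.injective (R ⧸ q.1) (FractionRing (R ⧸ q.1)))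
      (fun h0 => hgq q.1 q.2 (Ideal.Quotient.eq_zero_iff_mem.1 h0)) ?_
    have := (hgood q).2
    rw [inv_div] at this
    exact this
  obtain ⟨q₀⟩ : Nonempty P := by
    obtain ⟨q, hq⟩ := Ideal.nonempty_minimalPrimes hI
    exact ⟨⟨q, hq⟩⟩
  have hfin : ∀ s : Finset P, s.Nonempty →
      ∃ N : ℕ, ∃ u ∈ Ideal.span {g, h} ^ N, h ^ (N + 1) - g * u ∈ ∏ q ∈ s, q.1 := by
    intro s hs
    induction hs using Finset.Nonempty.cons_induction with
    | singleton q => rw [Finset.prod_singleton]; exact heq q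
    | cons q s hqs hs ih => rw [Finset.prod_cons]; exact exists_eq_mul (heq q) ih
  have hrad : ∏ q : P, q.1 ≤ I.radical := by
    refine le_trans Ideal.prod_le_inf ?_
    rw [← Ideal.sInf_minimalPrimes]
    exact le_sInf fun q hq => Finset.inf_le (f := fun q : P => q.1) (Finset.mem_univ ⟨q, hq⟩)
  obtain ⟨e, he⟩ := Ideal.exists_radical_pow_le_of_fg I (IsNoetherian.noetherian _)
  have hpow : ∀ j : ℕ, ∃ N : ℕ, ∃ u ∈ Ideal.span {g, h} ^ N,
      h ^ (N + 1) - g * u ∈ (∏ q : P, q.1) ^ (j + 1) := by
    intro j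
    induction j with
    | zero => rw [zero_add, pow_one]; exact hfin _ ⟨q₀, Finset.mem_univ _⟩
    | succ j ih => rw [pow_succ]; exact exists_eq_mul ih (hfin _ ⟨q₀, Finset.mem_univ _⟩)
  obtain ⟨N, u, hu, hmem⟩ := hpow e
  have hI' : h ^ (N + 1) - g * u ∈ I :=
    ((Ideal.pow_le_pow_right (Nat.le_succ e)).trans le_rfl |>.trans ((Ideal.pow_right_mono hrad e).trans he)) hmem
  let π := Ideal.Quotient.mk I
  have hP : π u ∈ Ideal.span {π g, π h} ^ N := by
    have := Ideal.mem_map_of_mem π hu
    rwa [Ideal.map_pow, Ideal.map_span, Set.image_insert_eq, Set.image_singleton] at this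
  haveI : IsNoetherianRing (R ⧸ I) := inferInstance
  have key := length_le_of_sub_mem (hnzd g hgq) (hnzd h hh) hP (by
    rw [← map_pow, ← map_mul, Ideal.Quotient.eq]; exact hI')
  have hred : ∀ z : R, Module.length R (R ⧸ (I ⊔ Ideal.span {z})) =
      Module.length (R ⧸ I) ((R ⧸ I) ⧸ Ideal.span {π z}) := by
    intro z
    rw [← Module.length_eq_of_surjective (S := R) (R := R ⧸ I) (M := (R ⧸ I) ⧸ Ideal.span {π z})
      Ideal.Quotient.mk_surjective]
    refine (LinearEquiv.length_eq ?_).symm
    have e1 : Ideal.span {π z} = Ideal.map π (Ideal.span {z}) := by rw [Ideal.map_span, Set.image_singleton]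
    have e2 : ((R ⧸ I) ⧸ Ideal.span {π z}) ≃ₗ[R] ((R ⧸ I) ⧸ Ideal.map π (Ideal.span {z})) :=
      (Submodule.quotEquivOfEq _ _ e1).restrictScalars R
    exact e2.trans (DoubleQuot.quotQuotEquivQuotSupₐ R I (Ideal.span {z})).toLinearEquiv
  rw [hred, hred]
  exact key

end Groth.Agent.RefChK0.Gen
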