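import Groth.Agent.RefChK0.Sheaf
import Groth.Agent.AmpleLib.Span
import Groth.Agent.AmpleLib.Basic
import Groth.Agent.ProjMorph.Ample

/-!
# Global rational functions in the lattices, and the finite set of bad points
-/

set_option autoImplicit false
set_option linter.style.haveILetI false

universe u

open CategoryTheory Limits AlgebraicGeometry TopologicalSpace

noncomputable section

namespace Groth.Agent.RefChK0

open Groth.Agent.HomShQC Groth.Agent.Ref1 Groth.Agent.PullStalk.Sky Groth.Agent.PullStalk.Exact CycLib.Dev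

variable {X : Scheme.{u}}

/-- The structure of a `k`-algebra on the local rings. -/
@[instance_reducible]
def algStalk (k : Type u) [Field k] [X.Over (Spec (CommRingCat.of k))] (x : X) :
    Algebra k (X.presheaf.stalk x) :=
  ((X.presheaf.germ ⊤ x trivial).hom.comp
    (((X ↘ Spec (CommRingCat.of k)).appLE ⊤ ⊤ _root_.le_top).hom.comp
      (Scheme.ΓSpecIso (CommRingCat.of k)).inv.hom)).toAlgebra

variable [IsIntegral X] [IsLocallyNoetherian X]

local notation "η" => genericPoint X
local notation "K" => Scheme.functionField X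

/-- The structure of a `k`-algebra on the function field. -/
@[instance_reducible]
def algK (k : Type u) [Field k] [X.Over (Spec (CommRingCat.of k))] : Algebra k X.functionField :=
  algStalk k η

omit [IsLocallyNoetherian X] in
theorem tower (k : Type u) [Field k] [X.Over (Spec (CommRingCat.of k))] (x : X) :
    letI := algStalk k x
    letI := algK (X := X) k
    IsScalarTower k (X.presheaf.stalk x) K :=
  letI := algStalk k x
  letI := algK (X := X) k
  IsScalarTower.of_algebraMap_eq fun c => (spR_germ (hsp x) (U := ⊤) trivial _).symm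

/-- The rational functions lying in the lattice at every point. -/
def glob (k : Type u) [Field k] [X.Over (Spec (CommRingCat.of k))] (D : X → ℤ) :
    letI := algK (X := X) k
    Submodule k K :=
  letI := algK (X := X) k
  { carrier := {f | ∀ x, f ∈ lat D x}
    zero_mem' := fun x => zero_mem _
    add_mem' := fun ha hb x => add_mem (ha x) (hb x)
    smul_mem' := fun c a ha x =>
      letI := algStalk k x
      haveI := tower (X := X) k x
      by rw [← IsScalarTower.algebraMap_smul (X.presheaf.stalk x) c a]; exact Submodule.smul_mem _ _ (ha x) }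

variable (hX : Pi1.IsNormalScheme X)

include hX

/-- A divisor has finitely many components. -/
theorem IsDiv.finite_support [CompactSpace X] {D : X → ℤ} (hD : IsDiv D) :
    {y : X | Order.coheight y = 1 ∧ D y ≠ 0}.Finite := by
  obtain ⟨F, s, hF, hs, eD⟩ := hD
  choose U hU hfin using finite_ordS_ne_zero F hF.2.2 hs
  obtain ⟨t, ht⟩ := isCompact_univ.elim_nhds_subcover U fun x _ => hU x
  refine (t.finite_toSet.biUnion fun x _ => hfin x).subset fun y ⟨hy, hy'⟩ => ?_
  obtain ⟨x, hx, hyx⟩ := Set.mem_iUnion₂.1 (ht.2 (Set.mem_univ y))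
  exact Set.mem_iUnion₂.2 ⟨x, hx, hyx, hy, by rwa [eD y hy]⟩

/-- Twisting by a power of an ample module makes the lattices generated by global functions. -/
theorem exists_global (k : Type u) [Field k] [X.Over (Spec (CommRingCat.of k))] {L : X.Modules}
    (hL : CohB1.IsAmple L) {D : X → ℤ} (hD : IsDiv D) :
    ∃ (A : X → ℤ) (N : X.Modules) (t : N.presheaf.stalk η), PicF.IsInvertible N ∧ t ≠ 0 ∧
      (∀ y : X, Order.coheight y = 1 → ordS N y t = A y) ∧ IsDiv (A + D) ∧
      ∀ x, lat (A + D) x ≤ Submodule.span (X.presheaf.stalk x) (glob k (A + D) : Set K) := by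
  obtain ⟨F, s, hF, hs, eD⟩ := hD
  obtain ⟨n, hn⟩ := AmpleLib.eventually_globallyGenerated hL hF.1.1 hF.1.2
  obtain ⟨ι, p, hp⟩ := hn n le_rfl
  let N := CohB1.tensorPow L n
  have hN : PicF.IsInvertible N := AmpleLib.isInvertible_tensorPow hL.1 n
  obtain ⟨t, ht⟩ := (rankOne_of_isRef1 (ExtPowSt.isRef1_of_isInvertible hN)).exists_ne_zero
  obtain ⟨hR, hne, hord⟩ := tensorSec_spec hX (ExtPowSt.isRef1_of_isInvertible hN) hF ht hs
  haveI := isIso_toRefTensor hN hF
  let e : CohB1.tensorMod F N ≅ RefPow.refTensor N F :=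
    ProjTwist.tensComm F N ≪≫ asIso (RefPow.toRefTensor N F)
  let p' : (∐ fun _ : ι => Coh.structureModule X) ⟶ CohB1.tensorMod F N := p
  haveI : Epi p' := hp
  have eR : ∀ y : X, Order.coheight y = 1 →
      ordS (RefPow.refTensor N F) y (tensorSec N F t s) = ((fun z => ordS N z t) + D) y := fun y hy => by
    rw [hord y hy, eD y hy, Pi.add_apply]
  refine ⟨fun z => ordS N z t, N, t, hN, ht, fun _ _ => rfl, ⟨_, _, hR, hne, eR⟩, fun x => ?_⟩
  intro a ha
  obtain ⟨v, hv⟩ := (mem_lat_iff hX hR hne eR).1 ha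
  set R := RefPow.refTensor N F
  set w := tensorSec N F t s
  have hall : ∀ v : R.presheaf.stalk x, ∀ a : K, toη R x v = a • w →
      a ∈ Submodule.span (X.presheaf.stalk x)
        (glob k ((fun z => ordS N z t) + D) : Set K) := by
    have hinj : ∀ {a b : K}, a • w = b • w → a = b := fun {a b} h =>
      sub_eq_zero.1 (((rankOne_of_isRef1 hR).eq_zero_or (a - b) w (by rw [sub_smul, h, sub_self])).resolve_right hne)
    have hspan : ∀ v : R.presheaf.stalk x, v ∈ Submodule.span (X.presheaf.stalk x)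
        (Set.range fun σ : Γ(R, ⊤) => germM R ⊤ x trivial σ) := fun v => by
      obtain ⟨v', rfl⟩ := stalk_surjective e.hom x v
      obtain ⟨U, hxU, m, rfl⟩ := exists_germM_eq (CohB1.tensorMod F N) x v'
      have h := Submodule.mem_map_of_mem (f := stalkLin e.hom x) (AmpleLib.germ_mem_span_of_epi p' m x hxU)
      rw [Submodule.map_span, ← Set.range_comp] at h
      refine Submodule.span_mono ?_ h
      rintro _ ⟨σ, rfl⟩
      exact ⟨e.hom.app ⊤ σ, (stalkLin_germ e.hom ⊤ x trivial σ).symm⟩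
    intro v
    induction hspan v using Submodule.span_induction with
    | mem v hv =>
      obtain ⟨σ, rfl⟩ := hv
      intro a h
      refine Submodule.subset_span fun z => (mem_lat_iff hX hR hne eR).2 ⟨germM R ⊤ z trivial σ, ?_⟩
      rw [← h]
      exact (sp_germ R (hsp z) _ σ).trans (sp_germ R (hsp x) _ σ).symm
    | zero =>
      intro a h
      rw [map_zero] at h
      rw [hinj (h.symm.trans (zero_smul _ w).symm)]
      exact zero_mem _
    | add v₁ v₂ _ _ h1 h2 =>
      intro a h
      obtain ⟨a₁, e1⟩ := (rankOne_of_isRef1 hR).exists_smul hne (toη R x v₁)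
      obtain ⟨a₂, e2⟩ := (rankOne_of_isRef1 hR).exists_smul hne (toη R x v₂)
      rw [hinj (h.symm.trans (show toη R x (v₁ + v₂) = (a₁ + a₂) • w by rw [map_add, e1, e2, add_smul]))]
      exact add_mem (h1 a₁ e1) (h2 a₂ e2)
    | smul r v₁ _ h1 =>
      intro a h
      obtain ⟨a₁, e1⟩ := (rankOne_of_isRef1 hR).exists_smul hne (toη R x v₁)
      rw [hinj (h.symm.trans (show toη R x (r • v₁) = (r • a₁ : K) • w by
        rw [toη, sp_smul, ← toη, e1, smul_smul]; rfl))]
      exact Submodule.smul_mem _ _ (h1 a₁ e1)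
  exact hall v a hv

/-- Finitely many points carry all non-principal lattices in codimension two, uniformly generated,
with trace elements. -/
theorem exists_badSet (k : Type u) [Field k] [IsAlgClosed k] [X.Over (Spec (CommRingCat.of k))]
    [LocallyOfFiniteType (X ↘ Spec (CommRingCat.of k))] [CompactSpace X] :
    ∃ (E : ℕ) (S : Set X), S.Finite ∧
      (∀ x : X, Order.coheight x = 2 → x ∉ S → ∀ D : X → ℤ, IsDiv D →
        ∃ u ∈ lat D x, lat D x ≤ Submodule.span (X.presheaf.stalk x) {u}) ∧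
      ∀ x ∈ S, Order.coheight x = 2 ∧ ∃ J : Set (X.presheaf.stalk x), GoodAt E x J ∧ (∀ d ∈ J, ¬ IsUnit d) ∧
        ∀ q : Ideal (X.presheaf.stalk x), q.IsPrime → q.height ≤ 1 → ∃ d ∈ J, d ∉ q := by
  classical
  choose U hU hxU using fun x : X =>
    let ⟨U, hU, hxU, _⟩ := exists_isAffineOpen_mem_and_subset (x := x) (U := ⊤) trivial
    (⟨U, hU, hxU⟩ : ∃ U : X.Opens, IsAffineOpen U ∧ x ∈ U)
  obtain ⟨t, ht⟩ := isCompact_univ.elim_nhds_subcover (fun x => (U x : Set X))
    fun x _ => (U x).isOpen.mem_nhds (hxU x)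
  have hgood := fun x : X => haveI : Nonempty (U x) := ⟨⟨x, hxU x⟩⟩; exists_goodAt hX k (hU x)
  choose E J hJne hesc hJ using hgood
  let S : X → Set X := fun i => {x | ∃ hx : x ∈ U i, Order.coheight x = 2 ∧
    ∀ d ∈ J i, ¬ IsUnit ((X.presheaf.germ (U i) x hx).hom d)}
  have hle : ∀ {i : X}, i ∈ t → ∀ {x : X} (hx : x ∈ U i), Order.coheight x = 2 →
      GoodAt (t.sup E) x ((X.presheaf.germ (U i) x hx).hom '' J i) := fun {i} hi {x} hx hx2 D hD => by
    obtain ⟨h1, r, g, hr, hg⟩ := hJ i x hx hx2 D hD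
    exact ⟨h1, r, g, hr.trans (Finset.le_sup hi), hg⟩
  refine ⟨t.sup E, ⋃ i ∈ t, S i, t.finite_toSet.biUnion fun i _ => ?_, ?_, ?_⟩
  · haveI : Nonempty (U i) := ⟨⟨i, hxU i⟩⟩
    haveI : IsNoetherianRing Γ(X, U i) := IsLocallyNoetherian.component_noetherian ⟨U i, hU i⟩
    have hmin : ∀ x (hx : x ∈ S i), ((hU i).primeIdealOf ⟨x, hx.1⟩).asIdeal ∈ (Ideal.span (J i)).minimalPrimes := by
      rintro x ⟨hx, hx2, hx'⟩
      let P := ((hU i).primeIdealOf ⟨x, hx⟩).asIdeal
      letI : Algebra Γ(X, U i) (X.presheaf.stalk x) :=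
        TopCat.Presheaf.algebra_section_stalk X.presheaf (⟨x, hx⟩ : U i)
      haveI : IsLocalization.AtPrime (X.presheaf.stalk x) P := (hU i).isLocalization_stalk ⟨x, hx⟩
      have hP2 : P.height = 2 := by
        have h := IsLocalization.AtPrime.ringKrullDim_eq_height P (X.presheaf.stalk x)
        rw [ringKrullDim_stalk_eq_coheight, hx2] at h
        exact (WithBot.coe_inj.1 h).symm
      have hle' : Ideal.span (J i) ≤ P := Ideal.span_le.2 fun d hd => by
        by_contra hdP
        exact hx' d hd (IsLocalization.map_units (X.presheaf.stalk x) (⟨d, hdP⟩ : P.primeCompl))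
      refine ⟨⟨inferInstance, hle'⟩, fun q hq hqP => ?_⟩
      by_contra hne
      haveI := hq.1
      have h1 := Ideal.height_strict_mono_of_isPrime (lt_of_le_of_ne hqP fun h => hne h.ge)
      rw [hP2, ← one_add_one_eq_two] at h1
      obtain ⟨d, hd, hdq⟩ := hesc i q hq.1 (Order.le_of_lt_add_one h1)
      exact hdq (hq.2 (Ideal.subset_span hd))
    have hfin : {z : U i | ((hU i).primeIdealOf z).asIdeal ∈ (Ideal.span (J i)).minimalPrimes}.Finite :=
      (Ideal.finite_minimalPrimes_of_isNoetherianRing _ _).preimage fun a _ b _ h => by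
        have := congrArg (hU i).fromSpec (PrimeSpectrum.ext h : (hU i).primeIdealOf a = (hU i).primeIdealOf b)
        rw [(hU i).fromSpec_primeIdealOf, (hU i).fromSpec_primeIdealOf] at this
        exact Subtype.ext this
    exact (hfin.image Subtype.val).subset fun x hx => ⟨⟨x, hx.1⟩, hmin x hx, rfl⟩
  · intro x hx2 hxS D hD
    obtain ⟨i, hi, hxi⟩ := Set.mem_iUnion₂.1 (ht.2 (Set.mem_univ x))
    obtain ⟨d, hd, hdu⟩ : ∃ d ∈ J i, IsUnit ((X.presheaf.germ (U i) x hxi).hom d) := by
      by_contra hne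
      push Not at hne
      exact hxS (Set.mem_iUnion₂.2 ⟨i, hi, hxi, hx2, hne⟩)
    have h1 := (hJ i x hxi hx2 D hD).1 _ ⟨d, hd, rfl⟩
    -- some product is a unit
    obtain ⟨a, ha, b, hb, c, hc, hcu⟩ : ∃ a ∈ lat D x, ∃ b ∈ lat (-D) x, ∃ c, toK x c = a * b ∧ IsUnit c := by
      by_contra hne
      push Not at hne
      let T := Submodule.map (Algebra.linearMap (X.presheaf.stalk x) K) (IsLocalRing.maximalIdeal (X.presheaf.stalk x))
      have h2 : toK x ((X.presheaf.germ (U i) x hxi).hom d) ∈ T := by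
        refine (Submodule.span_le.2 ?_) h1
        rintro _ ⟨a, ha, b, hb, rfl⟩
        have h3 := mul_mem_lat hX hD (hD.neg hX) ha hb
        rw [add_neg_cancel, mem_lat_zero hX] at h3
        obtain ⟨c, hc⟩ := h3
        exact ⟨c, (IsLocalRing.mem_maximalIdeal _).2 (hne a ha b hb c hc), hc⟩
      obtain ⟨c, hc, e⟩ := h2
      exact (IsLocalRing.mem_maximalIdeal _).1 ((toK_injective x e) ▸ hc) hdu
    refine ⟨a, ha, fun v hv => ?_⟩
    have h3 := mul_mem_lat hX hD (hD.neg hX) hv hb
    rw [add_neg_cancel, mem_lat_zero hX] at h3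
    obtain ⟨e, he⟩ := h3
    obtain ⟨c, rfl⟩ := hcu
    refine Submodule.mem_span_singleton.2 ⟨e * ↑c⁻¹, ?_⟩
    have hb0 : b ≠ 0 := fun h => toK_ne_zero c.ne_zero (by rw [hc, h, mul_zero])
    refine mul_right_cancel₀ hb0 ?_
    rw [Algebra.smul_def, mul_assoc]
    show toK x (e * ↑c⁻¹) * (a * b) = v * b
    rw [← hc, ← he, ← map_mul, mul_assoc, Units.inv_mul, mul_one]
  · intro x hx
    obtain ⟨i, hi, hxi, hx2, hx'⟩ := Set.mem_iUnion₂.1 hx
    refine ⟨hx2, _, hle hi hxi hx2, Set.forall_mem_image.2 hx', fun q hq hq1 => ?_⟩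
    haveI := hq
    letI : Algebra Γ(X, U i) (X.presheaf.stalk x) :=
      TopCat.Presheaf.algebra_section_stalk X.presheaf (⟨x, hxi⟩ : U i)
    haveI := (hU i).isLocalization_stalk ⟨x, hxi⟩
    obtain ⟨d, hd, hdq⟩ := hesc i (q.under Γ(X, U i)) inferInstance (by
      rw [IsLocalization.height_under ((hU i).primeIdealOf ⟨x, hxi⟩).asIdeal.primeCompl]; exact hq1)
    exact ⟨_, ⟨d, hd, rfl⟩, hdq⟩

end Groth.Agent.RefChK0
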