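import Groth.Agent.RefChK0.Basic
import Groth.Agent.ExtPowSt.Lattice
import Groth.Agent.ExtPowSt.Modification
import Groth.Agent.LenLib.CokerDet
import Groth.Agent.Ref1.Hull
import Groth.Agent.VarDim.Curve
import Groth.Prelude.Def_TorSh

/-!
# Comparing lattices in codimension one: the class modulo codimension two is the order of the
determinant
-/

set_option autoImplicit false
set_option linter.style.haveILetI false
set_option maxHeartbeats 800000

universe u

open CategoryTheory Limits AlgebraicGeometry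
open scoped TensorProduct

noncomputable section

namespace Groth.Agent.RefChK0

open Groth.Agent.PullStalk.Sky Groth.Agent.PullStalk.Exact Groth.Agent.HomShQC Groth.Agent.Ref1
open CycLib.Dev

section algebra

variable {R : Type u} [CommRing R] {M : Type u} [AddCommGroup M] [Module R M] {r : ℕ}

/-- Determinant of a family of combinations of a family. -/
theorem det_comb (b : Module.Basis (Fin r) R M) (v : Fin r → M) (P : Matrix (Fin r) (Fin r) R) :
    b.det (fun j => ∑ i, P i j • v i) = b.det v * P.det := by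
  rw [b.det_apply, b.det_apply, ← Matrix.det_mul]
  congr 1
  ext i j
  simp [Module.Basis.toMatrix_apply, Matrix.mul_apply, map_sum, mul_comm]

end algebra

variable {X : Scheme.{u}} [IsIntegral X] [IsLocallyNoetherian X]

local notation "η" => genericPoint X

variable {δ : X → ℤ} (hd : Cyc.IsDimFun X δ)

omit [IsLocallyNoetherian X] in
include hd in
theorem le_top (x : X) : δ x ≤ δ η :=
  CycLib.le_of_specializes hd (genericPoint_specializes x)

omit [IsLocallyNoetherian X] in
include hd in
theorem cohLe_top {F : X.Modules} (hF : Coh.IsCoh F) : Cyc.CohLe δ (δ η) F :=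
  ⟨hF, fun x _ => le_top hd x⟩

omit [IsLocallyNoetherian X] in
include hd in
theorem eq_η {x : X} (hx : δ x = δ η) : x = η :=
  (CycLib.eq_of_specializes hd (genericPoint_specializes x) hx.ge).symm

omit [IsLocallyNoetherian X] in
include hd in
theorem coheight_one {y : X} (hy : δ y + 1 = δ η) : Order.coheight y = 1 := by
  have := CycLib.coheight_eq hd 1 y (genericPoint_specializes y)
    (fun z _ => genericPoint_specializes z) (by rw [← hy]; norm_num)
  exact_mod_cast this

/-- A coherent module with a basis of the generic stalk whose lattices in codimension one have the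
given orders of determinant. -/
def Framed (δ : X → ℤ) (A : X.Modules) {r : ℕ}
    (b : Module.Basis (Fin r) (X.presheaf.stalk η) (A.presheaf.stalk η)) (f : X → ℤ) : Prop :=
  Coh.IsCoh A ∧ ∀ y : X, δ y + 1 = δ η → Function.Injective (toη A y) ∧
    ∃ m : Fin r → A.presheaf.stalk y, Submodule.span (X.presheaf.stalk y) (Set.range m) = ⊤ ∧
      b.det (fun i => toη A y (m i)) ≠ 0 ∧ Scheme.ord (b.det fun i => toη A y (m i)) y = f y

theorem length_coker_toNat {y : X} (hy : Order.coheight y = 1) {H A : X.Modules} (p : H ⟶ A) {r : ℕ}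
    (e : Fin r → H.presheaf.stalk y) (he : Submodule.span (X.presheaf.stalk y) (Set.range e) = ⊤)
    (m : Fin r → A.presheaf.stalk y) (hm : Submodule.span (X.presheaf.stalk y) (Set.range m) = ⊤)
    (hli : LinearIndependent (X.presheaf.stalk η) fun i => toη A y (m i))
    (P : Matrix (Fin r) (Fin r) (X.presheaf.stalk y)) (hP : P.det ≠ 0)
    (hPe : ∀ j, stalkLin p y (e j) = ∑ i, P i j • m i) :
    ((Module.length (X.presheaf.stalk y) ((cokernel p).presheaf.stalk y)).toNat : ℤ) =
      Scheme.ord (toK y P.det) y := by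
  classical
  let R := X.presheaf.stalk y
  let φ : (Fin r → R) →ₗ[R] A.presheaf.stalk y := Fintype.linearCombination R m
  have hφ : ∀ c : Fin r → R, φ c = ∑ i, c i • m i := fun c => Fintype.linearCombination_apply R m c
  have hφb : Function.Bijective φ := by
    refine ⟨(injective_iff_map_eq_zero φ).2 fun c hc => funext fun i => ?_, fun v => ?_⟩
    · have h1 := congrArg (toη A y) hc
      rw [hφ, map_sum, map_zero] at h1
      have h2 : ∑ i, toK y (c i) • toη A y (m i) = 0 :=
        (Finset.sum_congr rfl fun i _ => (sp_smul A (hsp y) (c i) (m i)).symm).trans h1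
      exact toK_injective y ((Fintype.linearIndependent_iff.1 hli _ h2 i).trans (map_zero _).symm)
    · have hv : v ∈ Submodule.span R (Set.range m) := hm ▸ Submodule.mem_top
      obtain ⟨c, hc⟩ := (Submodule.mem_span_range_iff_exists_fun R).1 hv
      exact ⟨c, (hφ c).trans hc⟩
  obtain ⟨hsurj, hexact⟩ := ExtPowSt.stalk_exact_right p (cokernel.π p) (cokernel.condition p)
    (ShortComplex.exact_of_g_is_cokernel _ (cokernelIsCokernel p)) inferInstance y
  let Φ : (Fin r → R) →ₗ[R] (cokernel p).presheaf.stalk y := (stalkLin (cokernel.π p) y).comp φ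
  have hΦ : Function.Surjective Φ := (show Function.Surjective (stalkLin (cokernel.π p) y) from hsurj).comp hφb.2
  have hmul : ∀ c : Fin r → R, φ (P.mulVec c) = stalkLin p y (∑ j, c j • e j) := fun c => by
    rw [hφ, map_sum]
    simp only [map_smul, hPe, Finset.smul_sum, smul_smul]
    rw [Finset.sum_comm]
    refine Finset.sum_congr rfl fun i _ => ?_
    rw [Matrix.mulVec, dotProduct, Finset.sum_smul]
    simp only [mul_comm]
  have hker : LinearMap.range P.mulVecLin = LinearMap.ker Φ := by
    refine le_antisymm ?_ fun c hc => ?_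
    · rintro _ ⟨c, rfl⟩
      rw [LinearMap.mem_ker, LinearMap.comp_apply, Matrix.mulVecLin_apply, hmul,
        ← CohDev.stalkLin_comp_apply, cokernel.condition, CohDev.stalkLin_zero_apply]
    · obtain ⟨v, hv⟩ := hexact (φ c) hc
      have hv' : v ∈ Submodule.span R (Set.range e) := he ▸ Submodule.mem_top
      obtain ⟨d, hd'⟩ := (Submodule.mem_span_range_iff_exists_fun R).1 hv'
      exact ⟨d, hφb.1 (by rw [Matrix.mulVecLin_apply, hmul, hd']; exact hv)⟩
  have hlen : Module.length R ((cokernel p).presheaf.stalk y) = Ring.ord R P.det := by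
    rw [← ((Submodule.quotEquivOfEq _ _ hker).trans (LinearMap.quotKerEquivOfSurjective Φ hΦ)).length_eq,
      LenLib.length_coker_eq_ord_det P (mem_nonZeroDivisors_of_ne_zero hP)]
    rfl
  rw [hlen, ord_toK hy hP]

include hd in
/-- The difference of two framed modules of the same rank, modulo codimension two. -/
theorem exists_diff (hnorm : Pi1.IsNormalScheme X) {A B : X.Modules} {r : ℕ}
    {bA : Module.Basis (Fin r) (X.presheaf.stalk η) (A.presheaf.stalk η)}
    {bB : Module.Basis (Fin r) (X.presheaf.stalk η) (B.presheaf.stalk η)} {fA fB : X → ℤ}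
    (hA : Framed δ A bA fA) (hB : Framed δ B bB fB) :
    ∃ T₁ T₂ : X.Modules, Cyc.CohLe δ (δ η - 1) T₁ ∧ Cyc.CohLe δ (δ η - 1) T₂ ∧
      kc δ (δ η) A - kc δ (δ η) B - (kc δ (δ η) T₁ - kc δ (δ η) T₂) ∈ filt δ (δ η) (δ η - 2) ∧
      ∀ y, δ y = δ η - 1 →
        Cyc.sheafFun δ (δ η - 1) T₁ y - Cyc.sheafFun δ (δ η - 1) T₂ y = fB y - fA y := by
  classical
  let θ0 : A.presheaf.stalk η ≃ₗ[X.presheaf.stalk η] B.presheaf.stalk η := bA.repr.trans bB.repr.symm
  have hθ0 : ∀ v : Fin r → A.presheaf.stalk η, bB.det (fun i => θ0 (v i)) = bA.det v := fun v => by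
    rw [bB.det_apply, bA.det_apply]
    congr 1
    ext i j
    simp [Module.Basis.toMatrix_apply, θ0]
  let θ : ∀ ξ : X, δ ξ = δ η → (A.presheaf.stalk ξ ≃ₗ[X.presheaf.stalk ξ] B.presheaf.stalk ξ) :=
    fun ξ hξ => (eq_η hd hξ).symm ▸ θ0
  obtain ⟨H, p, q, hH, hpq, hjoint, -⟩ :=
    exists_roof hd (cohLe_top hd hA.1) (cohLe_top hd hB.1) θ
  have hp : Function.Bijective (stalkLin p η) := (hpq η rfl).1
  have hq : ∀ t, stalkLin q η t = θ0 (stalkLin p η t) := (hpq η rfl).2
  have hqb : Function.Bijective (stalkLin q η) := by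
    rw [show ⇑(stalkLin q η) = ⇑θ0 ∘ ⇑(stalkLin p η) from funext hq]
    exact θ0.bijective.comp hp
  have hpη : ∀ (y : X) (t : H.presheaf.stalk y), toη A y (stalkLin p y t) = stalkLin p η (toη H y t) :=
    fun y t => sp_stalkMap p (hsp y) t
  have hqη : ∀ (y : X) (t : H.presheaf.stalk y), toη B y (stalkLin q y t) = stalkLin q η (toη H y t) :=
    fun y t => sp_stalkMap q (hsp y) t
  -- injectivity in codimension one
  have hHinj : ∀ y, δ y + 1 = δ η → Function.Injective (stalkLin p y) ∧
      Function.Injective (stalkLin q y) ∧ Function.Injective (toη H y) := by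
    intro y hy
    obtain ⟨hAi, -⟩ := hA.2 y hy
    obtain ⟨hBi, -⟩ := hB.2 y hy
    have h0 : Function.Injective (toη H y) := by
      refine (injective_iff_map_eq_zero (toη H y)).2 fun t ht => hjoint y t ?_ ?_
      · exact hAi (by rw [hpη, ht, map_zero, map_zero])
      · exact hBi (by rw [hqη, ht, map_zero, map_zero])
    refine ⟨(injective_iff_map_eq_zero _).2 fun t ht => h0 (hp.1 ?_),
      (injective_iff_map_eq_zero _).2 fun t ht => h0 (hqb.1 ?_), h0⟩
    · rw [← hpη, ht, map_zero, map_zero, map_zero]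
    · rw [← hqη, ht, map_zero, map_zero, map_zero]
  have hA' := cohLe_top hd hA.1
  have hB' := cohLe_top hd hB.1
  have hsmallK : ∀ {C : X.Modules} (g : H ⟶ C), Cyc.CohLe δ (δ η) C →
      Function.Injective (stalkLin g η) → (∀ y, δ y + 1 = δ η → Function.Injective (stalkLin g y)) →
      Cyc.CohLe δ (δ η - 2) (kernel g) := by
    intro C g hC h1 h2
    refine ⟨CohDev.isCoh_kernel g hH.1 hC.1.1, fun x hx => ?_⟩
    by_contra hlt
    refine not_nontrivial_iff_subsingleton.2 (subsingleton_stalk_kernel g x ?_) hx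
    have := le_top hd x
    rcases (show δ x = δ η ∨ δ x + 1 = δ η by omega) with h | h
    · rw [eq_η hd h]; exact h1
    · exact h2 x h
  have hsmallC : ∀ {C : X.Modules} (g : H ⟶ C), Cyc.CohLe δ (δ η) C →
      Function.Surjective (stalkLin g η) → Cyc.CohLe δ (δ η - 1) (cokernel g) := by
    intro C g hC h1
    refine ⟨CohDev.isCoh_cokernel g hH.1.1 hC.1, fun x hx => ?_⟩
    by_contra hlt
    refine not_nontrivial_iff_subsingleton.2 (subsingleton_stalk_cokernel g x ?_) hx
    have := le_top hd x
    rw [eq_η hd (x := x) (by omega)]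
    exact h1
  refine ⟨cokernel p, cokernel q, hsmallC p hA' hp.2, hsmallC q hB' hqb.2, ?_, fun y hy => ?_⟩
  · have e1 := kc_map p hH hA'
    have e2 := kc_map q hH hB'
    have hrew : kc δ (δ η) A - kc δ (δ η) B - (kc δ (δ η) (cokernel p) - kc δ (δ η) (cokernel q)) =
        kc δ (δ η) (kernel q) - kc δ (δ η) (kernel p) := by
      rw [eq_add_of_sub_eq e1.symm, eq_add_of_sub_eq e2.symm]
      abel
    rw [hrew]
    exact sub_mem (kc_mem_filt (hsmallK q hB' hqb.1 fun z hz => (hHinj z hz).2.1))
      (kc_mem_filt (hsmallK p hA' hp.1 fun z hz => (hHinj z hz).1))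
  · have hy1 : δ y + 1 = δ η := by omega
    have hco := coheight_one hd hy1
    obtain ⟨_, hdvr⟩ := VarDim.isDiscreteValuationRing_stalk_of_coheight_eq_one hnorm y hco
    obtain ⟨hAi, m, hm, hmdet, hmf⟩ := hA.2 y hy1
    obtain ⟨hBi, n, hn, hndet, hnf⟩ := hB.2 y hy1
    let bH := bA.map (LinearEquiv.ofBijective (stalkLin p η) hp).symm
    obtain ⟨e, ε, hε, hεspan⟩ := ExtPowSt.exists_lattice H hH.1 y bH
    have he : Submodule.span (X.presheaf.stalk y) (Set.range e) = ⊤ := by
      refine eq_top_iff.2 fun v _ => ?_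
      obtain ⟨c, hc⟩ := hεspan v
      have : v = ∑ i, c i • e i := (hHinj y hy1).2.2 (by
        rw [hc, map_sum]
        refine Finset.sum_congr rfl fun i _ => ?_
        rw [hε]
        exact (sp_smul H (hsp y) (c i) (e i)).symm)
      rw [this]
      exact Submodule.sum_mem _ fun i _ => Submodule.smul_mem _ _ (Submodule.subset_span ⟨i, rfl⟩)
    have hmatrix : ∀ {C : X.Modules} (g : H ⟶ C) (w : Fin r → C.presheaf.stalk y),
        Submodule.span (X.presheaf.stalk y) (Set.range w) = ⊤ →
        ∃ P : Matrix (Fin r) (Fin r) (X.presheaf.stalk y), ∀ j, stalkLin g y (e j) = ∑ i, P i j • w i := by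
      intro C g w hw
      have h : ∀ j, ∃ c : Fin r → X.presheaf.stalk y, ∑ i, c i • w i = stalkLin g y (e j) := fun j =>
        (Submodule.mem_span_range_iff_exists_fun _).1 (hw ▸ Submodule.mem_top)
      choose c hc using h
      exact ⟨Matrix.of fun i j => c j i, fun j => (hc j).symm⟩
    obtain ⟨P, hP⟩ := hmatrix p m hm
    obtain ⟨Q, hQ⟩ := hmatrix q n hn
    have hdetP : bA.det (fun j => toη A y (stalkLin p y (e j))) =
        bA.det (fun i => toη A y (m i)) * toK y P.det := by
      rw [RingHom.map_det, ← det_comb bA]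
      congr 1
      funext j
      rw [hP, map_sum]
      exact Finset.sum_congr rfl fun i _ => sp_smul A (hsp y) (P i j) (m i)
    have hdetQ : bB.det (fun j => toη B y (stalkLin q y (e j))) =
        bB.det (fun i => toη B y (n i)) * toK y Q.det := by
      rw [RingHom.map_det, ← det_comb bB]
      congr 1
      funext j
      rw [hQ, map_sum]
      exact Finset.sum_congr rfl fun i _ => sp_smul B (hsp y) (Q i j) (n i)
    have hne : bA.det (fun j => toη A y (stalkLin p y (e j))) ≠ 0 := by
      have hfam : (fun j => toη A y (stalkLin p y (e j))) =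
          ε.map (LinearEquiv.ofBijective (stalkLin p η) hp) := by
        funext j
        rw [Module.Basis.map_apply, hε, hpη]
        rfl
      rw [hfam]
      exact (bA.isUnit_det _).ne_zero
    have heq : bA.det (fun i => toη A y (m i)) * toK y P.det =
        bB.det (fun i => toη B y (n i)) * toK y Q.det := by
      rw [← hdetP, ← hdetQ, ← hθ0]
      congr 1
      funext j
      rw [hpη, hqη, hq]
    have hPne : P.det ≠ 0 := fun h => hne (by rw [hdetP, h, map_zero, mul_zero])
    have hQne : Q.det ≠ 0 := fun h => hne (by rw [hdetP, heq, h, map_zero, mul_zero])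
    have hli : ∀ {C : X.Modules} (b : Module.Basis (Fin r) (X.presheaf.stalk η) (C.presheaf.stalk η))
        (w : Fin r → C.presheaf.stalk η), b.det w ≠ 0 → LinearIndependent (X.presheaf.stalk η) w :=
      fun b w hw => ((b.is_basis_iff_det).2 (isUnit_of_ne_zero hw)).1
    have l1 := length_coker_toNat hco p e he m hm (hli bA _ hmdet) P hPne hP
    have l2 := length_coker_toNat hco q e he n hn (hli bB _ hndet) Q hQne hQ
    simp only [Cyc.sheafFun, if_pos hy]
    rw [l1, l2, ← hmf, ← hnf]
    have h3 := congrArg (fun z => Scheme.ord z y) heq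
    simp only [ord_mul' hmdet (toK_ne_zero hPne), ord_mul' hndet (toK_ne_zero hQne)] at h3
    linarith

include hd in
theorem sheafFun_biprod {a : ℤ} {A B : X.Modules} (hA : Cyc.CohLe δ a A) (hB : Cyc.CohLe δ a B) :
    Cyc.sheafFun δ a (A ⊞ B) = Cyc.sheafFun δ a A + Cyc.sheafFun δ a B :=
  CycLib.Dev.sheafFun_add (S := ShortComplex.mk (biprod.inl : A ⟶ A ⊞ B) biprod.snd biprod.inl_snd) hd
    (ShortComplex.Splitting.ofHasBinaryBiproduct A B).shortExact hA (cohLe_biprod hA hB) hB

include hd in
/-- Two pairs of framed modules with the same difference of orders have the same difference of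
classes modulo codimension two. -/
theorem kc_sub_eq_of_framed (hnorm : Pi1.IsNormalScheme X) {A B A' B' : X.Modules} {r r' : ℕ}
    {bA : Module.Basis (Fin r) (X.presheaf.stalk η) (A.presheaf.stalk η)}
    {bB : Module.Basis (Fin r) (X.presheaf.stalk η) (B.presheaf.stalk η)}
    {bA' : Module.Basis (Fin r') (X.presheaf.stalk η) (A'.presheaf.stalk η)}
    {bB' : Module.Basis (Fin r') (X.presheaf.stalk η) (B'.presheaf.stalk η)}
    {fA fB fA' fB' : X → ℤ}
    (hA : Framed δ A bA fA) (hB : Framed δ B bB fB)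
    (hA' : Framed δ A' bA' fA') (hB' : Framed δ B' bB' fB')
    (h : ∀ y, δ y + 1 = δ η → fA y - fB y = fA' y - fB' y) :
    kc δ (δ η) A - kc δ (δ η) B - (kc δ (δ η) A' - kc δ (δ η) B') ∈ filt δ (δ η) (δ η - 2) := by
  obtain ⟨T₁, T₂, h₁, h₂, hdiff, hfun⟩ := exists_diff hd hnorm hA hB
  obtain ⟨S₁, S₂, g₁, g₂, gdiff, gfun⟩ := exists_diff hd hnorm hA' hB'
  have hle : δ η - 1 ≤ δ η := by omega
  have hs : Cyc.sheafFun δ (δ η - 1) (T₁ ⊞ S₂) = Cyc.sheafFun δ (δ η - 1) (S₁ ⊞ T₂) := by
    rw [sheafFun_biprod hd h₁ g₂, sheafFun_biprod hd g₁ h₂]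
    funext y
    simp only [Pi.add_apply]
    by_cases hy : δ y = δ η - 1
    · have e1 := hfun y hy
      have e2 := gfun y hy
      have e3 := h y (by omega)
      omega
    · simp [Cyc.sheafFun, hy]
  have hk := kc_sub_mem_of_sheafFun hd hle (cohLe_biprod h₁ g₂) (cohLe_biprod g₁ h₂) hs
  rw [show δ η - 1 - 1 = δ η - 2 by omega, kc_biprod (cohLe_mono hle h₁) (cohLe_mono hle g₂),
    kc_biprod (cohLe_mono hle g₁) (cohLe_mono hle h₂)] at hk
  have := add_mem (sub_mem hdiff gdiff) hk
  convert this using 1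
  abel

include hd in
/-- A rank one reflexive module is framed by the negative of the divisor of a rational section. -/
theorem exists_framed_ref1 (hnorm : Pi1.IsNormalScheme X) {F : X.Modules} (hF : RefHull.IsRef1 F)
    {s : F.presheaf.stalk η} (hs : s ≠ 0) :
    ∃ b : Module.Basis (Fin 1) (X.presheaf.stalk η) (F.presheaf.stalk η),
      Framed δ F b fun y => - ordS F y s := by
  have hrk := rankOne_of_isRef1 hF
  have hbij : Function.Bijective (LinearMap.toSpanSingleton (X.presheaf.stalk η) (F.presheaf.stalk η) s) := by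
    refine ⟨(injective_iff_map_eq_zero _).2 fun a ha => (hrk.eq_zero_or a s ha).resolve_right hs, fun v => ?_⟩
    obtain ⟨a, rfl⟩ := hrk.exists_smul hs v
    exact ⟨a, rfl⟩
  let b := (Module.Basis.singleton (Fin 1) (X.presheaf.stalk η)).map (LinearEquiv.ofBijective _ hbij)
  refine ⟨b, hF.1, fun y hy => ?_⟩
  have hco := coheight_one hd hy
  obtain ⟨_, hdvr⟩ := VarDim.isDiscreteValuationRing_stalk_of_coheight_eq_one hnorm y hco
  refine ⟨toη_injective_of_isReflexive F hF.1 hF.2.1 y, ?_⟩
  obtain ⟨t, φ, ht, hφ, hsφ, e1⟩ := exists_coord hnorm hF hco hs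
  refine ⟨fun _ => t, ?_, ?_⟩
  · rw [Set.range_const]; exact ht.1
  have hdet : b.det (fun _ => toη F y t) * φ = 1 := by
    rw [b.det_apply, Matrix.det_fin_one, Module.Basis.toMatrix_apply]
    have h1 : b.repr s 0 = 1 := by
      have : s = b 0 := by simp [b]
      rw [this, b.repr_self, Finsupp.single_eq_same]
    have h2 := congrArg (fun z => b.repr z 0) hsφ
    simp only [map_smul, Finsupp.smul_apply, smul_eq_mul] at h2
    rw [h1] at h2
    rw [mul_comm]
    exact h2.symm
  have hne : b.det (fun _ => toη F y t) ≠ 0 := fun h => by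
    rw [h, zero_mul] at hdet
    exact zero_ne_one hdet
  refine ⟨hne, ?_⟩
  have h3 := congrArg (fun z => Scheme.ord z y) hdet
  simp only [ord_mul' hne hφ] at h3
  rw [← map_one (toK y), ord_toK_of_isUnit hco isUnit_one] at h3
  show _ = -ordS F y s
  rw [e1]
  linarith

open ExtPowSt in
include hd in
/-- A torsion free module is framed by the negative of the divisor of its determinant. -/
theorem framed_det (hnorm : Pi1.IsNormalScheme X) {r : ℕ} {F L : X.Modules} (hF : Coh.IsCoh F)
    (hFtf : TorSh.IsTorsionFree F) [F.IsQuasicoherent] (Φ : Sys r F L)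
    (b : Module.Basis (Fin r) (X.presheaf.stalk η) (F.presheaf.stalk η)) :
    Framed δ F b fun y => - ordS (RefHull.ddual L) y (sη Φ b) := by
  refine ⟨hF, fun y hy => ?_⟩
  have hco := coheight_one hd hy
  obtain ⟨_, hdvr⟩ := VarDim.isDiscreteValuationRing_stalk_of_coheight_eq_one hnorm y hco
  have hinj := toη_injective F y (hFtf y)
  obtain ⟨e, ε, hε, hspan⟩ := exists_lattice F hF y b
  refine ⟨hinj, e, eq_top_iff.2 fun v _ => ?_, ?_⟩
  · obtain ⟨c, hc⟩ := hspan v
    have : v = ∑ i, c i • e i := hinj (by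
      rw [hc, map_sum]
      refine Finset.sum_congr rfl fun i _ => ?_
      rw [hε]
      exact (sp_smul F (hsp y) (c i) (e i)).symm)
    rw [this]
    exact Submodule.sum_mem _ fun i _ => Submodule.smul_mem _ _ (Submodule.subset_span ⟨i, rfl⟩)
  have he : (fun i => toη F y (e i)) = ⇑ε := funext fun i => (hε i).symm
  rw [he]
  have hprod : ε.det b * b.det ε = 1 := by
    have h1 := congrArg (exteriorPower.alternatingMapLinearEquiv b.det)
      (ιMulti_eq_det_smul ε (⇑b))
    rw [map_smul, det_ιMulti, ιMulti_eq_det_smul b (⇑ε), map_smul, det_ιMulti] at h1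
    simpa using h1.symm
  have hne : b.det ε ≠ 0 := (b.isUnit_det ε).ne_zero
  have hne' : ε.det b ≠ 0 := (ε.isUnit_det b).ne_zero
  refine ⟨hne, ?_⟩
  have h2 : sη Φ (⇑b) = ε.det b • sη Φ (⇑ε) := by
    rw [sη, sη, wη_eq_det Φ ε, map_smul]
  show _ = -ordS _ y _
  rw [h2, ordS_sη Φ hF hco e ε hε hspan hne']
  have h3 := congrArg (fun z => Scheme.ord z y) hprod
  simp only [ord_mul' hne' hne] at h3
  rw [← map_one (toK y), ord_toK_of_isUnit hco isUnit_one] at h3
  linarith

omit [IsIntegral X] [IsLocallyNoetherian X] in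
/-- Stalks of a finite power. -/
theorem pow_stalk (G : X.Modules) (r : ℕ) (x : X) :
    ∃ e : (CohDev.pow G r).presheaf.stalk x ≃ₗ[X.presheaf.stalk x] (Fin r → G.presheaf.stalk x),
      ∀ t i, e t i = stalkLin (biproduct.π (fun _ : Fin r => G) i) x t := by
  classical
  let f : (CohDev.pow G r).presheaf.stalk x →ₗ[X.presheaf.stalk x] (Fin r → G.presheaf.stalk x) :=
    LinearMap.pi fun i => stalkLin (biproduct.π (fun _ : Fin r => G) i) x
  refine ⟨LinearEquiv.ofBijective f ⟨(injective_iff_map_eq_zero f).2 fun t ht => ?_, fun c => ?_⟩,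
    fun t i => rfl⟩
  · rw [← CohDev.stalkLin_id_apply x t, ← biproduct.total, CohDev.stalkLin_sum_apply]
    refine Finset.sum_eq_zero fun i _ => ?_
    have h0 : stalkLin (biproduct.π (fun _ : Fin r => G) i) x t = 0 := congrFun ht i
    rw [CohDev.stalkLin_comp_apply, h0, map_zero]
  · refine ⟨∑ j, stalkLin (biproduct.ι (fun _ : Fin r => G) j) x (c j), funext fun i => ?_⟩
    show stalkLin (biproduct.π (fun _ : Fin r => G) i) x _ = _
    rw [map_sum, Finset.sum_eq_single i]
    · rw [← CohDev.stalkLin_comp_apply, biproduct.ι_π_self, CohDev.stalkLin_id_apply]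
    · intro j _ hj
      rw [← CohDev.stalkLin_comp_apply, biproduct.ι_π_ne _ hj, CohDev.stalkLin_zero_apply]
    · simp

include hd in
/-- Free modules are framed with order zero. -/
theorem exists_framed_pow_O (hnorm : Pi1.IsNormalScheme X) (r : ℕ) :
    ∃ b : Module.Basis (Fin r) (X.presheaf.stalk η)
      ((CohDev.pow (Coh.structureModule X) r).presheaf.stalk η),
      Framed δ (CohDev.pow (Coh.structureModule X) r) b fun _ => 0 := by
  classical
  let O := Coh.structureModule X
  have hO : RefHull.IsRef1 O := isRef1_structureModule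
  let m : ∀ (x : X), Fin r → (CohDev.pow O r).presheaf.stalk x := fun x i =>
    stalkLin (biproduct.ι (fun _ : Fin r => O) i) x (unitStalk x 1)
  have hb : ∀ x : X, ∃ b : Module.Basis (Fin r) (X.presheaf.stalk x) ((CohDev.pow O r).presheaf.stalk x),
      ⇑b = m x := by
    intro x
    obtain ⟨e, he⟩ := pow_stalk O r x
    refine ⟨(Pi.basisFun (X.presheaf.stalk x) (Fin r)).map
      ((LinearEquiv.piCongrRight fun _ : Fin r => unitStalk x).trans e.symm), funext fun i => e.injective ?_⟩
    rw [Module.Basis.map_apply, LinearEquiv.trans_apply, LinearEquiv.apply_symm_apply]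
    funext j
    rw [he, LinearEquiv.piCongrRight_apply, Pi.basisFun_apply, ← CohDev.stalkLin_comp_apply]
    by_cases h : i = j
    · subst h
      rw [Pi.single_eq_same, biproduct.ι_π_self, CohDev.stalkLin_id_apply]
    · rw [Pi.single_eq_of_ne (Ne.symm h), biproduct.ι_π_ne _ h, map_zero, CohDev.stalkLin_zero_apply]
  obtain ⟨b, hbm⟩ := hb η
  refine ⟨b, (CohDev.isCoh_pow_and_kcl hO.1 r).1, fun y hy => ?_⟩
  have hco := coheight_one hd hy
  obtain ⟨bm, hbmy⟩ := hb y
  have hm : (fun i => toη (CohDev.pow O r) y (m y i)) = ⇑b := by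
    rw [hbm]
    funext i
    show sp _ (hsp y) (stalkLin _ y _) = _
    refine (sp_stalkMap _ (hsp y) _).trans ?_
    show stalkLin _ _ _ = _
    rw [sp_unitStalk, map_one (spR (hsp y))]
  refine ⟨(injective_iff_map_eq_zero _).2 fun t ht => ?_, m y, by rw [← hbmy]; exact bm.span_eq, ?_⟩
  · obtain ⟨e, he⟩ := pow_stalk O r y
    refine e.injective (funext fun i => ?_)
    rw [map_zero, he]
    refine toη_injective_of_isReflexive O hO.1 hO.2.1 y ?_
    rw [show toη O y (stalkLin (biproduct.π (fun _ : Fin r => O) i) y t) =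
      stalkLin (biproduct.π (fun _ : Fin r => O) i) η (toη _ y t) from sp_stalkMap _ (hsp y) t, ht, map_zero]
    exact (map_zero _).symm
  · rw [hm, b.det_self]
    refine ⟨one_ne_zero, ?_⟩
    rw [← map_one (toK y), ord_toK_of_isUnit hco isUnit_one]

include hd in
theorem kc_pow {G : X.Modules} (hG : Coh.IsCoh G) : ∀ r : ℕ,
    kc δ (δ η) (CohDev.pow G r) = r • kc δ (δ η) G
  | 0 => by
    rw [zero_smul]
    refine kc_of_isZero ?_
    rw [IsZero.iff_id_eq_zero, ← biproduct.total]
    simp
  | r + 1 => by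
    rw [kc_iso (CohDev.powSucc G r), kc_biprod (cohLe_top hd hG) (cohLe_top hd (CohDev.isCoh_pow_and_kcl hG r).1),
      kc_pow hG r, succ_nsmul']

end Groth.Agent.RefChK0
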