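import Groth.Agent.RefChK0.Point

/-!
# Lattice ideals at a point of codimension two and the bound for generic representatives
-/

set_option autoImplicit false
set_option linter.style.haveILetI false

universe u

open CategoryTheory Limits AlgebraicGeometry TopologicalSpace

noncomputable section

namespace Groth.Agent.RefChK0

open Groth.Agent.HomShQC Groth.Agent.Ref1 CycLib.Dev

variable {X : Scheme.{u}} [IsIntegral X] [IsLocallyNoetherian X]

local notation "η" => genericPoint X
local notation "K" => Scheme.functionField X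

/-- The elements of the local ring in a lattice. -/
def latIdeal (D : X → ℤ) (x : X) : Ideal (X.presheaf.stalk x) :=
  Submodule.comap (Algebra.linearMap (X.presheaf.stalk x) K) (lat D x)

theorem mem_latIdeal {D : X → ℤ} {x : X} {r : X.presheaf.stalk x} :
    r ∈ latIdeal D x ↔ toK x r ∈ lat D x := Iff.rfl

theorem toK_spR {x y : X} (hyx : y ⤳ x) (r : X.presheaf.stalk x) : toK y (spR hyx r) = toK x r :=
  spR_spR (hsp y) hyx r

/-- The prime of the local ring given by a generization. -/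
abbrev genPrime {x y : X} (hyx : y ⤳ x) : Ideal (X.presheaf.stalk x) :=
  (IsLocalRing.maximalIdeal (X.presheaf.stalk y)).comap (spR hyx)

theorem height_genPrime {x y : X} (hyx : y ⤳ x) {n : ℕ} (hy : Order.coheight y = n) :
    (genPrime hyx).height = n := by
  letI := (X.presheaf.stalkSpecializes hyx).hom.toAlgebra
  haveI := CycLib.isLocalization_stalkSpecializes hyx
  have h := @IsLocalization.AtPrime.ringKrullDim_eq_height _ _
    (RingHom.ker (Cyc.specMap x y hyx)) (RingHom.ker_isPrime _) (X.presheaf.stalk y) _ _ this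
  rw [ringKrullDim_stalk_eq_coheight, hy, CycLib.ker_specMap_eq_comap] at h
  exact (WithBot.coe_inj.1 h).symm

variable (hX : Pi1.IsNormalScheme X)

include hX

omit hX in
theorem inLat_iff_mul {D : X → ℤ} {f : K} (hf : f ≠ 0) {x : X} {a : K} :
    InLat (fun y => D y + Scheme.ord f y) x a ↔ InLat D x (a * f) := by
  rcases eq_or_ne a 0 with rfl | ha
  · simp [InLat]
  simp only [InLat, ha, mul_ne_zero ha hf, false_or]
  refine forall_congr' fun y => forall_congr' fun _ => forall_congr' fun _ => ?_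
  have h : Scheme.ord (a * f) y = Scheme.ord a y + Scheme.ord f y := Scheme.ord_mul ha hf
  rw [h]
  omega

theorem latIdeal_ne_bot {D : X → ℤ} (hD : IsDiv D) (x : X) : latIdeal D x ≠ ⊥ := by
  obtain ⟨F, s, hF, hs, eD⟩ := hD
  haveI := hF.1.1
  obtain ⟨a, v, ha, hv⟩ := exists_smul_eq_toη F x s
  exact fun h => ha ((Submodule.eq_bot_iff _).1 h a ((mem_lat_iff hX hF hs eD).2 ⟨v, hv⟩))

theorem mem_genPrime {D : X → ℤ} (hD : IsDiv D) {x y : X} (hyx : y ⤳ x) (hy : Order.coheight y = 1)
    (hneg : D y < 0) : latIdeal D x ≤ genPrime hyx := by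
  intro r hr
  rw [Ideal.mem_comap]
  by_contra hu
  replace hu := IsLocalRing.notMem_maximalIdeal.1 hu
  have h0 : toK x r ≠ 0 := by rw [← toK_spR hyx]; exact toK_ne_zero hu.ne_zero
  have h : 0 ≤ Scheme.ord (toK x r) y + D y := ((mem_lat hX hD).1 hr).resolve_left h0 y hyx hy
  rw [← toK_spR hyx, ord_toK_of_isUnit hy hu] at h
  omega

theorem genPrime_mem_minimalPrimes {D : X → ℤ} (hD : IsDiv D) {x y : X} (hyx : y ⤳ x)
    (hy : Order.coheight y = 1) (hneg : D y < 0) : genPrime hyx ∈ (latIdeal D x).minimalPrimes := by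
  refine ⟨⟨inferInstance, mem_genPrime hX hD hyx hy hneg⟩, fun q hq hle => ?_⟩
  by_contra hne
  haveI := hq.1
  have h1 := Ideal.height_strict_mono_of_isPrime (lt_of_le_of_ne hle fun h => hne h.ge)
  rw [height_genPrime hyx (n := 1) (by exact_mod_cast hy), Nat.cast_one, Order.lt_one_iff,
    Ideal.height_eq_zero_iff_eq_bot] at h1
  exact latIdeal_ne_bot hX hD x (le_bot_iff.1 (h1 ▸ hq.2))

theorem mem_nonZeroDivisors_latIdeal {D : X → ℤ} (hD : IsDiv D) {x : X}
    (hle : ∀ y, y ⤳ x → Order.coheight y = 1 → D y ≤ 0) (g : X.presheaf.stalk x)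
    (hg : ∀ q ∈ (latIdeal D x).minimalPrimes, g ∉ q) :
    Ideal.Quotient.mk (latIdeal D x) g ∈ nonZeroDivisors (X.presheaf.stalk x ⧸ latIdeal D x) := by
  rw [mem_nonZeroDivisors_iff_left]
  intro z hz
  obtain ⟨z, rfl⟩ := Ideal.Quotient.mk_surjective z
  rw [← map_mul, Ideal.Quotient.eq_zero_iff_mem] at hz
  rw [Ideal.Quotient.eq_zero_iff_mem, mem_latIdeal, mem_lat hX hD]
  refine or_iff_not_imp_left.2 fun hz0 y hyx hy => ?_
  have hz0' : z ≠ 0 := fun h => hz0 (by rw [h, map_zero])
  have hnn : 0 ≤ Scheme.ord (toK x z) y :=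
    (((inLat_zero_iff hX).2 ⟨z, rfl⟩ : InLat 0 x (toK x z)).resolve_left hz0 y hyx hy).trans (by simp)
  rcases eq_or_lt_of_le (hle y hyx hy) with h0 | hneg
  · omega
  have hgu : IsUnit (spR hyx g) := IsLocalRing.notMem_maximalIdeal.1
    (hg _ (genPrime_mem_minimalPrimes hX hD hyx hy hneg))
  have hgK : toK x g ≠ 0 := by rw [← toK_spR hyx]; exact toK_ne_zero hgu.ne_zero
  have hzK : toK x z ≠ 0 := hz0
  rw [mem_latIdeal, mem_lat hX hD, map_mul] at hz
  have h := hz.resolve_left (mul_ne_zero hgK hzK) y hyx hy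
  rw [ord_mul' hgK hzK, ← toK_spR hyx, ord_toK_of_isUnit hy hgu] at h
  omega

theorem one_mem_latIdeal {D : X → ℤ} (hD : IsDiv D) {x : X}
    (h : ∀ y, y ⤳ x → Order.coheight y = 1 → 0 ≤ D y) : latIdeal D x = ⊤ := by
  rw [Ideal.eq_top_iff_one, mem_latIdeal, mem_lat hX hD]
  refine Or.inr fun y hyx hy => ?_
  rw [← toK_spR hyx, ord_toK_of_isUnit hy (by rw [map_one]; exact isUnit_one)]
  simpa using h y hyx hy

/-- The minimal primes have height one. -/
theorem height_le_one_of_minimalPrimes {D : X → ℤ} (hD : IsDiv D) {x : X} (hx : Order.coheight x = 2)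
    {q : Ideal (X.presheaf.stalk x)} (hq : q ∈ (latIdeal D x).minimalPrimes) : q.height ≤ 1 := by
  haveI := hq.1.1
  have hm : (IsLocalRing.maximalIdeal (X.presheaf.stalk x)).height = 2 := by
    have := IsLocalRing.maximalIdeal_height_eq_ringKrullDim (R := X.presheaf.stalk x)
    rw [ringKrullDim_stalk_eq_coheight, hx] at this
    exact WithBot.coe_inj.1 this
  rcases eq_or_lt_of_le (IsLocalRing.le_maximalIdeal hq.1.1.ne_top) with rfl | hlt
  · exfalso
    have hrad : (latIdeal D x).radical = IsLocalRing.maximalIdeal _ := by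
      rw [← Ideal.sInf_minimalPrimes]
      refine le_antisymm (sInf_le hq) (le_sInf fun q' hq' => ?_)
      exact hq.2 hq'.1 (IsLocalRing.le_maximalIdeal hq'.1.1.ne_top)
    by_cases hall : ∀ y, y ⤳ x → Order.coheight y = 1 → 0 ≤ D y
    · exact hq.1.1.ne_top (top_le_iff.1 (one_mem_latIdeal hX hD hall ▸ hq.1.2))
    push Not at hall
    obtain ⟨y, hyx, hy, hneg⟩ := hall
    have h1 : IsLocalRing.maximalIdeal (X.presheaf.stalk x) ≤ genPrime hyx := by
      rw [← hrad]
      exact (Ideal.IsPrime.radical_le_iff inferInstance).2 (mem_genPrime hX hD hyx hy hneg)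
    have h2 := Ideal.height_mono h1
    rw [hm, height_genPrime hyx (n := 1) (by exact_mod_cast hy)] at h2
    exact absurd h2 (by norm_num)
  · have h1 := Ideal.height_strict_mono_of_isPrime hlt
    rw [hm] at h1
    rw [← one_add_one_eq_two] at h1
    exact Order.le_of_lt_add_one h1

theorem krullDimLE_quotient {D : X → ℤ} (hD : IsDiv D) {x : X} (hx : Order.coheight x = 2) :
    Ring.KrullDimLE 1 (X.presheaf.stalk x ⧸ latIdeal D x) := by
  obtain ⟨a, ha, ha0⟩ := Submodule.exists_mem_ne_zero_of_ne_bot (latIdeal_ne_bot hX hD x)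
  rw [Ring.krullDimLE_iff]
  refine (ringKrullDim_le_of_surjective (Ideal.Quotient.factor ((Ideal.span_singleton_le_iff_mem _).2 ha))
    (Ideal.Quotient.factor_surjective _)).trans ?_
  have h := ringKrullDim_quotient_succ_le_of_nonZeroDivisor (mem_nonZeroDivisors_of_ne_zero ha0)
  rw [ringKrullDim_stalk_eq_coheight, hx] at h
  rw [← ENat.WithBot.add_le_add_one_right_iff]
  exact h.trans (by norm_num)

/-- A principal ideal is a lattice ideal. -/
theorem latIdeal_ord {x : X} {d : X.presheaf.stalk x} (hd0 : d ≠ 0) :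
    latIdeal (fun y => -Scheme.ord (toK x d) y) x = Ideal.span {d} := by
  have hdiv : IsDiv fun y => -Scheme.ord (toK x d) y := (isDiv_ord hX (toK_ne_zero hd0)).neg hX
  have hdK := toK_ne_zero hd0
  ext r
  rw [mem_latIdeal, mem_lat hX hdiv, Ideal.mem_span_singleton]
  have key : InLat (fun y => -Scheme.ord (toK x d) y) x (toK x r) ↔ InLat 0 x (toK x r / toK x d) := by
    have h := inLat_iff_mul (D := fun y => -Scheme.ord (toK x d) y) (x := x) (a := toK x r / toK x d) hdK
    rw [div_mul_cancel₀ _ hdK] at h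
    rw [← h]
    refine Iff.of_eq (congrArg (InLat · x _) (funext fun y => ?_))
    simp
  rw [key, inLat_zero_iff hX]
  constructor
  · rintro ⟨c, hc⟩
    exact ⟨c, toK_injective x (by rw [map_mul, hc, mul_div_cancel₀ _ hdK])⟩
  · rintro ⟨c, rfl⟩
    exact ⟨c, by rw [map_mul, mul_div_cancel_left₀ _ hdK]⟩

section stage

variable (k : Type u) [Field k] [Infinite k] [Algebra k X.functionField]

/-- Outside finitely many subspaces a generating family of rational functions gives a member cutting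
the lattice quotient in bounded length. -/
theorem exists_stage {x : X} (hx : Order.coheight x = 2) [Algebra k (X.presheaf.stalk x)]
    [IsScalarTower k (X.presheaf.stalk x) K]
    {D : X → ℤ} (hD : IsDiv D) (hle : ∀ y, y ⤳ x → Order.coheight y = 1 → D y ≤ 0)
    {P : X → ℤ} (hP : IsDiv P) (V : Submodule k K)
    (hgen : lat P x ≤ Submodule.span (X.presheaf.stalk x) (V : Set K))
    (hVle : ∀ f ∈ V, f ∈ lat P x) {h : X.presheaf.stalk x}
    (hh : ∀ q ∈ (latIdeal D x).minimalPrimes, h ∉ q)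
    (htr : toK x h ∈ Submodule.span (X.presheaf.stalk x)
      {w : K | ∃ a ∈ lat P x, ∃ b ∈ lat (-P) x, w = a * b}) :
    ∃ (ι : Type u) (_ : Finite ι) (W : ι → Submodule k V), (∀ i, W i ≠ ⊤) ∧
      ∀ v : V, (∀ i, v ∉ W i) → (v : K) ≠ 0 →
        ∃ g ∈ latIdeal (-fun y => P y + Scheme.ord (v : K) y) x,
          (∀ q ∈ (latIdeal D x).minimalPrimes, g ∉ q) ∧
          Module.length (X.presheaf.stalk x) (X.presheaf.stalk x ⧸ (latIdeal D x ⊔ Ideal.span {g})) ≤
            Module.length (X.presheaf.stalk x) (X.presheaf.stalk x ⧸ (latIdeal D x ⊔ Ideal.span {h})) := by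
  classical
  let R := X.presheaf.stalk x
  rcases eq_or_ne (latIdeal D x) ⊤ with htop | htop
  · refine ⟨PEmpty, inferInstance, fun i => i.elim, fun i => i.elim, fun v _ _ => ⟨0, zero_mem _, ?_, ?_⟩⟩
    · rw [htop, Ideal.minimalPrimes_top]; simp
    · rw [htop, top_sup_eq, top_sup_eq]
  haveI := krullDimLE_quotient hX hD hx
  let M := lat (-P) x
  have hmem : ∀ (v : V) (m : M), ∃ r : R, toK x r = (v : K) * m := fun v m => by
    have := mul_mem_lat hX hP (hP.neg hX) (hVle v v.2) m.2
    rwa [add_neg_cancel, mem_lat_zero hX] at this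
  choose μ₀ hμ₀ using hmem
  let μ : V →ₗ[k] (M →ₗ[R] R) :=
    { toFun := fun v =>
        { toFun := μ₀ v
          map_add' := fun a b => toK_injective x (by
            rw [map_add, hμ₀, hμ₀, hμ₀, Submodule.coe_add, mul_add])
          map_smul' := fun r a => toK_injective x (by
            rw [RingHom.id_apply, smul_eq_mul, map_mul, hμ₀, hμ₀, Submodule.coe_smul,
              Algebra.smul_def, mul_left_comm]
            rfl) }
      map_add' := fun v w => LinearMap.ext fun m => toK_injective x (by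
        show toK x (μ₀ (v + w) m) = toK x (μ₀ v m + μ₀ w m)
        rw [map_add, hμ₀, hμ₀, hμ₀, Submodule.coe_add, add_mul])
      map_smul' := fun c v => LinearMap.ext fun m => toK_injective x (by
        show toK x (μ₀ (c • v) m) = toK x (c • μ₀ v m)
        rw [hμ₀, Submodule.coe_smul, smul_mul_assoc, toK_eq_algebraMap, Algebra.smul_def c (μ₀ v m), map_mul,
          ← IsScalarTower.algebraMap_apply, Algebra.smul_def, ← hμ₀ v m]
        rfl) }
  have hspan : h ∈ Ideal.span (Set.range fun p : V × M => μ p.1 p.2) := by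
    let I := Ideal.span (Set.range fun p : V × M => μ p.1 p.2)
    let T : Submodule R K := Submodule.map (Algebra.linearMap R K) I
    suffices hT : toK x h ∈ T by
      obtain ⟨r, hr, e⟩ := hT
      exact (toK_injective x e) ▸ hr
    refine (Submodule.span_le.2 ?_) htr
    rintro _ ⟨a, ha, b, hb, rfl⟩
    have : ∀ a ∈ Submodule.span R (V : Set K), a * b ∈ T := by
      intro a ha
      induction ha using Submodule.span_induction with
      | mem a ha => exact ⟨μ ⟨a, ha⟩ ⟨b, hb⟩, Ideal.subset_span ⟨(⟨a, ha⟩, ⟨b, hb⟩), rfl⟩, hμ₀ _ _⟩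
      | zero => rw [zero_mul]; exact zero_mem _
      | add _ _ _ _ h1 h2 => rw [add_mul]; exact add_mem h1 h2
      | smul r a _ h1 => rw [smul_mul_assoc]; exact Submodule.smul_mem _ _ h1
    exact this a (hgen ha)
  obtain ⟨ι, hι, W, hW, hgood⟩ := Gen.exists_avoid k (latIdeal D x) htop hh
    (mem_nonZeroDivisors_latIdeal hX hD hle) μ hspan
  refine ⟨ι, hι, W, hW, fun v hv hv0 => ?_⟩
  obtain ⟨m, hm, hlen⟩ := hgood v hv
  refine ⟨μ v m, ?_, hm, hlen⟩
  rw [mem_latIdeal]
  refine Submodule.subset_span ?_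
  show InLat _ x (toK x (μ₀ v m))
  rw [hμ₀, mul_comm]
  have hm' := (mem_lat hX (hP.neg hX)).1 m.2
  rcases eq_or_ne (m : K) 0 with h0 | h0
  · exact Or.inl (by rw [h0, zero_mul])
  refine Or.inr fun y hyx hy => ?_
  have h1 := hm'.resolve_left h0 y hyx hy
  have h2 : Scheme.ord ((m : K) * (v : K)) y = Scheme.ord (m : K) y + Scheme.ord (v : K) y :=
    Scheme.ord_mul h0 hv0
  simp only [Pi.neg_apply] at h1 ⊢
  omega

/-- Two generic effective representatives meet in bounded length at `x`. -/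
theorem exists_bound {x : X} (hx : Order.coheight x = 2) [Algebra k (X.presheaf.stalk x)]
    [IsScalarTower k (X.presheaf.stalk x) K] {E : ℕ} {J : Set (X.presheaf.stalk x)} (hJ : GoodAt E x J)
    (hm : ∀ d ∈ J, ¬ IsUnit d)
    (hesc : ∀ q : Ideal (X.presheaf.stalk x), q.IsPrime → q.height ≤ 1 → ∃ d ∈ J, d ∉ q) :
    ∃ c₁ : ℕ, ∀ (P : X → ℤ) (V : Submodule k K), IsDiv P → (∀ f ∈ V, f ∈ lat P x) →
      lat P x ≤ Submodule.span (X.presheaf.stalk x) (V : Set K) →
      ∃ (ι : Type u) (_ : Finite ι) (W : ι → Submodule k V), (∀ i, W i ≠ ⊤) ∧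
        ∀ v : V, (∀ i, v ∉ W i) → (v : K) ≠ 0 →
        ∀ (P' : X → ℤ) (V' : Submodule k K), IsDiv P' → (∀ f ∈ V', f ∈ lat P' x) →
          lat P' x ≤ Submodule.span (X.presheaf.stalk x) (V' : Set K) →
          ∃ (ι' : Type u) (_ : Finite ι') (W' : ι' → Submodule k V'), (∀ i, W' i ≠ ⊤) ∧
            ∀ v' : V', (∀ i, v' ∉ W' i) → (v' : K) ≠ 0 →
              Module.length (X.presheaf.stalk x) (X.presheaf.stalk x ⧸
                (latIdeal (-fun y => P y + Scheme.ord (v : K) y) x ⊔
                  latIdeal (-fun y => P' y + Scheme.ord (v' : K) y) x)) ≤ c₁ := by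
  classical
  obtain ⟨d, hdJ, hd⟩ := hesc ⊥ Ideal.isPrime_bot (by rw [Ideal.height_bot]; exact zero_le)
  have hd0 : d ≠ 0 := fun h => hd (Ideal.mem_bot.2 h)
  let D : X → ℤ := fun y => -Scheme.ord (toK x d) y
  have hD : IsDiv D := (isDiv_ord hX (toK_ne_zero hd0)).neg hX
  have hDle : ∀ y, y ⤳ x → Order.coheight y = 1 → D y ≤ 0 := fun y hyx hy => by
    have := ((inLat_zero_iff hX).2 ⟨d, rfl⟩ : InLat 0 x (toK x d)).resolve_left (toK_ne_zero hd0) y hyx hy
    simp only [Pi.zero_apply, add_zero] at this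
    simp only [D]
    omega
  have hDI : latIdeal D x = Ideal.span {d} := latIdeal_ord hX hd0
  have hfinm : (latIdeal D x).minimalPrimes.Finite := Ideal.finite_minimalPrimes_of_isNoetherianRing _ _
  -- a second element avoiding the minimal primes
  obtain ⟨d', hd'J, hd'⟩ : ∃ d' ∈ Ideal.span J, ∀ q ∈ (latIdeal D x).minimalPrimes, d' ∉ q := by
    by_contra hne
    push Not at hne
    have hsub : (Ideal.span J : Set (X.presheaf.stalk x)) ⊆ ⋃ q ∈ (↑hfinm.toFinset : Set (Ideal (X.presheaf.stalk x))), (q : Set _) := fun z hz => by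
      obtain ⟨q, hq, hzq⟩ := hne z hz
      exact Set.mem_biUnion (hfinm.mem_toFinset.2 hq) hzq
    obtain ⟨q, hq, hle⟩ := (Ideal.subset_union_prime (f := fun q => q) ⊥ ⊥
      fun q hq _ _ => (hfinm.mem_toFinset.1 hq).1.1).1 hsub
    replace hq := hfinm.mem_toFinset.1 hq
    obtain ⟨z, hz, hzq⟩ := hesc q hq.1.1 (height_le_one_of_minimalPrimes hX hD hx hq)
    exact hzq (hle (Ideal.subset_span hz))
  have htr : ∀ P : X → ℤ, IsDiv P → ∀ z ∈ Ideal.span J, toK x z ∈ Submodule.span (X.presheaf.stalk x)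
      {w : K | ∃ a ∈ lat P x, ∃ b ∈ lat (-P) x, w = a * b} := fun P hP z hz =>
    (Ideal.span_le.2 fun z hz => (hJ P hP).1 z hz :
      Ideal.span J ≤ Submodule.comap (Algebra.linearMap (X.presheaf.stalk x) K)
        (Submodule.span (X.presheaf.stalk x)
          {w : K | ∃ a ∈ lat P x, ∃ b ∈ lat (-P) x, w = a * b})) hz
  let q := Module.length (X.presheaf.stalk x) (X.presheaf.stalk x ⧸ (latIdeal D x ⊔ Ideal.span {d'}))
  have hq : q ≠ ⊤ := by
    haveI := krullDimLE_quotient hX hD hx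
    have h := Ring.ord_ne_top (mem_nonZeroDivisors_latIdeal hX hD hDle d' hd')
    rw [Ring.ord, ← Module.length_eq_of_surjective (R := X.presheaf.stalk x ⧸ latIdeal D x)
      (S := X.presheaf.stalk x) Ideal.Quotient.mk_surjective] at h
    refine ne_top_of_le_ne_top h (le_of_eq ?_)
    refine (LinearEquiv.length_eq ?_).symm
    have e1 : Ideal.span {Ideal.Quotient.mk (latIdeal D x) d'} =
        Ideal.map (Ideal.Quotient.mk (latIdeal D x)) (Ideal.span {d'}) := by
      rw [Ideal.map_span, Set.image_singleton]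
    exact ((Submodule.quotEquivOfEq _ _ e1).restrictScalars (X.presheaf.stalk x)).trans
      (DoubleQuot.quotQuotEquivQuotSupₐ (X.presheaf.stalk x) (latIdeal D x) (Ideal.span {d'})).toLinearEquiv
  refine ⟨q.toNat, fun P V hP hV hgen => ?_⟩
  obtain ⟨ι, hι, W, hW, hgood⟩ := exists_stage hX k hx hD hDle hP V hgen hV hd' (htr P hP d' hd'J)
  refine ⟨ι, hι, W, hW, fun v hv hv0 P' V' hP' hV' hgen' => ?_⟩
  obtain ⟨g, hgA, hgq, hglen⟩ := hgood v hv hv0
  let A : X → ℤ := -fun y => P y + Scheme.ord (v : K) y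
  have hA : IsDiv A := (hP.add hX (isDiv_ord hX hv0)).neg hX
  have hAle : ∀ y, y ⤳ x → Order.coheight y = 1 → A y ≤ 0 := fun y hyx hy => by
    have := ((mem_lat hX hP).1 (hV _ v.2)).resolve_left hv0 y hyx hy
    simp only [A, Pi.neg_apply]
    omega
  have hdA : ∀ r ∈ (latIdeal A x).minimalPrimes, d ∉ r := by
    intro r hr hdr
    haveI := hr.1.1
    have h1 := height_le_one_of_minimalPrimes hX hA hx hr
    obtain ⟨r', hr', hle⟩ := Ideal.exists_minimalPrimes_le (I := latIdeal D x) (J := r)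
      (hDI ▸ (Ideal.span_singleton_le_iff_mem _).2 hdr)
    haveI := hr'.1.1
    rcases eq_or_lt_of_le hle with rfl | hlt
    · exact hgq _ hr' (hr.1.2 hgA)
    · have h2 := (Ideal.height_strict_mono_of_isPrime hlt).trans_le h1
      rw [Order.lt_one_iff, Ideal.height_eq_zero_iff_eq_bot] at h2
      exact hd0 (Ideal.mem_bot.1 (h2 ▸ hr'.1.2 (hDI ▸ Ideal.mem_span_singleton_self d)))
  obtain ⟨ι', hι', W', hW', hgood'⟩ :=
    exists_stage hX k hx hA hAle hP' V' hgen' hV' hdA (htr P' hP' d (Ideal.subset_span hdJ))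
  refine ⟨ι', hι', W', hW', fun v' hv' hv0' => ?_⟩
  obtain ⟨g', hg'A, -, hg'len⟩ := hgood' v' hv' hv0'
  have hmono : ∀ {I I' : Ideal (X.presheaf.stalk x)}, I ≤ I' →
      Module.length (X.presheaf.stalk x) (X.presheaf.stalk x ⧸ I') ≤
        Module.length (X.presheaf.stalk x) (X.presheaf.stalk x ⧸ I) := fun {I I'} h =>
    Module.length_le_of_surjective (Submodule.factor h) (Submodule.factor_surjective h)
  calc Module.length (X.presheaf.stalk x) (X.presheaf.stalk x ⧸ (latIdeal A x ⊔ _))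
      ≤ Module.length (X.presheaf.stalk x) (X.presheaf.stalk x ⧸ (latIdeal A x ⊔ Ideal.span {g'})) :=
        hmono (sup_le_sup_left ((Ideal.span_singleton_le_iff_mem _).2 hg'A) _)
    _ ≤ Module.length (X.presheaf.stalk x) (X.presheaf.stalk x ⧸ (latIdeal A x ⊔ Ideal.span {d})) := hg'len
    _ ≤ Module.length (X.presheaf.stalk x) (X.presheaf.stalk x ⧸ (latIdeal D x ⊔ Ideal.span {g})) := by
        refine hmono (sup_le (hDI ▸ le_sup_right) (le_trans ((Ideal.span_singleton_le_iff_mem _).2 hgA) le_sup_left))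
    _ ≤ q := hglen
    _ = (q.toNat : ℕ∞) := (ENat.natCast_toNat hq).symm

end stage

end Groth.Agent.RefChK0
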