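import Groth.Agent.RefChK0.Proj
import Groth.Agent.RegLoc.Basic
import Groth.Agent.ZClosLib.HeightOneHull
import Mathlib.RingTheory.Regular.Free
import Mathlib.RingTheory.Ideal.AssociatedPrime.Localization
import Mathlib.RingTheory.DiscreteValuationRing.TFAE
import Mathlib.RingTheory.RegularLocalRing.Polynomial

/-!
# Trace ideals of rank one reflexive lattices at primes of height two

At a prime of height two of an affine normal domain finite over a regular ring, the lattice `1 / N` is
free over the base, so the Noether different lies in its trace ideal and it is generated by boundedly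
many elements.
-/

set_option autoImplicit false
set_option linter.style.haveILetI false

universe u

open scoped TensorProduct

namespace Groth.Agent.RefChK0.Trace

variable {A K : Type u} [CommRing A] [IsDomain A] [IsNoetherianRing A] [Field K] [Algebra A K]
  [IsFractionRing A K]

/-- The elements integral at a prime. -/
def locMem (x : Ideal A) (M : Submodule A K) (f : K) : Prop := ∃ t ∉ x, t • f ∈ M

theorem mul_inv_mem_one_div {N : Submodule A K} {f : K} :
    f ∈ (1 : Submodule A K) / N ↔ ∀ n ∈ N, ∃ a : A, algebraMap A K a = f * n := by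
  simp only [Submodule.mem_div_iff_forall_mul_mem, Submodule.mem_one]

theorem fg_one_div {N : Submodule A K} (hN : N ≠ ⊥) : ((1 : Submodule A K) / N).FG := by
  obtain ⟨n, hn, hn0⟩ := Submodule.exists_mem_ne_zero_of_ne_bot hN
  have hle : (1 : Submodule A K) / N ≤ Submodule.span A {n⁻¹} := fun f hf => by
    obtain ⟨a, ha⟩ := mul_inv_mem_one_div.1 hf n hn
    exact Submodule.mem_span_singleton.2 ⟨a, by rw [Algebra.smul_def, ha, mul_inv_cancel_right₀ hn0]⟩
  haveI : Module.Finite A (Submodule.span A {n⁻¹}) :=
    Module.Finite.of_fg (Submodule.fg_span_singleton _)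
  haveI := isNoetherian_of_isNoetherianRing_of_finite A (Submodule.span A {n⁻¹})
  exact isNoetherian_submodule.1 this _ hle

section Base

variable {S : Type u} [CommRing S] [IsDomain S] [IsNoetherianRing S] [IsIntegrallyClosed S]
  [IsRegularRing S] [IsIntegrallyClosed A] [Algebra S A] [Module.Finite S A] [FaithfulSMul S A]
  [Algebra S K] [IsScalarTower S A K]

/-- Divisibility in the lattice, up to the prime. -/
theorem exists_div_mem (x : Ideal A) [x.IsPrime] (hx : x.height = 2) {N : Submodule A K} (hN : N.FG)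
    {πS yS : S} (hπK : algebraMap S K πS ≠ 0)
    (hdim : ∀ q : Ideal S, q.IsPrime → q ≤ x.under S → πS ∈ q → yS ∈ q → q = x.under S)
    {F G : K} (hF : F ∈ (1 : Submodule A K) / N) (hG : G ∈ (1 : Submodule A K) / N)
    (hFG : yS • F = πS • G) :
    ∃ T : S, T ∉ x.under S ∧ T • (F / algebraMap S K πS) ∈ (1 : Submodule A K) / N := by
  classical
  let p : Ideal S := x.under S
  have hp : p.height = 2 := (VarDim.height_under_of_isIntegral x).trans hx
  obtain ⟨ν, hν⟩ := hN
  have hloc : ∀ n ∈ N, ∃ t : S, t ∉ p ∧ ∃ a : A, algebraMap A K (algebraMap S A πS * a) = t • (F * n) := by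
    intro n hn
    obtain ⟨a, ha⟩ := mul_inv_mem_one_div.1 hF n hn
    obtain ⟨b, hb⟩ := mul_inv_mem_one_div.1 hG n hn
    have hab : algebraMap S A yS * a = algebraMap S A πS * b := by
      apply IsFractionRing.injective A K
      rw [map_mul, map_mul, ha, hb, ← IsScalarTower.algebraMap_apply, ← IsScalarTower.algebraMap_apply,
        ← mul_assoc, ← mul_assoc, ← Algebra.smul_def, ← Algebra.smul_def, hFG]
    have hπA : algebraMap S A πS ≠ 0 := fun h => hπK (by
      rw [IsScalarTower.algebraMap_apply S A K, h, map_zero])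
    let J : Submodule A (A ⧸ Ideal.span {algebraMap S A πS}) := Submodule.span A {Submodule.Quotient.mk a}
    by_contra hno
    push Not at hno
    let Q : Ideal A := Module.annihilator A J
    have hQ : ∀ z : A, z ∈ Q ↔ z * a ∈ Ideal.span {algebraMap S A πS} := by
      intro z
      rw [Module.mem_annihilator]
      refine ⟨fun h => ?_, fun h w => ?_⟩
      · have := congrArg Subtype.val (h ⟨_, Submodule.mem_span_singleton_self _⟩)
        simp only [SetLike.val_smul, ZeroMemClass.coe_zero] at this
        rw [← Submodule.Quotient.mk_smul, Submodule.Quotient.mk_eq_zero] at this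
        exact this
      · obtain ⟨r, hr⟩ := Submodule.mem_span_singleton.1 w.2
        refine Subtype.ext ?_
        rw [SetLike.val_smul, ← hr, smul_comm, ← Submodule.Quotient.mk_smul,
          (Submodule.Quotient.mk_eq_zero _).2 (by rw [smul_eq_mul]; exact h), smul_zero]
        rfl
    have hdisj : Disjoint (Q : Set A) (Algebra.algebraMapSubmonoid A p.primeCompl : Set A) := by
      rw [Set.disjoint_left]
      rintro z hz ⟨t, ht, rfl⟩
      obtain ⟨a', ha'⟩ := Ideal.mem_span_singleton'.1 ((hQ _).1 hz)
      exact hno t ht a' (by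
        rw [mul_comm, ha', map_mul, ha, ← IsScalarTower.algebraMap_apply, Algebra.smul_def])
    obtain ⟨P, hP, hQP, hPd⟩ := Ideal.exists_le_prime_disjoint _ _ hdisj
    obtain ⟨P₀, hP₀, hP₀P⟩ := Ideal.exists_minimalPrimes_le hQP
    haveI := hP₀.1.1
    have hass : P₀ ∈ associatedPrimes A (A ⧸ Ideal.span {algebraMap S A πS}) :=
      associatedPrimes.subset_of_injective J.injective_subtype
        (Module.associatedPrimes.minimalPrimes_annihilator_subset_associatedPrimes A J hP₀)
    have hh := ZClosLib.HeightOneHull.height_eq_one_of_mem_associatedPrimes hπA hass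
    have hsub : P₀.under S ≤ p := by
      intro z hz
      by_contra hzp
      exact Set.disjoint_left.1 hPd (hP₀P hz) ⟨z, hzp, rfl⟩
    have hπP : πS ∈ P₀.under S := hP₀.1.2 ((hQ _).2 (Ideal.mul_mem_right _ _ (Ideal.mem_span_singleton_self _)))
    have hyP : yS ∈ P₀.under S :=
      hP₀.1.2 ((hQ _).2 (by rw [hab]; exact Ideal.mul_mem_right _ _ (Ideal.mem_span_singleton_self _)))
    have hlt : P₀.under S < p := by
      refine lt_of_le_of_ne hsub fun h => ?_
      have h1 := VarDim.height_under_of_isIntegral (R := S) P₀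
      rw [h, hp, hh] at h1
      exact absurd h1 (by decide)
    exact hlt.ne (hdim _ inferInstance hsub hπP hyP)
  choose t ht a' ha' using hloc
  let T : S := ∏ z ∈ ν.attach, t z.1 (hν ▸ Submodule.subset_span z.2)
  have hT : T ∉ p := fun h => by
    obtain ⟨z, -, hz⟩ := (Ideal.IsPrime.prod_mem_iff).1 h
    exact ht _ _ hz
  refine ⟨T, hT, ?_⟩
  rw [mul_inv_mem_one_div]
  intro n hn
  rw [← hν] at hn
  induction hn using Submodule.span_induction with
  | mem n hn =>
    obtain ⟨q, hq⟩ : t n (hν ▸ Submodule.subset_span hn) ∣ T :=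
      Finset.dvd_prod_of_mem (fun z : ν => t z.1 (hν ▸ Submodule.subset_span z.2)) (Finset.mem_attach _ ⟨n, hn⟩)
    refine ⟨algebraMap S A q * a' n (hν ▸ Submodule.subset_span hn), ?_⟩
    have h1 := ha' n (hν ▸ Submodule.subset_span hn)
    rw [map_mul, ← IsScalarTower.algebraMap_apply] at h1
    simp only [hq, Algebra.smul_def, map_mul, ← IsScalarTower.algebraMap_apply] at h1 ⊢
    field_simp
    linear_combination algebraMap S K q * h1
  | zero => exact ⟨0, by simp⟩
  | add a b _ _ ha hb =>
    obtain ⟨a₁, h1⟩ := ha; obtain ⟨b₁, h2⟩ := hb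
    exact ⟨a₁ + b₁, by rw [map_add, h1, h2, mul_add]⟩
  | smul r a _ ha =>
    obtain ⟨a₁, h1⟩ := ha
    exact ⟨r * a₁, by rw [map_mul, h1]; simp only [Algebra.smul_def]; ring⟩

section Local

variable (L : Type u) [CommRing L] [Algebra S L] [Algebra L K] [IsScalarTower S L K]

/-- The localised lattice. -/
def lat (x : Ideal A) [x.IsPrime] [IsLocalization.AtPrime L (x.under S)] (N : Submodule A K) : Submodule L K :=
  let p := x.under S
  { carrier := {f | ∃ t : S, t ∉ p ∧ t • f ∈ (1 : Submodule A K) / N}
    zero_mem' := ⟨1, fun h => Ideal.IsPrime.ne_top' ((Ideal.eq_top_iff_one p).2 h), by simp⟩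
    add_mem' := by
      rintro a b ⟨t, ht, hta⟩ ⟨t', ht', htb⟩
      refine ⟨t * t', fun h => (Ideal.IsPrime.mem_or_mem' h).elim ht ht', ?_⟩
      rw [smul_add]
      refine add_mem ?_ ?_
      · rw [mul_comm, mul_smul, ← algebraMap_smul A t' (t • a)]
        exact ((1 : Submodule A K) / N).smul_mem _ hta
      · rw [mul_smul, ← algebraMap_smul A t (t' • b)]
        exact ((1 : Submodule A K) / N).smul_mem _ htb
    smul_mem' := by
      rintro z f ⟨t, ht, htf⟩
      obtain ⟨a, v, rfl⟩ := IsLocalization.exists_mk'_eq p.primeCompl z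
      refine ⟨(v : S) * t, fun h => (Ideal.IsPrime.mem_or_mem' h).elim v.2 ht, ?_⟩
      have : ((v : S) * t) • (IsLocalization.mk' L a v • f) = algebraMap S A a • (t • f) := by
        rw [algebraMap_smul, mul_smul, ← IsScalarTower.algebraMap_smul L (v : S), smul_comm t,
          smul_smul, mul_comm, IsLocalization.mk'_spec, IsScalarTower.algebraMap_smul]
      rw [this]
      exact ((1 : Submodule A K) / N).smul_mem _ htf }

variable (x : Ideal A) [x.IsPrime] [IsLocalization.AtPrime L (x.under S)]

theorem mem_lat {N : Submodule A K} {f : K} :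
    f ∈ lat (S := S) L x N ↔ ∃ t : S, t ∉ x.under S ∧ t • f ∈ (1 : Submodule A K) / N := Iff.rfl

theorem finite_lat (hx : x.height = 2) {E : ℕ} (g : Fin E → A) (hg : Submodule.span S (Set.range g) = ⊤)
    {N : Submodule A K} (hN0 : N ≠ ⊥) :
    Module.Finite L (lat (S := S) L x N) ∧ Module.finrank L (lat (S := S) L x N) ≤ E := by
  classical
  let p : Ideal S := x.under S
  have hp : p.height = 2 := (VarDim.height_under_of_isIntegral x).trans hx
  have hinjS : Function.Injective (algebraMap S K) := by
    rw [IsScalarTower.algebraMap_eq S A K]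
    exact (IsFractionRing.injective A K).comp (FaithfulSMul.algebraMap_injective S A)
  haveI : IsDomain L := IsLocalization.isDomain_of_le_nonZeroDivisors L p.primeCompl_le_nonZeroDivisors
  haveI : IsNoetherianRing L := IsLocalization.isNoetherianRing p.primeCompl L inferInstance
  let Mp := lat (S := S) L x N
  obtain ⟨n, hn, hn0⟩ := Submodule.exists_mem_ne_zero_of_ne_bot hN0
  let W : Submodule L K := Submodule.span L (Set.range fun j => n⁻¹ * algebraMap A K (g j))
  have hMW : Mp ≤ W := by
    rintro f ⟨t, ht, htf⟩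
    obtain ⟨a, ha⟩ := mul_inv_mem_one_div.1 htf n hn
    obtain ⟨β, hβ⟩ := (Submodule.mem_span_range_iff_exists_fun S).1 (hg.ge (Submodule.mem_top (x := a)))
    have : f = IsLocalization.mk' L (1 : S) (⟨t, ht⟩ : p.primeCompl) • ∑ j, algebraMap S L (β j) • (n⁻¹ * algebraMap A K (g j)) := by
      have e1 : ∑ j, algebraMap S L (β j) • (n⁻¹ * algebraMap A K (g j)) = t • f := by
        calc ∑ j, algebraMap S L (β j) • (n⁻¹ * algebraMap A K (g j))
            = ∑ j, n⁻¹ * algebraMap A K (β j • g j) := by
              refine Finset.sum_congr rfl fun j _ => ?_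
              rw [IsScalarTower.algebraMap_smul, ← mul_smul_comm, Algebra.smul_def, Algebra.smul_def,
                map_mul, ← IsScalarTower.algebraMap_apply]
          _ = n⁻¹ * algebraMap A K a := by rw [← Finset.mul_sum, ← map_sum, hβ]
          _ = t • f := by rw [ha]; field_simp
      rw [e1, ← IsScalarTower.algebraMap_smul L t f, smul_smul]
      have := IsLocalization.mk'_spec L (1 : S) (⟨t, ht⟩ : p.primeCompl)
      rw [show IsLocalization.mk' L (1 : S) (⟨t, ht⟩ : p.primeCompl) * algebraMap S L t = 1 from this.trans (map_one _), one_smul]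
    rw [this]
    exact W.smul_mem _ (sum_mem fun j _ => W.smul_mem _ (Submodule.subset_span ⟨j, rfl⟩))
  haveI : Module.Finite L W := Module.Finite.span_of_finite L (Set.finite_range _)
  haveI : IsNoetherian L W := isNoetherian_of_isNoetherianRing_of_finite L W
  refine ⟨Module.Finite.of_fg (isNoetherian_submodule.1 ‹_› Mp hMW), ?_⟩
  exact (Submodule.finrank_mono hMW).trans ((finrank_range_le_card _).trans (Fintype.card_fin E).le)

theorem free_lat [IsRegularLocalRing L] (hx : x.height = 2) {N : Submodule A K} (hN : N.FG)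
    [Module.Finite L (lat (S := S) L x N)] : Module.Free L (lat (S := S) L x N) := by
  classical
  let p : Ideal S := x.under S
  have hp : p.height = 2 := (VarDim.height_under_of_isIntegral x).trans hx
  have hinjS : Function.Injective (algebraMap S K) := by
    rw [IsScalarTower.algebraMap_eq S A K]
    exact (IsFractionRing.injective A K).comp (FaithfulSMul.algebraMap_injective S A)
  haveI : IsDomain L := IsLocalization.isDomain_of_le_nonZeroDivisors L p.primeCompl_le_nonZeroDivisors
  haveI : IsNoetherianRing L := IsLocalization.isNoetherianRing p.primeCompl L inferInstance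
  let M : Submodule A K := 1 / N
  let Mp := lat (S := S) L x N
  haveI : Module.Finite L Mp := ‹_›
  -- a regular sequence
  have hdimL : ringKrullDim L = (2 : ℕ) := by
    rw [IsLocalization.AtPrime.ringKrullDim_eq_height p L, hp]; rfl
  have hmax : IsLocalRing.maximalIdeal L ≠ ⊥ := by
    intro h
    have := RegLoc.spanFinrank_eq_dim hdimL
    rw [h, Submodule.spanFinrank_bot] at this
    omega
  obtain ⟨π₀, hπ₀, hπ₂⟩ := RegLoc.Homological.exists_mem_notMem_sq (R := L) hmax
  obtain ⟨πS, v, hπ⟩ := IsLocalization.exists_mk'_eq p.primeCompl π₀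
  let π : L := algebraMap S L πS
  have hunit : IsUnit (algebraMap S L (v : S)) := IsLocalization.map_units L v
  have hπeq : π = π₀ * algebraMap S L (v : S) := by
    rw [← hπ, IsLocalization.mk'_spec]
  have hπm : π ∈ IsLocalRing.maximalIdeal L := hπeq ▸ Ideal.mul_mem_right _ _ hπ₀
  have hπsq : π ∉ IsLocalRing.maximalIdeal L ^ 2 := fun h =>
    hπ₂ ((Ideal.mul_unit_mem_iff_mem _ hunit).1 (hπeq ▸ h))
  have hπ0 : π ≠ 0 := fun h => hπsq (h ▸ zero_mem _)
  obtain ⟨hregq, d, hd, hd1⟩ := RegLoc.isRegularLocalRing_quotient_span_singleton hπm hπsq hdimL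
  haveI := hregq
  haveI : IsDomain (L ⧸ Ideal.span {π}) := RegLoc.isDomain _
  haveI : IsPrincipalIdealRing (L ⧸ Ideal.span {π}) := by
    by_cases hfield : IsField (L ⧸ Ideal.span {π})
    · letI := hfield.toField; infer_instance
    · have h1 : (IsLocalRing.maximalIdeal (L ⧸ Ideal.span {π})).IsPrincipal := by
        obtain ⟨s, hs, hs'⟩ := Submodule.FG.exists_span_finset_card_eq_spanFinrank
          (IsNoetherian.noetherian (IsLocalRing.maximalIdeal (L ⧸ Ideal.span {π})))
        rw [RegLoc.spanFinrank_eq_dim hd, show d = 1 by omega, Finset.card_eq_one] at hs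
        obtain ⟨w, rfl⟩ := hs
        exact ⟨⟨w, by rw [← hs', Finset.coe_singleton]⟩⟩
      haveI : IsDiscreteValuationRing (L ⧸ Ideal.span {π}) :=
        ((IsDiscreteValuationRing.TFAE (L ⧸ Ideal.span {π}) hfield).out 4 0).1 h1
      infer_instance
  have hreg : IsSMulRegular Mp π := fun a b hab => by
    have := congrArg Subtype.val hab
    simp only [SetLike.val_smul] at this
    have h1 : π • ((a : K) - b) = 0 := by rw [smul_sub, sub_eq_zero]; exact this
    rw [Algebra.smul_def, mul_eq_zero] at h1
    rcases h1 with h1 | h1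
    · refine absurd ?_ hπ0
      have hπS : πS = 0 := hinjS (by
        rw [map_zero, ← h1, IsScalarTower.algebraMap_apply S L K])
      show algebraMap S L πS = 0
      rw [hπS, map_zero]
    · exact Subtype.ext (sub_eq_zero.1 h1)
  -- torsion freeness modulo `π`
  have htors : ∀ (y : L), y ∉ Ideal.span {π} → ∀ f g' : Mp, y • f = π • g' → ∃ h : Mp, π • h = f := by
    intro y hy f g' hfg
    obtain ⟨yS, w, rfl⟩ := IsLocalization.exists_mk'_eq p.primeCompl y
    obtain ⟨t₁, ht₁, hf1⟩ := f.2
    obtain ⟨t₂, ht₂, hg2⟩ := g'.2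
    have hπK : algebraMap S K πS ≠ 0 := fun h => hπ0 (by
      show algebraMap S L πS = 0
      rw [show πS = 0 from hinjS (h.trans (map_zero _).symm), map_zero])
    let τ : S := t₁ * t₂
    let F : K := τ • (f : K)
    let G : K := ((w : S) * τ) • (g' : K)
    have hF : F ∈ M := by
      simp only [F, τ]
      rw [mul_comm, mul_smul, ← algebraMap_smul A t₂]
      exact M.smul_mem _ hf1
    have hG : G ∈ M := by
      simp only [G, τ]
      rw [← mul_assoc, mul_smul, ← algebraMap_smul A ((w : S) * t₁)]
      exact M.smul_mem _ hg2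
    have hFG : yS • F = πS • G := by
      have h0 := congrArg Subtype.val hfg
      simp only [SetLike.val_smul] at h0
      have h1 := congrArg (fun z => algebraMap S L ((w : S) * τ) • z) h0
      simp only [smul_smul] at h1
      rw [map_mul, mul_comm (algebraMap S L (w : S)) (algebraMap S L τ), mul_assoc,
        mul_comm (algebraMap S L (w : S)) (IsLocalization.mk' L yS w), IsLocalization.mk'_spec] at h1
      simp only [π] at h1
      simp only [← map_mul, IsScalarTower.algebraMap_smul] at h1
      simp only [F, G, smul_smul]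
      convert h1 using 2 <;> ring
    have hdim : ∀ q : Ideal S, q.IsPrime → q ≤ p → πS ∈ q → yS ∈ q → q = p := by
      intro q _ hsub hπP hyP
      let P' : Ideal L := q.map (algebraMap S L)
      have hd' : Disjoint (p.primeCompl : Set S) (q : Set S) :=
        Set.disjoint_left.2 fun z hz hz' => hz (hsub hz')
      haveI : P'.IsPrime := IsLocalization.isPrime_of_isPrime_disjoint p.primeCompl L q ‹q.IsPrime› hd'
      have hP' : P' = IsLocalRing.maximalIdeal L := by
        have hle : Ideal.span {π} ≤ P' := (Ideal.span_singleton_le_iff_mem _).2 (Ideal.mem_map_of_mem _ hπP)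
        have hy' : IsLocalization.mk' L yS w ∈ P' := (IsLocalization.mk'_mem_iff).2 (Ideal.mem_map_of_mem _ hyP)
        haveI : (P'.map (Ideal.Quotient.mk (Ideal.span {π}))).IsPrime :=
          Ideal.map_isPrime_of_surjective Ideal.Quotient.mk_surjective (by rwa [Ideal.mk_ker])
        have hne : P'.map (Ideal.Quotient.mk (Ideal.span {π})) ≠ ⊥ := fun h => by
          have := Ideal.mem_map_of_mem (Ideal.Quotient.mk (Ideal.span {π})) hy'
          rw [h, Ideal.mem_bot, Ideal.Quotient.eq_zero_iff_mem] at this
          exact hy this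
        have hmx := IsPrime.to_maximal_ideal hne
        have := congrArg (Ideal.comap (Ideal.Quotient.mk (Ideal.span {π}))) (IsLocalRing.eq_maximalIdeal hmx)
        rw [Ideal.comap_map_of_surjective _ Ideal.Quotient.mk_surjective, ← RingHom.ker_eq_comap_bot,
          Ideal.mk_ker, sup_eq_left.2 hle] at this
        rw [this]
        exact IsLocalRing.eq_maximalIdeal (Ideal.comap_isMaximal_of_surjective _ Ideal.Quotient.mk_surjective)
      have e1 : Ideal.comap (algebraMap S L) P' = q :=
        IsLocalization.comap_map_of_isPrime_disjoint p.primeCompl L ‹q.IsPrime› hd'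
      exact e1.symm.trans ((congrArg (Ideal.comap (algebraMap S L)) hP').trans
        (IsLocalization.AtPrime.under_maximalIdeal L p))
    obtain ⟨T, hT, hH⟩ := exists_div_mem x hx hN hπK hdim hF hG hFG
    let H : K := T • (F / algebraMap S K πS)
    have hMp : ∀ {f : K}, f ∈ M → f ∈ Mp := fun {f} hf =>
      ⟨1, fun h => Ideal.IsPrime.ne_top' ((Ideal.eq_top_iff_one p).2 h), by simpa using hf⟩
    let H' : Mp := (IsLocalization.mk' L (1 : S) (⟨T * τ, fun h => (Ideal.IsPrime.mem_or_mem' h).elim hT
      fun h' => (Ideal.IsPrime.mem_or_mem' h').elim ht₁ ht₂⟩ : p.primeCompl)) • ⟨H, hMp hH⟩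
    refine ⟨H', Subtype.ext ?_⟩
    have hu := IsLocalization.mk'_spec L (1 : S) (⟨T * τ, fun h => (Ideal.IsPrime.mem_or_mem' h).elim hT
      fun h' => (Ideal.IsPrime.mem_or_mem' h').elim ht₁ ht₂⟩ : p.primeCompl)
    rw [map_one] at hu
    simp only [H', H, SetLike.val_smul, F, π]
    rw [smul_smul, mul_comm, ← smul_smul, IsScalarTower.algebraMap_smul]
    have h2 : πS • (T • (τ • (f : K) / algebraMap S K πS)) = algebraMap S L (T * τ) • (f : K) := by
      rw [IsScalarTower.algebraMap_smul, Algebra.smul_def, Algebra.smul_def, Algebra.smul_def,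
        Algebra.smul_def, map_mul]
      simp only [τ, map_mul]
      field_simp
    rw [h2, smul_smul, hu, one_smul]
  haveI := Module.Finite.of_restrictScalars_finite L (L ⧸ Ideal.span {π}) (QuotSMulTop π Mp)
  haveI : Module.IsTorsionFree (L ⧸ Ideal.span {π}) (QuotSMulTop π Mp) := by
    refine ⟨fun y hy => (injective_iff_map_eq_zero (DistribSMul.toAddMonoidHom (QuotSMulTop π Mp) y)).2 fun z hz => ?_⟩
    obtain ⟨y, rfl⟩ := Ideal.Quotient.mk_surjective y
    obtain ⟨f, rfl⟩ := Submodule.Quotient.mk_surjective _ z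
    have hy' : y ∉ Ideal.span {π} := fun h =>
      hy.ne_zero (Ideal.Quotient.eq_zero_iff_mem.2 h)
    have h0 : (Submodule.Quotient.mk (y • f) : QuotSMulTop π Mp) = 0 := hz
    rw [Submodule.Quotient.mk_eq_zero, Submodule.mem_smul_pointwise_iff_exists] at h0
    obtain ⟨g', -, hg'⟩ := h0
    obtain ⟨h, hh⟩ := htors y hy' f g' hg'.symm
    exact (Submodule.Quotient.mk_eq_zero _).2
      ((Submodule.mem_smul_pointwise_iff_exists _ _ _).2 ⟨h, trivial, hh⟩)
  haveI : Module.Free (L ⧸ Ideal.span {π}) (QuotSMulTop π Mp) := Module.free_of_finite_type_torsion_free'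
  haveI := Module.finitePresentation_of_finite L Mp
  exact (Module.free_quotSMulTop_iff_free L Mp ((IsLocalRing.maximalIdeal_le_jacobson _) hπm) hreg).1 ‹_›

end Local

/-- The trace of the lattice `1 / N` contains the different; it is generated by few elements. -/
theorem exists_trace {E : ℕ} (g : Fin E → A) (hg : Submodule.span S (Set.range g) = ⊤)
    (e : A ⊗[S] A) (he : ∀ r : A, (r ⊗ₜ[S] (1 : A)) * e = ((1 : A) ⊗ₜ[S] r) * e)
    (x : Ideal A) [x.IsPrime] (hx : x.height = 2) (N : Submodule A K) (hN : N.FG) (hN0 : N ≠ ⊥) :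
    ∃ (r : ℕ) (c m : Fin r → K), r ≤ E ∧ (∀ l, m l ∈ (1 : Submodule A K) / N) ∧
      (∀ l, ∀ f ∈ (1 : Submodule A K) / N, locMem x 1 (c l * f)) ∧
      (∃ t ∉ x, algebraMap A K (t * Algebra.TensorProduct.lmul' S e) = ∑ l, c l * m l) ∧
      (∀ f ∈ (1 : Submodule A K) / N, locMem x (Submodule.span A (Set.range m)) f) := by
  classical
  let M : Submodule A K := 1 / N
  let p : Ideal S := x.under S
  have hp : p.height = 2 := (VarDim.height_under_of_isIntegral x).trans hx
  let L := Localization.AtPrime p
  have hinjS : Function.Injective (algebraMap S K) := by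
    rw [IsScalarTower.algebraMap_eq S A K]
    exact (IsFractionRing.injective A K).comp (FaithfulSMul.algebraMap_injective S A)
  letI : Algebra L K := (IsLocalization.lift (M := p.primeCompl) (g := algebraMap S K) fun t =>
    isUnit_iff_ne_zero.2 fun h => t.2 (by
      rw [show (t : S) = 0 from hinjS (h.trans (map_zero _).symm)]; exact zero_mem p)).toAlgebra
  haveI : IsScalarTower S L K := IsScalarTower.of_algebraMap_eq fun z => by
    rw [RingHom.algebraMap_toAlgebra, IsLocalization.lift_eq]
  haveI : IsDomain L := IsLocalization.isDomain_localization p.primeCompl_le_nonZeroDivisors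
  haveI : IsNoetherianRing L := IsLocalization.isNoetherianRing p.primeCompl L inferInstance
  haveI : IsRegularLocalRing L := IsRegularRing.isRegularLocalRing_localization p
  -- the localised lattice
  let Mp : Submodule L K := lat (S := S) L x N
  have hMp : ∀ {f : K}, f ∈ M → f ∈ Mp := fun {f} hf =>
    ⟨1, fun h => Ideal.IsPrime.ne_top' ((Ideal.eq_top_iff_one p).2 h), by simpa using hf⟩
  obtain ⟨hfinMp, hrk⟩ := finite_lat (S := S) L x hx g hg hN0
  haveI : Module.Finite L Mp := hfinMp
  haveI : Module.Free L Mp := free_lat (S := S) L x hx hN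
  -- coordinates
  let ι := Module.Free.ChooseBasisIndex L Mp
  let b := Module.Free.chooseBasis L Mp
  have hcard : Fintype.card ι ≤ E := by
    rw [← Module.finrank_eq_card_basis b]
    exact hrk
  choose t ht htb using fun l : ι => (b l).2
  have hgmem : ∀ a : A, ∀ f : Mp, algebraMap A K a * (f : K) ∈ Mp := by
    rintro a ⟨f, t, ht, htf⟩
    refine ⟨t, ht, ?_⟩
    rw [← Algebra.smul_def, smul_comm]
    exact M.smul_mem _ htf
  let mulA : A →ₗ[S] Mp →ₗ[L] Mp :=
    { toFun := fun a =>
        { toFun := fun f => ⟨algebraMap A K a * (f : K), hgmem a f⟩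
          map_add' := fun f f' => Subtype.ext (mul_add _ _ _)
          map_smul' := fun z f => Subtype.ext (mul_smul_comm _ _ _) }
      map_add' := fun a a' => LinearMap.ext fun f => Subtype.ext (by
        show algebraMap A K (a + a') * (f : K) = algebraMap A K a * f + algebraMap A K a' * f
        rw [map_add, add_mul])
      map_smul' := fun z a => LinearMap.ext fun f => Subtype.ext (by
        show algebraMap A K (z • a) * (f : K) = z • (algebraMap A K a * (f : K))
        rw [Algebra.smul_def, map_mul, ← IsScalarTower.algebraMap_apply, mul_assoc, ← Algebra.smul_def]) }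
  let Φ : Mp → ι → (A ⊗[S] A →ₗ[S] K) := fun f l => TensorProduct.lift
    (LinearMap.mk₂ S (fun a a' => algebraMap A K a * algebraMap L K (b.repr (mulA a' f) l))
      (fun a₁ a₂ a' => by rw [map_add, add_mul])
      (fun z a a' => by
        rw [Algebra.smul_def z a, map_mul, ← IsScalarTower.algebraMap_apply, mul_assoc, ← Algebra.smul_def])
      (fun a a₁ a₂ => by
        rw [map_add, LinearMap.add_apply, map_add, Finsupp.add_apply, map_add, mul_add])
      (fun z a a' => by
        rw [map_smul, LinearMap.smul_apply, ← IsScalarTower.algebraMap_smul L z, map_smul,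
          Finsupp.smul_apply, smul_eq_mul, map_mul, ← IsScalarTower.algebraMap_apply, Algebra.smul_def]
        ring))
  have hΦl : ∀ f l a a', Φ f l (a ⊗ₜ a') = algebraMap A K a * algebraMap L K (b.repr (mulA a' f) l) :=
    fun _ _ _ _ => rfl
  have hsum : ∀ (f : Mp) (z : A ⊗[S] A),
      ∑ l, Φ f l z * (b l : K) = algebraMap A K (Algebra.TensorProduct.lmul' S z) * (f : K) := by
    intro f z
    induction z using TensorProduct.induction_on with
    | zero => simp
    | tmul a a' =>
      simp only [hΦl, mul_assoc, ← Finset.mul_sum]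
      have := congrArg Subtype.val (b.sum_repr (mulA a' f))
      simp only [Submodule.coe_sum, SetLike.val_smul, Algebra.smul_def] at this
      rw [this, Algebra.TensorProduct.lmul'_apply_tmul, map_mul, mul_assoc]
      rfl
    | add z z' h h' => simp only [map_add, add_mul, Finset.sum_add_distrib, h, h']
  have hlin : ∀ (f : Mp) (r : A) l, Φ (mulA r f) l e = algebraMap A K r * Φ f l e := by
    intro f r l
    have h1 : ∀ z, Φ (mulA r f) l z = Φ f l (((1 : A) ⊗ₜ[S] r) * z) := by
      intro z
      induction z using TensorProduct.induction_on with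
      | zero => simp
      | tmul a a' =>
        rw [Algebra.TensorProduct.tmul_mul_tmul, one_mul, hΦl, hΦl]
        congr 2
        refine congrArg (fun w => b.repr w l) (Subtype.ext ?_)
        show algebraMap A K a' * (algebraMap A K r * (f : K)) = algebraMap A K (r * a') * f
        rw [map_mul]; ring
      | add z z' h h' => simp only [map_add, mul_add, h, h']
    have h2 : ∀ z, Φ f l ((r ⊗ₜ[S] (1 : A)) * z) = algebraMap A K r * Φ f l z := by
      intro z
      induction z using TensorProduct.induction_on with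
      | zero => simp
      | tmul a a' => rw [Algebra.TensorProduct.tmul_mul_tmul, one_mul, hΦl, hΦl, map_mul, mul_assoc]
      | add z z' h h' => simp only [map_add, mul_add, h, h']
    rw [h1, ← he r, h2]
  obtain ⟨f₀, hf₀, hf₀0⟩ : ∃ f₀ ∈ M, f₀ ≠ 0 := by
    have hden : ∀ w : K, ∃ a : A, a ≠ 0 ∧ ∃ a', algebraMap A K a' = algebraMap A K a * w := fun w => by
      obtain ⟨a', a, ha, e⟩ := IsFractionRing.div_surjective (A := A) w
      refine ⟨a, nonZeroDivisors.ne_zero ha, a', ?_⟩
      have : algebraMap A K a ≠ 0 := IsFractionRing.to_map_ne_zero_of_mem_nonZeroDivisors ha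
      rw [← e]; field_simp
    obtain ⟨ν, hν⟩ := hN
    choose dn hdn0 dn' hdn using hden
    refine ⟨algebraMap A K (∏ w ∈ ν, dn w), mul_inv_mem_one_div.2 fun n hn => ?_,
      fun h => Finset.prod_ne_zero_iff.2 (fun w _ => hdn0 w) (IsFractionRing.injective A K (h.trans (map_zero _).symm))⟩
    rw [← hν] at hn
    induction hn using Submodule.span_induction with
    | mem n hn =>
      obtain ⟨q, hq⟩ := Finset.dvd_prod_of_mem dn (by exact hn)
      exact ⟨q * dn' n, by rw [hq, map_mul, map_mul, hdn]; ring⟩
    | zero => exact ⟨0, by simp⟩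
    | add a b _ _ ha hb =>
      obtain ⟨a₁, h1⟩ := ha; obtain ⟨b₁, h2⟩ := hb
      exact ⟨a₁ + b₁, by rw [map_add, h1, h2, mul_add]⟩
    | smul r a _ ha =>
      obtain ⟨a₁, h1⟩ := ha
      exact ⟨r * a₁, by rw [map_mul, h1, Algebra.smul_def]; ring⟩
  let c₁ : ι → K := fun l => Φ ⟨f₀, hMp hf₀⟩ l e / f₀
  have hc : ∀ l (f : K) (hf : f ∈ M), c₁ l * f = Φ ⟨f, hMp hf⟩ l e := by
    intro l f hf
    obtain ⟨a', a, ha, hq⟩ := IsFractionRing.div_surjective (A := A) (f / f₀)
    have haK : algebraMap A K a ≠ 0 := IsFractionRing.to_map_ne_zero_of_mem_nonZeroDivisors ha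
    have heq : mulA a ⟨f, hMp hf⟩ = mulA a' ⟨f₀, hMp hf₀⟩ := Subtype.ext (by
      show algebraMap A K a * f = algebraMap A K a' * f₀
      field_simp at hq
      linear_combination -hq)
    have := congrArg (fun w => Φ w l e) heq
    simp only [hlin] at this
    simp only [c₁]
    field_simp at hq ⊢
    apply mul_left_cancel₀ haK
    linear_combination (-(Φ ⟨f₀, hMp hf₀⟩ l e)) * hq - f₀ * this
  have hint : ∀ (f : Mp) l (z : A ⊗[S] A), locMem x (1 : Submodule A K) (Φ f l z) := by
    intro f l z
    induction z using TensorProduct.induction_on with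
    | zero => exact ⟨1, fun h => Ideal.IsPrime.ne_top' ((Ideal.eq_top_iff_one x).2 h), by simp⟩
    | tmul a a' =>
      obtain ⟨sS, v, hv⟩ := IsLocalization.exists_mk'_eq p.primeCompl (b.repr (mulA a' f) l)
      refine ⟨algebraMap S A v, v.2, ?_⟩
      rw [Submodule.mem_one]
      refine ⟨a * algebraMap S A sS, ?_⟩
      rw [hΦl, algebraMap_smul, ← IsScalarTower.algebraMap_smul L, ← hv, Algebra.smul_def, mul_left_comm,
        ← map_mul (algebraMap L K), mul_comm (algebraMap S L _), IsLocalization.mk'_spec,
        ← IsScalarTower.algebraMap_apply, map_mul, ← IsScalarTower.algebraMap_apply]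
    | add z z' h h' =>
      obtain ⟨t, ht, h⟩ := h; obtain ⟨t', ht', h'⟩ := h'
      refine ⟨t * t', fun hh => (Ideal.IsPrime.mem_or_mem' hh).elim ht ht', ?_⟩
      rw [map_add, smul_add]
      refine add_mem ?_ ?_
      · rw [mul_comm, mul_smul]; exact Submodule.smul_mem _ _ h
      · rw [mul_smul]; exact Submodule.smul_mem _ _ h'
  let σ := Fintype.equivFin ι
  let t' : ι → A := fun l => algebraMap S A (t l)
  have ht' : ∀ l, t' l ∉ x := fun l => ht l
  let m : Fin (Fintype.card ι) → K := fun i => t' (σ.symm i) • (b (σ.symm i) : K)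
  let T : A := ∏ l, t' l
  have hT : T ∉ x := fun h => by
    obtain ⟨l, -, hl⟩ := (Ideal.IsPrime.prod_mem_iff).1 h
    exact ht' l hl
  let q : ι → A := fun l => ∏ l' ∈ Finset.univ.erase l, t' l'
  have hq : ∀ l, T = t' l * q l := fun l => (Finset.mul_prod_erase _ _ (Finset.mem_univ l)).symm
  refine ⟨Fintype.card ι, fun i => q (σ.symm i) • c₁ (σ.symm i), m, hcard,
    fun i => ?_, fun i f hf => ?_, ⟨T, hT, ?_⟩, fun f hf => ?_⟩
  · show t' (σ.symm i) • (b (σ.symm i) : K) ∈ M
    rw [algebraMap_smul]
    exact htb _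
  · rw [smul_mul_assoc, hc _ f hf]
    obtain ⟨t, ht, h⟩ := hint ⟨f, hMp hf⟩ (σ.symm i) e
    exact ⟨t, ht, by rw [smul_comm]; exact Submodule.smul_mem _ _ h⟩
  · rw [← σ.sum_comp]
    simp only [m, Equiv.symm_apply_apply, smul_mul_smul_comm]
    have : ∑ l, c₁ l * (b l : K) = algebraMap A K (Algebra.TensorProduct.lmul' S e) := by
      have h := hsum ⟨f₀, hMp hf₀⟩ e
      simp only [c₁, div_mul_eq_mul_div, ← Finset.sum_div]
      rw [h, mul_div_assoc, div_self hf₀0, mul_one]
    rw [map_mul, ← this, Finset.mul_sum]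
    refine Finset.sum_congr rfl fun l _ => ?_
    rw [Algebra.smul_def, mul_comm (q l), ← hq l]
  · obtain hs := b.sum_repr ⟨f, hMp hf⟩
    choose sS v hv using fun l => IsLocalization.exists_mk'_eq p.primeCompl (b.repr ⟨f, hMp hf⟩ l)
    let V : A := ∏ l, algebraMap S A (v l : S)
    have hV : V ∉ x := fun h => by
      obtain ⟨l, -, hl⟩ := (Ideal.IsPrime.prod_mem_iff).1 h
      exact (v l).2 hl
    refine ⟨T * V, fun h => (Ideal.IsPrime.mem_or_mem' h).elim hT hV, ?_⟩
    have hf' := congrArg Subtype.val hs
    simp only [Submodule.coe_sum, SetLike.val_smul] at hf'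
    rw [← hf', Finset.smul_sum]
    refine sum_mem fun l _ => ?_
    have hVl : V = algebraMap S A (v l : S) * ∏ l' ∈ Finset.univ.erase l, algebraMap S A (v l' : S) :=
      (Finset.mul_prod_erase _ _ (Finset.mem_univ l)).symm
    have hm : t' l • (b l : K) ∈ Submodule.span A (Set.range m) :=
      Submodule.subset_span ⟨σ l, by simp [m]⟩
    have : (T * V) • (b.repr ⟨f, hMp hf⟩ l • (b l : K)) =
        (q l * (∏ l' ∈ Finset.univ.erase l, algebraMap S A (v l' : S)) * algebraMap S A (sS l)) •
          (t' l • (b l : K)) := by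
      have hk : algebraMap A K (algebraMap S A (v l : S)) * algebraMap L K (b.repr ⟨f, hMp hf⟩ l) =
          algebraMap A K (algebraMap S A (sS l)) := by
        rw [← IsScalarTower.algebraMap_apply, ← IsScalarTower.algebraMap_apply,
          IsScalarTower.algebraMap_apply S L K, IsScalarTower.algebraMap_apply S L K, ← map_mul, mul_comm,
          ← hv l, IsLocalization.mk'_spec]
      simp only [Algebra.smul_def, hq l, hVl, map_mul]
      linear_combination (algebraMap A K (t' l) * algebraMap A K (q l) *
        algebraMap A K (∏ l' ∈ Finset.univ.erase l, algebraMap S A (v l' : S)) * (b l : K)) * hk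
    rw [this]
    exact Submodule.smul_mem _ _ hm

end Base

end Groth.Agent.RefChK0.Trace
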