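import Groth.Agent.RefChK0.Div
import Groth.Agent.RefChK0.Trace
import Groth.Agent.RefChK0.Gen
import Groth.Agent.NormGen.Basic

/-!
# Trace elements for all divisors at the points of codimension two of an affine open, and generic
representatives with bounded local intersection
-/

set_option autoImplicit false
set_option linter.style.haveILetI false

universe u

open CategoryTheory Limits AlgebraicGeometry TopologicalSpace

noncomputable section

namespace Groth.Agent.RefChK0

open Groth.Agent.HomShQC Groth.Agent.Ref1 CycLib.Dev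

variable {X : Scheme.{u}} [IsIntegral X] [IsLocallyNoetherian X] (hX : Pi1.IsNormalScheme X)

local notation "η" => genericPoint X
local notation "K" => Scheme.functionField X

/-- Ring elements in the trace of every divisor, and few generators. -/
def GoodAt (E : ℕ) (x : X) (J : Set (X.presheaf.stalk x)) : Prop :=
  ∀ D : X → ℤ, IsDiv D →
    (∀ d ∈ J, toK x d ∈ Submodule.span (X.presheaf.stalk x)
      {w : K | ∃ a ∈ lat D x, ∃ b ∈ lat (-D) x, w = a * b}) ∧
    ∃ (r : ℕ) (g : Fin r → K), r ≤ E ∧ (∀ i, g i ∈ lat D x) ∧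
      lat D x ≤ Submodule.span (X.presheaf.stalk x) (Set.range g)

include hX in
theorem exists_goodAt (k : Type u) [Field k] [IsAlgClosed k] [X.Over (Spec (CommRingCat.of k))]
    [LocallyOfFiniteType (X ↘ Spec (CommRingCat.of k))] {U : X.Opens} (hU : IsAffineOpen U) [Nonempty U] :
    ∃ (E : ℕ) (J : Set Γ(X, U)), J.Nonempty ∧ (∀ P : Ideal Γ(X, U), P.IsPrime → P.height ≤ 1 → ∃ d ∈ J, d ∉ P) ∧
      ∀ (x : X) (hx : x ∈ U), Order.coheight x = 2 → GoodAt E x ((X.presheaf.germ U x hx).hom '' J) := by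
  classical
  let A := Γ(X, U)
  letI : Algebra k A :=
    (((X ↘ Spec (CommRingCat.of k)).appLE ⊤ U _root_.le_top).hom.comp
      (Scheme.ΓSpecIso (CommRingCat.of k)).inv.hom).toAlgebra
  haveI : Algebra.FiniteType k A := by
    refine RingHom.finiteType_algebraMap.1 (RingHom.FiniteType.comp ?_ ?_)
    · exact (X ↘ Spec (CommRingCat.of k)).finiteType_appLE (isAffineOpen_top _) hU _root_.le_top
    · exact RingHom.FiniteType.of_surjective _
        (ConcreteCategory.bijective_of_isIso (Scheme.ΓSpecIso (CommRingCat.of k)).inv).2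
  haveI : IsNoetherianRing A := Algebra.FiniteType.isNoetherianRing k A
  haveI : IsIntegrallyClosed A := NormGen.Basic.isIntegrallyClosed_sections (fun y => (hX y).2) U
  haveI : IsFractionRing A K := functionField_isFractionRing_of_isAffineOpen X U hU
  -- one projection for each minimal prime of the first different
  have hproj := fun (q : {q : Ideal A // q.IsPrime ∧ q.height ≤ 1}) =>
    haveI := q.2.1
    Proj.exists_proj k A q.1 q.2.2
  choose s alg hfin hfaith e he hd using hproj
  let d : {q : Ideal A // q.IsPrime ∧ q.height ≤ 1} → A := fun q =>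
    letI := alg q; Algebra.TensorProduct.lmul' (MvPolynomial (Fin (s q)) k) (e q)
  let q₀ : {q : Ideal A // q.IsPrime ∧ q.height ≤ 1} :=
    ⟨⊥, Ideal.isPrime_bot, by rw [Ideal.height_bot]; exact zero_le⟩
  have hfin₀ : ((Ideal.span {d q₀}).minimalPrimes).Finite := Ideal.finite_minimalPrimes_of_isNoetherianRing A _
  have hne : d q₀ ≠ 0 := fun h => hd q₀ (by show d q₀ ∈ _; rw [h]; exact zero_mem _)
  let T : Set {q : Ideal A // q.IsPrime ∧ q.height ≤ 1} :=
    {q₀} ∪ {q | q.1 ∈ (Ideal.span {d q₀}).minimalPrimes}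
  have hT : T.Finite := (Set.finite_singleton _).union (hfin₀.preimage Subtype.val_injective.injOn)
  have hgen : ∀ q : {q : Ideal A // q.IsPrime ∧ q.height ≤ 1}, ∃ E : ℕ, letI := alg q
      ∃ g : Fin E → A, Submodule.span (MvPolynomial (Fin (s q)) k) (Set.range g) = ⊤ := fun q => by
    letI := alg q
    haveI := hfin q
    exact Module.Finite.exists_fin
  choose En g hg using hgen
  refine ⟨hT.toFinset.sup En, d '' T, ⟨_, q₀, Or.inl rfl, rfl⟩, fun P hP hP1 => ?_, fun x hx hx2 D hD => ?_⟩
  · by_cases hmem : d q₀ ∈ P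
    · obtain ⟨P₀, hP₀, hle⟩ := Ideal.exists_minimalPrimes_le ((Ideal.span_singleton_le_iff_mem _).2 hmem)
      haveI := hP₀.1.1
      have hP₀1 : P₀.height ≤ 1 := (Ideal.height_mono hle).trans hP1
      refine ⟨d ⟨P₀, hP₀.1.1, hP₀1⟩, ⟨_, Or.inr hP₀, rfl⟩, fun h => hd ⟨P₀, hP₀.1.1, hP₀1⟩ ?_⟩
      have heq : P₀ = P := by
        by_contra hne'
        have hlt := lt_of_le_of_ne hle hne'
        have h1 := Ideal.height_strict_mono_of_isPrime hlt
        have h2 : P₀.height = 0 := by
          have := lt_of_lt_of_le h1 hP1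
          exact Order.lt_one_iff.1 this
        rw [Ideal.height_eq_zero_iff_eq_bot] at h2
        exact hne (Ideal.mem_bot.1 (h2 ▸ hP₀.1.2 (Ideal.mem_span_singleton_self _)))
      rw [← heq] at h
      exact h
    · exact ⟨d q₀, ⟨q₀, Or.inl rfl, rfl⟩, hmem⟩
  -- the point
  let R := X.presheaf.stalk x
  let P := (hU.primeIdealOf ⟨x, hx⟩).asIdeal
  letI : Algebra A R := TopCat.Presheaf.algebra_section_stalk X.presheaf (⟨x, hx⟩ : U)
  haveI : IsLocalization.AtPrime R P := hU.isLocalization_stalk ⟨x, hx⟩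
  haveI : IsScalarTower A R K := functionField_isScalarTower X U ⟨x, hx⟩
  have hP2 : P.height = 2 := by
    have h := IsLocalization.AtPrime.ringKrullDim_eq_height P R
    rw [ringKrullDim_stalk_eq_coheight, hx2] at h
    exact (WithBot.coe_inj.1 h).symm
  have hlat : ∀ (a : K), InLat 0 x a ↔ ∃ r : R, algebraMap R K r = a := fun a => inLat_zero_iff hX
  have hloc : ∀ a : K, Trace.locMem P (1 : Submodule A K) a → a ∈ lat 0 x := by
    rintro a ⟨t, ht, h⟩
    rw [Submodule.mem_one] at h
    obtain ⟨b, hb⟩ := h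
    obtain ⟨u, hu⟩ := IsLocalization.map_units R (⟨t, ht⟩ : P.primeCompl)
    refine Submodule.subset_span ((hlat a).2 ⟨↑u⁻¹ * algebraMap A R b, ?_⟩)
    rw [map_mul, ← IsScalarTower.algebraMap_apply, hb, Algebra.smul_def,
      IsScalarTower.algebraMap_apply A R K, ← mul_assoc, ← map_mul,
      show algebraMap A R t = (u : R) from hu.symm, Units.inv_mul, map_one, one_mul]
  -- the dual lattice
  have hD' : IsDiv (-D) := hD.neg hX
  obtain ⟨ν, hν⟩ := fg_lat hX hD' x
  let N : Submodule A K := Submodule.span A (ν : Set K)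
  have hN0 : N ≠ ⊥ := by
    intro h
    obtain ⟨F, w, hF, hw, eF⟩ := hD'
    haveI := hF.1.1
    obtain ⟨a, v, ha, hv⟩ := exists_smul_eq_toη F x w
    have h1 : (toK x a : K) ∈ lat (-D) x := (mem_lat_iff hX hF hw eF).2 ⟨v, hv⟩
    have hsub : (ν : Set K) ⊆ {0} := fun z hz => by
      have h2 : z ∈ N := Submodule.subset_span hz
      rw [h] at h2
      exact (Submodule.mem_bot A).1 h2
    rw [← hν] at h1
    have h2 := Submodule.span_mono hsub h1
    rw [Submodule.span_zero_singleton, Submodule.mem_bot] at h2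
    exact toK_ne_zero ha h2
  have hNlat : ∀ n ∈ N, n ∈ lat (-D) x := by
    intro n hn
    induction hn using Submodule.span_induction with
    | mem n hn => exact hν ▸ Submodule.subset_span hn
    | zero => exact zero_mem _
    | add _ _ _ _ h1 h2 => exact add_mem h1 h2
    | smul r a _ h1 => rw [← IsScalarTower.algebraMap_smul R r a]; exact Submodule.smul_mem _ _ h1
  -- `1 / N` localises to the lattice
  have hM1 : ∀ f ∈ (1 : Submodule A K) / N, f ∈ lat D x := by
    intro f hf
    rw [← neg_neg D]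
    refine mem_lat_neg hX hD' fun a ha => ?_
    rw [← hν] at ha
    induction ha using Submodule.span_induction with
    | mem a ha =>
      obtain ⟨b, hb⟩ := Trace.mul_inv_mem_one_div.1 hf a (Submodule.subset_span ha)
      exact Submodule.subset_span ((hlat _).2 ⟨algebraMap A R b, by rw [← IsScalarTower.algebraMap_apply, hb]⟩)
    | zero => rw [mul_zero]; exact zero_mem _
    | add a b _ _ h1 h2 => rw [mul_add]; exact add_mem h1 h2
    | smul r a _ h1 => rw [mul_smul_comm]; exact Submodule.smul_mem _ _ h1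
  have hM2 : ∀ f ∈ lat D x, ∃ t ∉ P, t • f ∈ (1 : Submodule A K) / N := by
    intro f hf
    have h1 : ∀ n ∈ ν, ∃ r : R, algebraMap R K r = f * n := fun n hn => by
      have := mul_mem_lat hX hD hD' hf (hν ▸ Submodule.subset_span hn)
      rw [add_neg_cancel, mem_lat_zero hX] at this
      exact this
    choose r hr using h1
    obtain ⟨t, ht⟩ := IsLocalization.exist_integer_multiples_of_finset P.primeCompl
      (ν.attach.image fun n : {z // z ∈ ν} => r n.1 n.2)
    refine ⟨t, t.2, Trace.mul_inv_mem_one_div.2 fun n hn => ?_⟩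
    induction hn using Submodule.span_induction with
    | mem n hn =>
      obtain ⟨b, hb⟩ := ht (r n hn) (Finset.mem_image.2 ⟨⟨n, hn⟩, Finset.mem_attach _ _, rfl⟩)
      refine ⟨b, ?_⟩
      rw [IsScalarTower.algebraMap_apply A R K, hb, smul_mul_assoc, ← hr n hn, Algebra.smul_def,
        Algebra.smul_def, map_mul, ← IsScalarTower.algebraMap_apply]
    | zero => exact ⟨0, by simp⟩
    | add a b _ _ ha hb =>
      obtain ⟨a₁, h1⟩ := ha; obtain ⟨b₁, h2⟩ := hb
      exact ⟨a₁ + b₁, by rw [map_add, h1, h2, mul_add]⟩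
    | smul c a _ ha =>
      obtain ⟨a₁, h1⟩ := ha
      exact ⟨c * a₁, by rw [map_mul, h1, mul_smul_comm]; exact (Algebra.smul_def c _).symm⟩
  have htrace : ∀ q : {q : Ideal A // q.IsPrime ∧ q.height ≤ 1},
      ∃ (r : ℕ) (c m : Fin r → K), r ≤ En q ∧ (∀ l, m l ∈ (1 : Submodule A K) / N) ∧
      (∀ l, ∀ f ∈ (1 : Submodule A K) / N, Trace.locMem P 1 (c l * f)) ∧
      (∃ t ∉ P, algebraMap A K (t * d q) = ∑ l, c l * m l) ∧
      (∀ f ∈ (1 : Submodule A K) / N, Trace.locMem P (Submodule.span A (Set.range m)) f) := by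
    intro q
    letI := alg q
    haveI := hfin q
    haveI := hfaith q
    letI : Algebra (MvPolynomial (Fin (s q)) k) K := ((algebraMap A K).comp (algebraMap _ A)).toAlgebra
    haveI : IsScalarTower (MvPolynomial (Fin (s q)) k) A K := IsScalarTower.of_algebraMap_eq fun _ => rfl
    exact Trace.exists_trace (g q) (hg q) (e q) (he q) P hP2 N ⟨ν, rfl⟩ hN0
  have hspanR : ∀ {S : Set K} {z : K}, z ∈ Submodule.span A S → z ∈ Submodule.span R S := by
    intro S z hz
    induction hz using Submodule.span_induction with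
    | mem z hz => exact Submodule.subset_span hz
    | zero => exact zero_mem _
    | add _ _ _ _ h1 h2 => exact add_mem h1 h2
    | smul r a _ h1 => rw [← IsScalarTower.algebraMap_smul R r a]; exact Submodule.smul_mem _ _ h1
  have hunit : ∀ {t : A}, t ∉ P → ∀ {W : Submodule R K} {z : K}, t • z ∈ W → z ∈ W := by
    intro t ht W z hz
    obtain ⟨u, hu⟩ := IsLocalization.map_units R (⟨t, ht⟩ : P.primeCompl)
    have := W.smul_mem (↑u⁻¹ : R) hz
    rwa [← IsScalarTower.algebraMap_smul R t z, show algebraMap A R t = (u : R) from hu.symm, smul_smul,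
      Units.inv_mul, one_smul] at this
  refine ⟨?_, ?_⟩
  · rintro _ ⟨_, ⟨q, -, rfl⟩, rfl⟩
    obtain ⟨r, c, m, -, hm, hc, ⟨t, ht, hsum⟩, -⟩ := htrace q
    refine hunit ht ?_
    have : t • (toK x ((X.presheaf.germ U x hx).hom (d q)) : K) = algebraMap A K (t * d q) := by
      rw [Algebra.smul_def, map_mul]
      exact congrArg _ (IsScalarTower.algebraMap_apply A R K (d q)).symm
    rw [this, hsum]
    refine sum_mem fun l _ => Submodule.subset_span ⟨m l, hM1 _ (hm l), c l, ?_, mul_comm _ _⟩
    refine mem_lat_neg hX hD fun a ha => ?_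
    obtain ⟨t', ht', h'⟩ := hM2 a ha
    refine hunit ht' ?_
    rw [← mul_smul_comm]
    exact hloc _ (hc l _ h')
  · obtain ⟨r, c, m, hr, hm, -, -, hsp⟩ := htrace q₀
    refine ⟨r, m, hr.trans (Finset.le_sup (hT.mem_toFinset.2 (Or.inl rfl))), fun i => hM1 _ (hm i), fun f hf => ?_⟩
    obtain ⟨t, ht, h⟩ := hM2 f hf
    obtain ⟨t', ht', h'⟩ := hsp _ h
    exact hunit ht (hunit ht' (hspanR h'))

end Groth.Agent.RefChK0
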