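import Groth.Agent.RefChK0.Chi

/-!
# Reflexive powers of a rank one reflexive module, and of an invertible one
-/

set_option autoImplicit false
set_option linter.style.haveILetI false

universe u

open CategoryTheory Limits AlgebraicGeometry

noncomputable section

namespace Groth.Agent.RefChK0

open Groth.Agent.HomShQC Groth.Agent.Ref1 CycLib.Dev

variable {X : Scheme.{u}} [IsIntegral X] [IsLocallyNoetherian X]

local notation "η" => genericPoint X

theorem isRef1_refPow {F : X.Modules} (hF : RefHull.IsRef1 F) : ∀ m, RefHull.IsRef1 (RefPow.refPow F m)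
  | 0 => isRef1_structureModule
  | 1 => hF
  | m + 2 => isRef1_ddual _ (isCoh_tensorMod (isRef1_refPow hF (m + 1)).1 hF.1)
      (isRankOne_tensorMod (rankOne_of_isRef1 (isRef1_refPow hF (m + 1))) (rankOne_of_isRef1 hF))

theorem exists_refPow_sec (hX : Pi1.IsNormalScheme X) {F : X.Modules} (hF : RefHull.IsRef1 F)
    {s : F.presheaf.stalk η} (hs : s ≠ 0) : ∀ m : ℕ,
    ∃ t : (RefPow.refPow F m).presheaf.stalk η, t ≠ 0 ∧
      ∀ y : X, Order.coheight y = 1 → ordS (RefPow.refPow F m) y t = m * ordS F y s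
  | 0 => ⟨unitStalk η 1, fun h => one_ne_zero ((unitStalk η).injective (h.trans (map_zero _).symm)),
      fun y hy => (ordS_one hy).trans (by simp)⟩
  | 1 => ⟨s, hs, fun y _ => by rw [Nat.cast_one, one_mul]; rfl⟩
  | m + 2 => by
    obtain ⟨t, ht, e⟩ := exists_refPow_sec hX hF hs (m + 1)
    obtain ⟨-, hne, h⟩ := tensorSec_spec hX (isRef1_refPow hF (m + 1)) hF ht hs
    refine ⟨tensorSec (RefPow.refPow F (m + 1)) F t s, hne, fun y hy => (h y hy).trans ?_⟩
    rw [e y hy]
    push_cast
    ring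

/-- Powers of a reflexive tensor product. -/
theorem refPow_refTensor_iso (hX : Pi1.IsNormalScheme X) {F G : X.Modules} (hF : RefHull.IsRef1 F)
    (hG : RefHull.IsRef1 G) (m : ℕ) :
    Nonempty (RefPow.refPow (RefPow.refTensor F G) m ≅
      RefPow.refTensor (RefPow.refPow G m) (RefPow.refPow F m)) := by
  obtain ⟨s, hs⟩ := (rankOne_of_isRef1 hF).exists_ne_zero
  obtain ⟨s', hs'⟩ := (rankOne_of_isRef1 hG).exists_ne_zero
  obtain ⟨hR, hne, h⟩ := tensorSec_spec hX hF hG hs hs'
  obtain ⟨t, ht, et⟩ := exists_refPow_sec hX hR hne m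
  obtain ⟨a, ha, ea⟩ := exists_refPow_sec hX hF hs m
  obtain ⟨b, hb, eb⟩ := exists_refPow_sec hX hG hs' m
  obtain ⟨hQ, hne', h'⟩ := tensorSec_spec hX (isRef1_refPow hG m) (isRef1_refPow hF m) hb ha
  refine iso_of_ordS_eq hX (isRef1_refPow hR m) hQ ht hne' fun y hy => ?_
  rw [et y hy, h y hy, h' y hy, ea y hy, eb y hy]
  ring

/-- A rank one reflexive module twisted by an invertible one is already reflexive. -/
theorem isIso_toRefTensor {N F : X.Modules} (hN : PicF.IsInvertible N) (hF : RefHull.IsRef1 F) :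
    IsIso (RefPow.toRefTensor N F) := by
  have hc := isCoh_tensorMod (isCoh_of_isInvertible hN) hF.1
  refine (show RefHull.IsReflexive (CohB1.tensorMod N F) from (isReflexive_iff_of_isCoh _ hc).mpr fun x => ?_)
  haveI : Module.IsReflexive (X.presheaf.stalk x) (F.presheaf.stalk x) :=
    (isReflexive_iff_of_isCoh F hF.1).mp hF.2.1 x
  exact Module.equiv (stalk_equiv_tensor hN F x).some.symm

theorem isInvertible_refPow {N : X.Modules} (hN : PicF.IsInvertible N) :
    ∀ m, PicF.IsInvertible (RefPow.refPow N m)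
  | 0 => LFFrame.isInvertible_structureModule X
  | 1 => hN
  | m + 2 => by
    have h := isInvertible_refPow hN (m + 1)
    haveI := isIso_toRefTensor (F := N) h (ExtPowSt.isRef1_of_isInvertible hN)
    exact PicCl.isInvertible_of_iso (@asIso _ _ _ _ (RefPow.toRefTensor (RefPow.refPow N (m + 1)) N) this)
      (PicLaw.isInvertible_tensor h hN)

theorem tw_refPow {δ : X → ℤ} {a : ℤ} {N : X.Modules} (hN : PicF.IsInvertible N) {F : X.Modules}
    (hF : Cyc.CohLe δ a F) : ∀ m : ℕ,
    kc δ a (CohB1.tensorMod (RefPow.refPow N m) F) = (tw δ a hN)^[m] (kc δ a F)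
  | 0 => kc_iso (ProjTwist.oneTens F)
  | 1 => (tw_kc hN hF).symm
  | m + 2 => by
    have h := isInvertible_refPow hN (m + 1)
    haveI := isIso_toRefTensor (F := N) h (ExtPowSt.isRef1_of_isInvertible hN)
    rw [Function.iterate_succ_apply', ← tw_refPow hN hF (m + 1), tw_kc hN (cohLe_twist h hF)]
    refine kc_iso ?_
    exact ProjTwist.tensCongr ((@asIso _ _ _ _ (RefPow.toRefTensor (RefPow.refPow N (m + 1)) N) this).symm ≪≫
      ProjTwist.tensComm _ _) (Iso.refl F) ≪≫ ProjTwist.tensAssoc _ _ _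

end Groth.Agent.RefChK0
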