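import Groth.Agent.Omega.RegularSmooth
import Groth.Agent.Omega.RankDimGen
import Mathlib.RingTheory.NoetherNormalization
import Mathlib.RingTheory.Valuation.LocalSubring
import Mathlib.LinearAlgebra.Matrix.Charpoly.LinearMap
import Mathlib.RingTheory.LocalRing.Module
import Groth.Agent.VarDim.Algebra

/-!
# Finite projections unramified at a given point, and the Noether different

For an integrally closed affine domain over an algebraically closed field and a prime of height at most
one there is a finite map to affine space which is unramified at the prime; hence an element outside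
the prime lying in the Noether different.
-/

set_option autoImplicit false
set_option linter.style.haveILetI false

universe u

open scoped TensorProduct

namespace Groth.Agent.RefChK0.Proj

open Groth.Agent.Omega

/-- A matrix shifted by a scalar is invertible outside finitely many scalars. -/
theorem exists_scalar_span {k κ V : Type*} [Field k] [Infinite k] [Field κ] [Algebra k κ]
    [AddCommGroup V] [Module κ V] {s : ℕ} (u w : Fin s → V)
    (hw : Submodule.span κ (Set.range w) = ⊤) :
    ∃ c : k, c ≠ 0 ∧ Submodule.span κ (Set.range fun i => u i + algebraMap k κ c • w i) = ⊤ := by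
  classical
  have hu : ∀ i, ∃ N : Fin s → κ, ∑ j, N j • w j = u i := fun i =>
    (Submodule.mem_span_range_iff_exists_fun κ).1 (by rw [hw]; trivial)
  choose N hN using hu
  let M : Matrix (Fin s) (Fin s) κ := Matrix.of fun i j => N i j
  let p := (-M).charpoly
  have hp : p ≠ 0 := (Matrix.charpoly_monic _).ne_zero
  obtain ⟨c, hc⟩ : ∃ c : k, (algebraMap k κ c) ∉ {x : κ | p.IsRoot x} ∪ {0} := by
    have hfin : ({x : κ | p.IsRoot x} ∪ {0}).Finite :=
      (Polynomial.finite_setOf_isRoot hp).union (Set.finite_singleton 0)
    obtain ⟨c, hc⟩ := (hfin.preimage (algebraMap k κ).injective.injOn).infinite_compl.nonempty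
    exact ⟨c, hc⟩
  simp only [Set.mem_union, Set.mem_setOf_eq, Set.mem_singleton_iff, not_or] at hc
  refine ⟨c, fun h => hc.2 (by rw [h, map_zero]), eq_top_iff.2 ?_⟩
  rw [← hw, Submodule.span_le]
  rintro _ ⟨j, rfl⟩
  let P : Matrix (Fin s) (Fin s) κ := Matrix.scalar (Fin s) (algebraMap k κ c) + M
  have hP : IsUnit P.det := by
    rw [isUnit_iff_ne_zero]
    intro h
    apply hc.1
    rw [Polynomial.IsRoot, show p = (-M).charpoly from rfl, Matrix.eval_charpoly, sub_neg_eq_add]
    exact h
  have hrow : ∀ i, ∑ l, P i l • w l = u i + algebraMap k κ c • w i := by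
    intro i
    rw [← hN i]
    simp only [P, M, Matrix.add_apply, Matrix.of_apply, add_smul, Finset.sum_add_distrib,
      Matrix.scalar_apply, Matrix.diagonal_apply, ite_smul, zero_smul, Finset.sum_ite_eq,
      Finset.mem_univ, if_true]
    exact add_comm _ _
  have : w j = ∑ i, P⁻¹ j i • (u i + algebraMap k κ c • w i) := by
    simp only [← hrow, Finset.smul_sum, smul_smul]
    rw [Finset.sum_comm]
    simp only [← Finset.sum_smul, ← Matrix.mul_apply, Matrix.nonsing_inv_mul _ hP, Matrix.one_apply,
      ite_smul, one_smul, zero_smul, Finset.sum_ite_eq, Finset.mem_univ, if_true]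
  rw [SetLike.mem_coe, this]
  exact sum_mem fun i _ => Submodule.smul_mem _ _ (Submodule.subset_span ⟨i, rfl⟩)

/-- Shifting generators by a high power keeps finiteness. -/
theorem exists_shift_integral {k A : Type u} [Field k] [CommRing A] [IsDomain A] [Algebra k A] {s : ℕ}
    (t y : Fin s → A) (ht : ∀ a : A, IsIntegral (Algebra.adjoin k (Set.range t)) a) :
    ∃ M₀ : ℕ, ∀ M, M₀ < M → ∀ c : k, ∀ a : A,
      IsIntegral (Algebra.adjoin k (Set.range fun i => t i ^ M + c • y i)) a := by
  classical
  have hcoef : ∀ i, ∃ q : Polynomial (MvPolynomial (Fin s) k), q.Monic ∧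
      (q.map (MvPolynomial.aeval t).toRingHom).eval (y i) = 0 := by
    intro i
    obtain ⟨q, hq, hqe⟩ := ht (y i)
    let π : MvPolynomial (Fin s) k →ₐ[k] Algebra.adjoin k (Set.range t) :=
      (MvPolynomial.aeval t).codRestrict _ fun x => by
        rw [Algebra.adjoin_range_eq_range_aeval]; exact ⟨x, rfl⟩
    have hπ : Function.Surjective π.toRingHom := by
      rintro ⟨z, hz⟩
      rw [Algebra.adjoin_range_eq_range_aeval] at hz
      obtain ⟨x, rfl⟩ := hz
      exact ⟨x, rfl⟩
    obtain ⟨q', rfl, -, hq'⟩ := Polynomial.lifts_and_degree_eq_and_monic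
      (Polynomial.map_surjective _ hπ q) hq
    refine ⟨q', hq', ?_⟩
    rw [Polynomial.eval₂_map, ← Polynomial.eval_map] at hqe
    exact hqe
  choose q hq hqe using hcoef
  let B : ℕ := Finset.univ.sup fun i => (q i).support.sup fun j => ((q i).coeff j).totalDegree
  refine ⟨B + 1, fun M hM c a => ?_⟩
  let K := FractionRing A
  let S' := Algebra.adjoin k (Set.range fun i => t i ^ M + c • y i)
  let σ : A →+* K := algebraMap A K
  suffices h : σ a ∈ (integralClosure (Subring.closure (σ '' (S' : Set A))) K).toSubring by
    have h' : IsIntegral (Subring.closure (σ '' (S' : Set A))) (σ a) := h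
    obtain ⟨f, hf, hfa⟩ := h'
    have hcl : ∀ x : Subring.closure (σ '' (S' : Set A)), ∃ z : S', σ z = x.1 := by
      intro x
      have : x.1 ∈ S'.toSubring.map σ := (Subring.closure_le.2 fun w hw => hw) x.2
      obtain ⟨z, hz, e⟩ := this
      exact ⟨⟨z, hz⟩, e⟩
    choose ζ hζ using hcl
    let ζh : Subring.closure (σ '' (S' : Set A)) →+* S' :=
      { toFun := ζ
        map_one' := Subtype.ext (IsFractionRing.injective A K ((hζ _).trans (by simp [σ])))
        map_zero' := Subtype.ext (IsFractionRing.injective A K ((hζ _).trans (by simp [σ])))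
        map_mul' := fun x z => Subtype.ext (IsFractionRing.injective A K ((hζ _).trans (by
          push_cast; exact congrArg₂ (· * ·) (hζ x).symm (hζ z).symm)))
        map_add' := fun x z => Subtype.ext (IsFractionRing.injective A K ((hζ _).trans (by
          push_cast; exact congrArg₂ (· + ·) (hζ x).symm (hζ z).symm))) }
    refine ⟨f.map ζh, hf.map _, IsFractionRing.injective A K ?_⟩
    rw [map_zero, Polynomial.eval₂_map, Polynomial.hom_eval₂, ← hfa]
    congr 1
    exact RingHom.ext fun x => hζ x
  rw [← iInf_valuationSubring_superset, Subring.mem_iInf]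
  rintro ⟨V, hV⟩
  have hS' : ∀ z ∈ S', σ z ∈ V := fun z hz => hV ⟨z, hz, rfl⟩
  have hk : ∀ c : k, σ (algebraMap k A c) ∈ V := fun c => hS' _ (S'.algebraMap_mem c)
  -- the coordinates lie in the valuation ring
  have htV : ∀ i, σ (t i) ∈ V := by
    by_contra h
    push Not at h
    obtain ⟨i₀, hi₀⟩ := h
    obtain ⟨j, -, hj⟩ := Finset.exists_max_image Finset.univ (fun i => V.valuation (σ (t i)))
      ⟨i₀, Finset.mem_univ _⟩
    set w := V.valuation (σ (t j)) with hw
    have hw1 : 1 < w := lt_of_lt_of_le
      (not_le.1 fun h => hi₀ ((V.valuation_le_one_iff _).1 h)) (hj i₀ (Finset.mem_univ _))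
    have hpoly : ∀ f : MvPolynomial (Fin s) k,
        V.valuation (σ (MvPolynomial.aeval t f)) ≤ w ^ f.totalDegree := by
      intro f
      rw [MvPolynomial.aeval_def, MvPolynomial.eval₂_eq, map_sum]
      refine Valuation.map_sum_le _ fun d hd => ?_
      rw [map_mul, map_mul, map_prod, map_prod]
      refine (mul_le_of_le_one_left' ((V.valuation_le_one_iff _).2 (hk _))).trans ?_
      refine le_trans (Finset.prod_le_prod' (g := fun i => w ^ d i) fun i _ => ?_) ?_
      · rw [map_pow, map_pow]
        exact pow_le_pow_left' (hj i (Finset.mem_univ _)) _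
      · rw [Finset.prod_pow_eq_pow_sum]
        exact pow_le_pow_right' hw1.le (MvPolynomial.le_totalDegree hd)
    have hy : ∀ i, V.valuation (σ (y i)) ≤ w ^ B := by
      intro i
      by_contra hlt
      rw [not_le] at hlt
      set x := V.valuation (σ (y i)) with hx
      have hmonic := hq i
      set p := (q i).map (MvPolynomial.aeval t).toRingHom with hp
      have hpm : p.Monic := hmonic.map _
      have hsum : σ (y i) ^ p.natDegree =
          - ∑ l ∈ Finset.range p.natDegree, σ (p.coeff l) * σ (y i) ^ l := by
        have h0 := hqe i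
        rw [Polynomial.eval_eq_sum_range, Finset.sum_range_succ, hpm.coeff_natDegree, one_mul] at h0
        have := congrArg σ h0
        rw [map_zero, map_add, map_sum] at this
        simp only [map_mul, map_pow] at this
        linear_combination this
      have hx1 : 1 < x := lt_of_le_of_lt (one_le_pow_of_one_le' hw1.le _) hlt
      have hxpos : (0 : _) < x := lt_trans zero_lt_one hx1
      have hlt' : ∀ l ∈ Finset.range p.natDegree,
          V.valuation (σ (p.coeff l) * σ (y i) ^ l) < x ^ p.natDegree := by
        intro l hl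
        rw [Finset.mem_range] at hl
        rw [map_mul, map_pow, ← hx]
        have hc : V.valuation (σ (p.coeff l)) ≤ w ^ B := by
          rw [hp, Polynomial.coeff_map]
          refine (hpoly _).trans (pow_le_pow_right' hw1.le ?_)
          by_cases hl' : l ∈ (q i).support
          · exact le_trans (Finset.le_sup (f := fun j => ((q i).coeff j).totalDegree) hl')
              (Finset.le_sup (f := fun i => (q i).support.sup fun j => ((q i).coeff j).totalDegree)
                (Finset.mem_univ i))
          · rw [Polynomial.notMem_support_iff.1 hl', MvPolynomial.totalDegree_zero]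
            exact Nat.zero_le _
        calc V.valuation (σ (p.coeff l)) * x ^ l ≤ w ^ B * x ^ l := mul_le_mul_left hc _
          _ < x * x ^ l := mul_lt_mul_of_pos_right hlt (pow_pos hxpos l)
          _ = x ^ (l + 1) := (pow_succ' x l).symm
          _ ≤ x ^ p.natDegree := pow_le_pow_right' hx1.le hl
      have := Valuation.map_sum_lt V.valuation (pow_ne_zero _ hxpos.ne') hlt'
      rw [← Valuation.map_neg, ← hsum, map_pow, ← hx] at this
      exact lt_irrefl _ this
    have hlt : V.valuation (σ (c • y j)) < w ^ M := by
      rw [Algebra.smul_def, map_mul, map_mul]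
      refine lt_of_le_of_lt ((mul_le_of_le_one_left' ((V.valuation_le_one_iff _).2 (hk c))).trans (hy j)) ?_
      exact pow_lt_pow_right₀ hw1 (by omega)
    have hsum : V.valuation (σ (t j ^ M + c • y j)) = w ^ M := by
      rw [map_add, Valuation.map_add_eq_of_lt_left]
      · rw [map_pow, map_pow]
      · rw [map_pow, map_pow]; exact hlt
    have h1 : V.valuation (σ (t j ^ M + c • y j)) ≤ 1 :=
      (V.valuation_le_one_iff _).2 (hS' _ (Algebra.subset_adjoin ⟨j, rfl⟩))
    rw [hsum] at h1
    exact absurd (one_lt_pow' hw1 (by omega : M ≠ 0)) (not_lt.2 h1)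
  -- so everything integral over them does
  have hT : ∀ z ∈ Algebra.adjoin k (Set.range t), σ z ∈ V := by
    intro z hz
    induction hz using Algebra.adjoin_induction with
    | mem z hz => obtain ⟨i, rfl⟩ := hz; exact htV i
    | algebraMap c => exact hk c
    | add a b _ _ ha hb => rw [map_add]; exact add_mem ha hb
    | mul a b _ _ ha hb => rw [map_mul]; exact mul_mem ha hb
  obtain ⟨f, hf, hfa⟩ := ht a
  let ψ : Algebra.adjoin k (Set.range t) →+* V :=
    (σ.comp (Algebra.adjoin k (Set.range t)).val.toRingHom).codRestrict V.toSubring fun z => hT z z.2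
  have hint : IsIntegral V (σ a) := by
    refine ⟨f.map ψ, hf.map _, ?_⟩
    rw [Polynomial.eval₂_map]
    have h1 : (algebraMap V K).comp ψ = σ.comp (algebraMap (Algebra.adjoin k (Set.range t)) A) := rfl
    rw [h1, ← Polynomial.hom_eval₂, hfa, map_zero]
  obtain ⟨z, hz⟩ := IsIntegrallyClosed.isIntegral_iff.1 hint
  rw [← hz]
  exact z.2

/-- An element of the Noether different outside a prime where the map is unramified. -/
theorem exists_different {S A : Type u} [CommRing S] [CommRing A] [Algebra S A] [Algebra.FiniteType S A]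
    (q : Ideal A) [q.IsPrime] {a : A} (ha : a ∉ q) (h : ∀ ω : Ω[A⁄S], a • ω = 0) :
    ∃ e : A ⊗[S] A, (∀ r : A, ((r ⊗ₜ[S] (1 : A)) : A ⊗[S] A) * e = (1 ⊗ₜ r) * e) ∧
      Algebra.TensorProduct.lmul' S e ∉ q := by
  let I := KaehlerDifferential.ideal S A
  let a' : A ⊗[S] A := a ⊗ₜ 1
  let f : Module.End (A ⊗[S] A) I := a' • LinearMap.id
  have hI : LinearMap.range f ≤ I • (⊤ : Submodule (A ⊗[S] A) I) := by
    rintro _ ⟨x, rfl⟩
    rw [Submodule.mem_smul_top_iff]
    have h1 : a • (I.toCotangent x : Ω[A⁄S]) = 0 := h (I.toCotangent x)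
    rw [← LinearMap.map_smul_of_tower I.toCotangent, Ideal.toCotangent_eq_zero] at h1
    rw [pow_two] at h1
    rw [smul_eq_mul]
    convert h1 using 1
    simp [f, a', Algebra.smul_def]
  haveI : Module.Finite (A ⊗[S] A) I := Module.Finite.of_fg (KaehlerDifferential.ideal_fg S A)
  obtain ⟨p, hp, -, hcoef, hpe⟩ :=
    LinearMap.exists_monic_and_coeff_mem_pow_and_aeval_eq_zero_of_range_le_smul _ _ _ hI
  refine ⟨Polynomial.aeval a' p, fun r => ?_, fun hq => ha ?_⟩
  · rw [← sub_eq_zero, ← sub_mul]
    have hr : ((r ⊗ₜ[S] (1 : A)) : A ⊗[S] A) - 1 ⊗ₜ r ∈ I := by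
      have := neg_mem (KaehlerDifferential.one_smul_sub_smul_one_mem_ideal S r)
      rwa [neg_sub] at this
    have := congrArg Subtype.val (LinearMap.congr_fun hpe ⟨_, hr⟩)
    have hev : Polynomial.aeval f p = Polynomial.aeval a' p • LinearMap.id := by
      have : f = algebraMap (A ⊗[S] A) (Module.End (A ⊗[S] A) I) a' := by
        ext x; rfl
      rw [this, Polynomial.aeval_algebraMap_apply]
      ext x; rfl
    rw [hev] at this
    rw [mul_comm]
    exact this
  · refine ‹q.IsPrime›.mem_of_pow_mem p.natDegree ?_
    have hsum : Algebra.TensorProduct.lmul' S (Polynomial.aeval a' p) = a ^ p.natDegree := by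
      rw [Polynomial.aeval_eq_sum_range, Finset.sum_range_succ, map_add, map_sum,
        Finset.sum_eq_zero fun i hi => ?_, zero_add, hp.coeff_natDegree, one_smul, map_pow]
      · simp [a']
      · rw [Finset.mem_range] at hi
        have h1 : p.coeff i ∈ I :=
          Ideal.pow_le_self (Nat.sub_ne_zero_of_lt hi) (hcoef i)
        rw [smul_eq_mul, map_mul, RingHom.mem_ker.1 h1, zero_mul]
    rwa [← hsum]

/-- A finite map to affine space with an element of the Noether different outside a given prime. -/
theorem exists_proj (k : Type u) [Field k] [Infinite k] [PerfectField k] (A : Type u) [CommRing A]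
    [IsDomain A] [IsIntegrallyClosed A] [Algebra k A] [Algebra.FiniteType k A] (q : Ideal A) [q.IsPrime]
    (hq : q.height ≤ 1) :
    ∃ (s : ℕ) (_ : Algebra (MvPolynomial (Fin s) k) A),
      Module.Finite (MvPolynomial (Fin s) k) A ∧ FaithfulSMul (MvPolynomial (Fin s) k) A ∧
      ∃ e : A ⊗[MvPolynomial (Fin s) k] A,
        (∀ r : A, (r ⊗ₜ[MvPolynomial (Fin s) k] (1 : A)) * e =
          ((1 : A) ⊗ₜ[MvPolynomial (Fin s) k] r) * e) ∧
        Algebra.TensorProduct.lmul' (MvPolynomial (Fin s) k) e ∉ q := by
  classical
  haveI : IsNoetherianRing A := Algebra.FiniteType.isNoetherianRing k A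
  obtain ⟨s, g₀, hinj₀, hfin₀⟩ := exists_finite_inj_algHom_of_fg k A
  have hdim : ringKrullDim A = (s : WithBot ℕ∞) := by
    algebraize [g₀.toRingHom]
    haveI : Module.Finite (MvPolynomial (Fin s) k) A := hfin₀
    haveI : FaithfulSMul (MvPolynomial (Fin s) k) A := (faithfulSMul_iff_algebraMap_injective _ _).2 hinj₀
    rw [VarDim.ringKrullDim_eq_of_isIntegral (R := MvPolynomial (Fin s) k),
      MvPolynomial.ringKrullDim_of_isNoetherianRing, ringKrullDim_eq_zero_of_field]
    simp
  -- smoothness at `q`
  haveI : IsRegularLocalRing (Localization.AtPrime q) := by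
    haveI : IsDomain (Localization.AtPrime q) :=
      IsLocalization.isDomain_localization q.primeCompl_le_nonZeroDivisors
    haveI : IsIntegrallyClosed (Localization.AtPrime q) :=
      isIntegrallyClosed_of_isLocalization _ q.primeCompl q.primeCompl_le_nonZeroDivisors
    haveI : Ring.KrullDimLE 1 (Localization.AtPrime q) := by
      rw [Ring.krullDimLE_iff, IsLocalization.AtPrime.ringKrullDim_eq_height q]
      exact WithBot.coe_le_coe.2 hq
    haveI : Ring.DimensionLEOne (Localization.AtPrime q) :=
      ⟨fun {P} hP0 hP => Ring.krullDimLE_one_iff_of_noZeroDivisors.mp inferInstance P hP0 hP⟩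
    haveI : IsDedekindDomain (Localization.AtPrime q) := {}
    infer_instance
  haveI hsm : Algebra.FormallySmooth k (Localization.AtPrime q) := by
    haveI : Algebra.IsGeometricallyReduced k q.ResidueField :=
      (FieldSep.MacLane.formallySmooth_iff k _).mp (FieldSep.Cartier.formallySmooth_of_perfectField k _)
    exact (S9442.result k A q).mpr inferInstance
  -- the rank of the differentials at `q`
  have hrank : RankDim.rank k q = s := by
    let L := Localization.AtPrime q
    haveI : Algebra.FormallyEtale A L := Algebra.FormallyEtale.of_isLocalization q.primeCompl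
    haveI : Algebra.EssFiniteType A L := inferInstance
    haveI : Algebra.EssFiniteType k L := Algebra.EssFiniteType.comp k A L
    haveI : Module.Free L Ω[L⁄k] := Module.free_of_flat_of_isLocalRing
    let p : Ideal A := ⊥
    haveI : IsDomain L := IsLocalization.isDomain_localization q.primeCompl_le_nonZeroDivisors
    have hfield : IsField (Localization.AtPrime p) := by
      haveI : IsReduced (Localization.AtPrime p) := by
        haveI : IsDomain (Localization.AtPrime p) :=
          IsLocalization.isDomain_localization p.primeCompl_le_nonZeroDivisors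
        infer_instance
      exact RankDim.isField_of_minimal p (by rw [IsDomain.minimalPrimes_eq_singleton_bot]; rfl)
    haveI : Algebra.FormallySmooth k (Localization.AtPrime p) := by
      letI := hfield.toField
      haveI : Algebra.EssFiniteType k (Localization.AtPrime p) := Algebra.EssFiniteType.comp k A _
      exact FieldSep.Cartier.formallySmooth_of_perfectField k _
    obtain ⟨t, ht⟩ := RankDim.exists_trdeg_eq k p
    have h0 := RankDim.rank_eq_trdeg k p hfield t ht
    have ht' : t = s := by
      have h1 := TrdegDim.ringKrullDim_quotient_eq p t ht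
      rw [ringKrullDim_eq_of_ringEquiv (RingEquiv.quotientBot A), hdim] at h1
      exact_mod_cast h1.symm
    let ι : L →+* Localization.AtPrime p :=
      IsLocalization.lift (M := q.primeCompl) (g := algebraMap A (Localization.AtPrime p)) fun x =>
        IsLocalization.map_units (Localization.AtPrime p) (⟨x.1, fun h => x.2 (by
          rw [show (x.1 : A) = 0 from Ideal.mem_bot.1 h]; exact zero_mem q)⟩ : p.primeCompl)
    letI : Algebra L p.ResidueField :=
      ((algebraMap (Localization.AtPrime p) p.ResidueField).comp ι).toAlgebra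
    haveI : IsScalarTower A L p.ResidueField := IsScalarTower.of_algebraMap_eq fun x => by
      rw [RingHom.algebraMap_toAlgebra, RingHom.comp_apply, IsLocalization.lift_eq]
      exact IsScalarTower.algebraMap_apply A (Localization.AtPrime p) p.ResidueField x
    have e1 := RankDim.finrank_localized k L p (A := A)
    have e2 := RankDim.finrank_localized k L q (A := A)
    rw [RankDim.rank, ← e2, e1]
    rw [RankDim.rank] at h0
    rw [h0, ht']
  -- differentials spanning at `q`
  let κ := q.ResidueField
  let φ : Ω[A⁄k] →ₗ[A] κ ⊗[A] Ω[A⁄k] := TensorProduct.mk A κ Ω[A⁄k] 1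
  have hspanD : Submodule.span κ (Set.range fun a : A => φ (KaehlerDifferential.D k A a)) = ⊤ := by
    refine Submodule.eq_top_iff'.2 fun z => ?_
    induction z using TensorProduct.induction_on with
    | zero => exact zero_mem _
    | tmul c ω =>
      have : φ ω ∈ Submodule.span κ (Set.range fun a : A => φ (KaehlerDifferential.D k A a)) := by
        have hω : ω ∈ Submodule.span A (Set.range (KaehlerDifferential.D k A)) := by
          rw [KaehlerDifferential.span_range_derivation]; trivial
        induction hω using Submodule.span_induction with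
        | mem ω hω => obtain ⟨a, rfl⟩ := hω; exact Submodule.subset_span ⟨a, rfl⟩
        | zero => rw [map_zero]; exact zero_mem _
        | add _ _ _ _ h1 h2 => rw [map_add]; exact add_mem h1 h2
        | smul r _ _ h1 => rw [map_smul, ← IsScalarTower.algebraMap_smul κ r]; exact Submodule.smul_mem _ _ h1
      have e : c ⊗ₜ[A] ω = c • φ ω := by
        rw [TensorProduct.mk_apply, TensorProduct.smul_tmul', smul_eq_mul, mul_one]
      rw [e]
      exact Submodule.smul_mem _ _ this
    | add _ _ h1 h2 => exact add_mem h1 h2
  obtain ⟨y, hy⟩ : ∃ y : Fin s → A,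
      Submodule.span κ (Set.range fun i => φ (KaehlerDifferential.D k A (y i))) = ⊤ := by
    obtain ⟨b, hb, hbs, hli⟩ := exists_linearIndependent κ (Set.range fun a : A => φ (KaehlerDifferential.D k A a))
    haveI : Fintype b := hli.setFinite.fintype
    have hcard : Fintype.card b = s := by
      rw [← hrank, RankDim.rank]
      exact (Module.finrank_eq_card_basis (Module.Basis.mk hli (by
        rw [Subtype.range_coe, hbs, hspanD]))).symm
    let e := (Fintype.equivFinOfCardEq hcard).symm
    choose y hy using fun i : Fin s => hb (e i).2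
    refine ⟨y, eq_top_iff.2 ?_⟩
    rw [← hspanD, ← hbs, Submodule.span_le]
    intro z hz
    refine Submodule.subset_span ⟨e.symm ⟨z, hz⟩, ?_⟩
    exact (hy _).trans (by rw [Equiv.apply_symm_apply])
  -- the shift
  let t : Fin s → A := fun i => g₀ (MvPolynomial.X i)
  have hadj : Algebra.adjoin k (Set.range t) = g₀.range := by
    rw [show g₀ = MvPolynomial.aeval t from MvPolynomial.algHom_ext fun i => by simp [t],
      Algebra.adjoin_range_eq_range_aeval]
  have ht : ∀ a : A, IsIntegral (Algebra.adjoin k (Set.range t)) a := by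
    intro a
    obtain ⟨f, hf, hfa⟩ := RingHom.Finite.to_isIntegral (f := g₀.toRingHom) hfin₀ a
    let π : MvPolynomial (Fin s) k →+* Algebra.adjoin k (Set.range t) :=
      g₀.toRingHom.codRestrict _ fun x => by rw [hadj]; exact ⟨x, rfl⟩
    refine ⟨f.map π, hf.map _, ?_⟩
    rw [Polynomial.eval₂_map]
    exact hfa
  obtain ⟨M₀, hM₀⟩ := exists_shift_integral t y ht
  obtain ⟨c, -, hc⟩ := exists_scalar_span (k := k) (κ := κ)
    (fun i => φ (KaehlerDifferential.D k A (t i ^ (M₀ + 1))))
    (fun i => φ (KaehlerDifferential.D k A (y i))) hy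
  let t' : Fin s → A := fun i => t i ^ (M₀ + 1) + c • y i
  let g : MvPolynomial (Fin s) k →ₐ[k] A := MvPolynomial.aeval t'
  have hint : g.toRingHom.IsIntegral := by
    intro a
    obtain ⟨f, hf, hfa⟩ := hM₀ (M₀ + 1) (Nat.lt_succ_self _) c a
    let π : MvPolynomial (Fin s) k →+* Algebra.adjoin k (Set.range t') :=
      g.toRingHom.codRestrict _ fun x => by rw [Algebra.adjoin_range_eq_range_aeval]; exact ⟨x, rfl⟩
    have hπ : Function.Surjective π := by
      rintro ⟨z, hz⟩
      rw [Algebra.adjoin_range_eq_range_aeval] at hz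
      obtain ⟨x, rfl⟩ := hz
      exact ⟨x, rfl⟩
    obtain ⟨f', rfl, -, hf'⟩ := Polynomial.lifts_and_degree_eq_and_monic
      (Polynomial.map_surjective _ hπ f) hf
    refine ⟨f', hf', ?_⟩
    rw [Polynomial.eval₂_map] at hfa
    exact hfa
  have hfin : g.Finite := by
    refine RingHom.IsIntegral.to_finite hint ?_
    refine RingHom.FiniteType.of_comp_finiteType (f := algebraMap k (MvPolynomial (Fin s) k)) ?_
    rw [show g.toRingHom.comp (algebraMap k _) = algebraMap k A from g.comp_algebraMap]
    exact RingHom.finiteType_algebraMap.2 inferInstance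
  have hinj : Function.Injective g := by
    rw [injective_iff_map_eq_zero]
    by_contra hne
    push Not at hne
    obtain ⟨x, hx, hx0⟩ := hne
    let π := Ideal.Quotient.mk (RingHom.ker g.toRingHom)
    have h1 : ringKrullDim A ≤ ringKrullDim (MvPolynomial (Fin s) k ⧸ RingHom.ker g.toRingHom) := by
      let g' : MvPolynomial (Fin s) k ⧸ RingHom.ker g.toRingHom →+* A := RingHom.kerLift g.toRingHom
      algebraize [g']
      haveI : Algebra.IsIntegral (MvPolynomial (Fin s) k ⧸ RingHom.ker g.toRingHom) A :=
        ⟨RingHom.IsIntegral.tower_top π g' (by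
          rw [show g'.comp π = g.toRingHom from RingHom.ext fun _ => rfl]; exact hint)⟩
      haveI : FaithfulSMul (MvPolynomial (Fin s) k ⧸ RingHom.ker g.toRingHom) A :=
        (faithfulSMul_iff_algebraMap_injective _ _).2 (RingHom.kerLift_injective _)
      exact (VarDim.ringKrullDim_eq_of_isIntegral (R := MvPolynomial (Fin s) k ⧸ RingHom.ker g.toRingHom)).le
    haveI : (RingHom.ker g.toRingHom).IsPrime := RingHom.ker_isPrime _
    have h2 := ringKrullDim_succ_le_of_surjective π Ideal.Quotient.mk_surjective
      (mem_nonZeroDivisors_of_ne_zero hx0) (Ideal.Quotient.eq_zero_iff_mem.2 hx)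
    rw [MvPolynomial.ringKrullDim_of_isNoetherianRing, ringKrullDim_eq_zero_of_field, zero_add, Nat.card_fin] at h2
    rw [hdim] at h1
    have := (add_le_add_left h1 1).trans h2
    have : ((s + 1 : ℕ) : WithBot ℕ∞) ≤ (s : ℕ) := by push_cast; exact this
    have : s + 1 ≤ s := by exact_mod_cast this
    omega
  refine ⟨s, g.toRingHom.toAlgebra, hfin, ?_, ?_⟩
  · letI := g.toRingHom.toAlgebra
    exact (faithfulSMul_iff_algebraMap_injective _ _).2 hinj
  letI := g.toRingHom.toAlgebra
  haveI : IsScalarTower k (MvPolynomial (Fin s) k) A :=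
    IsScalarTower.of_algebraMap_eq fun x => (g.commutes x).symm
  let S := MvPolynomial (Fin s) k
  haveI : Algebra.FiniteType S A := Algebra.FiniteType.of_restrictScalars_finiteType k S A
  have hzero : Subsingleton (κ ⊗[A] Ω[A⁄S]) := by
    let F : κ ⊗[A] Ω[A⁄k] →ₗ[κ] κ ⊗[A] Ω[A⁄S] := (KaehlerDifferential.map k S A A).baseChange κ
    have hFs : Function.Surjective F :=
      LinearMap.lTensor_surjective κ (KaehlerDifferential.map_surjective k S A)
    have hF0 : F = 0 := by
      refine LinearMap.ext_on_range hc fun i => ?_
      have h1 : ∀ a : A, F (φ (KaehlerDifferential.D k A a)) =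
          (1 : κ) ⊗ₜ[A] KaehlerDifferential.D S A a := fun a => by
        simp [F, φ, KaehlerDifferential.map_D]
      have h2 : φ (KaehlerDifferential.D k A (t i ^ (M₀ + 1))) +
          algebraMap k κ c • φ (KaehlerDifferential.D k A (y i)) =
            φ (KaehlerDifferential.D k A (t' i)) := by
        simp only [t', map_add, Derivation.map_smul, LinearMap.map_smul_of_tower, algebraMap_smul]
      rw [LinearMap.zero_apply, h2, h1, show t' i = algebraMap S A (MvPolynomial.X i) from
        (MvPolynomial.aeval_X t' i).symm, Derivation.map_algebraMap, TensorProduct.tmul_zero]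
    exact subsingleton_of_forall_eq 0 fun z => by
      obtain ⟨z, rfl⟩ := hFs z
      rw [hF0, LinearMap.zero_apply]
  let L := Localization.AtPrime q
  have hL : Subsingleton (L ⊗[A] Ω[A⁄S]) := by
    rw [← IsLocalRing.subsingleton_tensorProduct (R := L)]
    exact (TensorProduct.AlgebraTensorModule.cancelBaseChange A L (IsLocalRing.ResidueField L)
      (IsLocalRing.ResidueField L) Ω[A⁄S]).toEquiv.subsingleton
  have hsupp : (⟨q, ‹_›⟩ : PrimeSpectrum A) ∉ Module.support A Ω[A⁄S] := by
    rw [Module.notMem_support_iff]
    exact ((LocalizedModule.equivTensorProduct q.primeCompl Ω[A⁄S]).toEquiv).subsingleton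
  rw [Module.mem_support_iff_of_finite, SetLike.not_le_iff_exists] at hsupp
  obtain ⟨a, ha, haq⟩ := hsupp
  exact exists_different q haq fun ω => Module.mem_annihilator.1 ha ω

end Groth.Agent.RefChK0.Proj
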