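import Groth.Agent.RefChK0.Tri
import Groth.Agent.RefChK0.Frob

/-!
# Bounded third differences: the leading quadratic coefficient
-/

set_option autoImplicit false
set_option linter.style.haveILetI false

universe u

open CategoryTheory Limits AlgebraicGeometry

noncomputable section

namespace Groth.Agent.RefChK0

open Filter

/-- Almost additive sequences have a slope. -/
theorem exists_slope {ψ : ℕ → ℤ} {C : ℤ} (hψ : ∀ m n, |ψ (m + n) - ψ m - ψ n| ≤ C) (h0 : ψ 0 = 0) :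
    ∃ γ : ℝ, ∀ m : ℕ, |(ψ m : ℝ) - γ * m| ≤ C := by
  have hk : ∀ m k : ℕ, |ψ (k * m) - k * ψ m| ≤ k * C := by
    intro m k
    induction k with
    | zero => simp [h0]
    | succ k ih =>
      have h := hψ (k * m) m
      rw [Nat.succ_mul]
      push_cast
      rw [abs_le] at h ih ⊢
      constructor <;> linarith [h.1, h.2, ih.1, ih.2]
  have hcross : ∀ m n : ℕ, |(n : ℝ) * ψ m - m * ψ n| ≤ (n + m : ℝ) * C := by
    intro m n
    have h1 := hk m n
    have h2 := hk n m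
    rw [mul_comm n m] at h1
    have : |(n : ℤ) * ψ m - m * ψ n| ≤ (n + m : ℤ) * C := by
      rw [abs_le] at h1 h2 ⊢
      constructor <;> linarith [h1.1, h1.2, h2.1, h2.2]
    exact_mod_cast this
  let a : ℕ → ℝ := fun i => (ψ (i + 1) : ℝ) / (i + 1 : ℕ)
  have hC : (0 : ℝ) ≤ C := by exact_mod_cast le_trans (abs_nonneg _) (hψ 0 0)
  have hdist : ∀ i j, |a i - a j| ≤ (C : ℝ) / (i + 1 : ℕ) + (C : ℝ) / (j + 1 : ℕ) := by
    intro i j
    have h := hcross (i + 1) (j + 1)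
    simp only [a]
    rw [div_sub_div _ _ (by positivity) (by positivity), div_add_div _ _ (by positivity) (by positivity),
      abs_div, abs_of_nonneg (show (0 : ℝ) ≤ ((i + 1 : ℕ) : ℝ) * ((j + 1 : ℕ) : ℝ) by positivity)]
    refine div_le_div_of_nonneg_right ?_ (by positivity)
    calc |(ψ (i + 1) : ℝ) * ((j + 1 : ℕ) : ℝ) - ((i + 1 : ℕ) : ℝ) * ψ (j + 1)|
        = |((j + 1 : ℕ) : ℝ) * ψ (i + 1) - ((i + 1 : ℕ) : ℝ) * ψ (j + 1)| := by ring_nf
      _ ≤ _ := h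
      _ = _ := by ring
  have hz : Tendsto (fun i : ℕ => (C : ℝ) / (i + 1 : ℕ)) atTop (nhds 0) :=
    (tendsto_const_div_atTop_nhds_zero_nat (C : ℝ)).comp (tendsto_add_atTop_nat 1)
  obtain ⟨γ, hγ⟩ : ∃ γ, Tendsto a atTop (nhds γ) := by
    refine cauchySeq_tendsto_of_complete (Metric.cauchySeq_iff'.2 fun ε hε => ?_)
    obtain ⟨N, hN⟩ := Metric.tendsto_atTop.1 hz (ε / 2) (by positivity)
    refine ⟨N, fun n hn => ?_⟩
    have h1 := hN n hn
    have h2 := hN N le_rfl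
    rw [Real.dist_eq, sub_zero] at h1 h2
    rw [Real.dist_eq]
    calc |a n - a N| ≤ _ := hdist n N
      _ < ε := by linarith [le_abs_self ((C : ℝ) / (n + 1 : ℕ)), le_abs_self ((C : ℝ) / (N + 1 : ℕ))]
  refine ⟨γ, fun m => ?_⟩
  cases m with
  | zero => simpa [h0] using hC
  | succ i =>
    have h : |a i - γ| ≤ (C : ℝ) / (i + 1 : ℕ) := by
      refine le_of_tendsto_of_tendsto' ((tendsto_const_nhds.sub hγ).abs)
        (show Tendsto (fun j : ℕ => (C : ℝ) / (i + 1 : ℕ) + (C : ℝ) / (j + 1 : ℕ)) atTop (nhds ((C : ℝ) / (i + 1 : ℕ))) by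
          simpa using tendsto_const_nhds.add hz) (hdist i)
    have hpos : (0 : ℝ) < ((i + 1 : ℕ) : ℝ) := by positivity
    have e : (ψ (i + 1) : ℝ) - γ * ((i + 1 : ℕ) : ℝ) = (a i - γ) * ((i + 1 : ℕ) : ℝ) := by
      simp only [a]
      field_simp
    rw [e, abs_mul, abs_of_pos hpos]
    exact (mul_le_mul_of_nonneg_right h hpos.le).trans (le_of_eq (div_mul_cancel₀ _ hpos.ne'))

/-- A bounded third difference gives a leading quadratic coefficient. -/
theorem exists_lim_sq {G : Type*} [AddCommGroup G] (Φ : G → ℤ) (D : G) {C : ℤ}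
    (h : ∀ m n : ℕ, |tri3 Φ ((m : ℤ) • D) ((n : ℤ) • D) D| ≤ C) :
    ∃ q : ℝ, Tendsto (fun m : ℕ => (2 : ℝ) * (Φ ((m : ℤ) • D) : ℝ) / (m : ℝ) ^ 2) atTop (nhds q) := by
  let e : ℕ → ℤ := fun m => Φ ((m : ℤ) • D)
  let φ : ℕ → ℤ := fun m => e (m + 1) - e m
  have hψ : ∀ m n, |(φ (m + n) - φ 0) - (φ m - φ 0) - (φ n - φ 0)| ≤ C := fun m n => by
    refine le_of_eq_of_le (congrArg abs ?_) (h m n)
    simp only [tri3, φ, e, Nat.cast_add, Nat.cast_one, add_smul, one_smul, Nat.cast_zero, zero_smul, zero_add]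
    ring
  obtain ⟨γ, hγ⟩ := exists_slope (ψ := fun m => φ m - φ 0) hψ (sub_self _)
  refine ⟨γ, ?_⟩
  have hsum : ∀ m : ℕ, |(e m : ℝ) - e 0 - φ 0 * m - γ * ((m : ℝ) * (m - 1) / 2)| ≤ C * m := by
    intro m
    induction m with
    | zero => simp
    | succ m ih =>
      have h1 := hγ m
      have h2 : ((e (m + 1) : ℤ) : ℝ) = e m + φ m := by simp [φ]
      push_cast at h1 ⊢
      rw [h2]
      rw [abs_le] at h1 ih ⊢
      constructor <;> linarith [h1.1, h1.2, ih.1, ih.2]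
  let B : ℝ := 2 * |(e 0 : ℝ)| + 2 * |(φ 0 : ℝ)| + |γ| + 2 * C
  rw [← tendsto_sub_nhds_zero_iff]
  refine squeeze_zero_norm' (a := fun m : ℕ => B / (m : ℝ)) ?_ (tendsto_const_div_atTop_nhds_zero_nat B)
  filter_upwards [eventually_ge_atTop 1] with m hm
  have hm' : (1 : ℝ) ≤ m := by exact_mod_cast hm
  have h1 := hsum m
  show |2 * (e m : ℝ) / (m : ℝ) ^ 2 - γ| ≤ B / m
  rw [div_sub' (by positivity), abs_div, abs_of_pos (by positivity : (0 : ℝ) < (m : ℝ) ^ 2),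
    div_le_div_iff₀ (by positivity) (by positivity)]
  have key : |2 * (e m : ℝ) - (m : ℝ) ^ 2 * γ| ≤ B * m := by
    have a1 := neg_abs_le (e 0 : ℝ)
    have a2 := le_abs_self (e 0 : ℝ)
    have a5 := le_mul_of_one_le_right (abs_nonneg (e 0 : ℝ)) hm'
    have a6 := mul_le_mul_of_nonneg_right (le_abs_self (φ 0 : ℝ)) (by positivity : (0 : ℝ) ≤ m)
    have a7 := mul_le_mul_of_nonneg_right (neg_abs_le (φ 0 : ℝ)) (by positivity : (0 : ℝ) ≤ m)
    have a8 := mul_le_mul_of_nonneg_right (le_abs_self γ) (by positivity : (0 : ℝ) ≤ m)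
    have a9 := mul_le_mul_of_nonneg_right (neg_abs_le γ) (by positivity : (0 : ℝ) ≤ m)
    simp only [B]
    rw [abs_le] at h1 ⊢
    constructor <;> linarith [h1.1, h1.2]
  calc |2 * (e m : ℝ) - (m : ℝ) ^ 2 * γ| * m ≤ B * m * m := by gcongr
    _ = B * (m : ℝ) ^ 2 := by ring

/-- The leading coefficient scales by the square. -/
theorem lim_sq_nsmul {G : Type*} [AddCommGroup G] (Φ : G → ℤ) (D : G) {c : ℕ} (hc : 0 < c) {q : ℝ}
    (h : Tendsto (fun m : ℕ => (2 : ℝ) * (Φ ((m : ℤ) • D) : ℝ) / (m : ℝ) ^ 2) atTop (nhds q)) :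
    Tendsto (fun m : ℕ => (2 : ℝ) * (Φ ((m : ℤ) • ((c : ℤ) • D)) : ℝ) / (m : ℝ) ^ 2) atTop
      (nhds ((c : ℝ) ^ 2 * q)) := by
  have h1 := (h.comp (tendsto_id.atTop_mul_const' (show 0 < c from hc))).const_mul ((c : ℝ) ^ 2)
  refine h1.congr' ?_
  filter_upwards [eventually_gt_atTop 0] with m hm
  have hc' : (c : ℝ) ≠ 0 := by positivity
  simp only [Function.comp_apply, id, Nat.cast_mul, smul_smul]
  field_simp

/-- The mixed coefficient is additive. -/
theorem lim_sq_add {G : Type*} [AddCommGroup G] (Φ : G → ℤ) {C : ℤ} (h : ∀ a b c, |tri3 Φ a b c| ≤ C)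
    {D D' E : G} {p p' r pp' pr p'r pp'r : ℝ}
    (h₁ : Tendsto (fun m : ℕ => (2 : ℝ) * (Φ ((m : ℤ) • D) : ℝ) / (m : ℝ) ^ 2) atTop (nhds p))
    (h₂ : Tendsto (fun m : ℕ => (2 : ℝ) * (Φ ((m : ℤ) • D') : ℝ) / (m : ℝ) ^ 2) atTop (nhds p'))
    (h₃ : Tendsto (fun m : ℕ => (2 : ℝ) * (Φ ((m : ℤ) • E) : ℝ) / (m : ℝ) ^ 2) atTop (nhds r))
    (h₁₂ : Tendsto (fun m : ℕ => (2 : ℝ) * (Φ ((m : ℤ) • (D + D')) : ℝ) / (m : ℝ) ^ 2) atTop (nhds pp'))
    (h₁₃ : Tendsto (fun m : ℕ => (2 : ℝ) * (Φ ((m : ℤ) • (D + E)) : ℝ) / (m : ℝ) ^ 2) atTop (nhds pr))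
    (h₂₃ : Tendsto (fun m : ℕ => (2 : ℝ) * (Φ ((m : ℤ) • (D' + E)) : ℝ) / (m : ℝ) ^ 2) atTop (nhds p'r))
    (h₁₂₃ : Tendsto (fun m : ℕ => (2 : ℝ) * (Φ ((m : ℤ) • (D + D' + E)) : ℝ) / (m : ℝ) ^ 2) atTop (nhds pp'r)) :
    pp'r - pp' - pr - p'r + p + p' + r = 0 := by
  have hl := (((((h₁₂₃.sub h₁₂).sub h₁₃).sub h₂₃).add h₁).add h₂).add h₃
  refine tendsto_nhds_unique hl (squeeze_zero_norm'
    (a := fun m : ℕ => 2 * ((C : ℝ) + |(Φ 0 : ℝ)|) / (m : ℝ) ^ 2) ?_
    (tendsto_const_nhds.div_atTop ((tendsto_pow_atTop two_ne_zero).comp tendsto_natCast_atTop_atTop)))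
  refine Eventually.of_forall fun m => ?_
  have hm := (Int.cast_le (R := ℝ)).2 (h ((m : ℤ) • D) ((m : ℤ) • D') ((m : ℤ) • E))
  simp only [tri3, ← smul_add] at hm
  push_cast at hm
  rw [Real.norm_eq_abs]
  simp only [← sub_div, ← add_div, ← mul_sub, ← mul_add]
  rw [abs_div, abs_mul, abs_two, abs_pow, Nat.abs_cast]
  gcongr
  have h1 := abs_add_le ((Φ ((m : ℤ) • (D + D' + E)) : ℝ) - Φ ((m : ℤ) • (D + D')) - Φ ((m : ℤ) • (D + E)) -
    Φ ((m : ℤ) • (D' + E)) + Φ ((m : ℤ) • D) + Φ ((m : ℤ) • D') + Φ ((m : ℤ) • E) - Φ 0) (Φ 0 : ℝ)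
  rw [sub_add_cancel] at h1
  linarith

variable {X : Scheme.{u}} [IsIntegral X] [IsLocallyNoetherian X]

open Groth.Agent.Ref1

omit [IsLocallyNoetherian X] in
/-- Codimension one points have the expected dimension. -/
theorem δ_of_coheight_one {δ : X → ℤ} (hd : Cyc.IsDimFun X δ) {y : X} (hy : Order.coheight y = 1) :
    δ y + 1 = δ (genericPoint X) := by
  have hne : genericPoint X ≠ y := by
    rintro rfl
    rw [Order.coheight_eq_zero.mpr (fun z _ => Scheme.le_iff_specializes.mpr (hsp z))] at hy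
    exact zero_ne_one hy
  refine ((hd _ _ (hsp y) hne).2 fun z h1 h2 => ?_).symm
  by_contra hcon
  push Not at hcon
  have hyz : y < z := lt_of_le_not_ge (Scheme.le_iff_specializes.2 h2)
    fun h => hcon.2 ((Scheme.le_iff_specializes.1 h).antisymm h2).eq.symm
  have hzη : z < genericPoint X := lt_of_le_not_ge (Scheme.le_iff_specializes.2 (hsp z))
    fun h => hcon.1 ((Scheme.le_iff_specializes.1 h).antisymm (hsp z)).eq
  have e1 := Order.coheight_add_one_le hyz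
  have e2 := Order.coheight_add_one_le hzη
  rw [hy] at e1
  have : (1 : ℕ∞) ≤ Order.coheight z := le_trans le_add_self e2
  have h3 : (1 : ℕ∞) + 1 ≤ 1 := le_trans (add_le_add this le_rfl) e1
  exact absurd h3 (by norm_num)

/-- A basis determines the orders of a framing. -/
theorem Framed.unique {δ : X → ℤ} {A : X.Modules} {r : ℕ}
    {b : Module.Basis (Fin r) (X.presheaf.stalk (genericPoint X)) (A.presheaf.stalk (genericPoint X))}
    {f f' : X → ℤ} (hd : Cyc.IsDimFun X δ) (h : Framed δ A b f) (h' : Framed δ A b f') {y : X} (hy : δ y + 1 = δ (genericPoint X)) :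
    f y = f' y := by
  classical
  obtain ⟨hinj, m, hm, hdm, e0⟩ := h.2 y hy
  obtain ⟨-, n, hn, hdn, e⟩ := h'.2 y hy
  rw [← e0, ← e]
  have hmat : ∀ {v w : Fin r → A.presheaf.stalk y}, Submodule.span (X.presheaf.stalk y) (Set.range w) = ⊤ →
      ∃ P : Matrix (Fin r) (Fin r) (X.presheaf.stalk y), b.det (fun i => toη A y (v i)) =
        b.det (fun i => toη A y (w i)) * toK y P.det := by
    intro v w hw
    choose c hc using fun j => (Submodule.mem_span_range_iff_exists_fun _).1 (hw.ge (Submodule.mem_top (x := v j)))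
    refine ⟨Matrix.of fun i j => c j i, ?_⟩
    rw [RingHom.map_det, ← det_comb b]
    congr 1
    funext j
    rw [← hc j, map_sum]
    exact Finset.sum_congr rfl fun i _ => sp_smul A (hsp y) (c j i) (w i)
  obtain ⟨P, hP⟩ := hmat (v := m) (w := n) hn
  obtain ⟨Q, hQ⟩ := hmat (v := n) (w := m) hm
  have hco := coheight_one hd hy
  have hPQ : IsUnit P.det := by
    refine IsUnit.of_mul_eq_one Q.det (toK_injective y ?_)
    rw [map_mul, map_one]
    refine mul_left_cancel₀ hdm ?_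
    rw [mul_one]
    calc _ = b.det (fun i => toη A y (m i)) * toK y Q.det * toK y P.det := by ring
      _ = b.det (fun i => toη A y (n i)) * toK y P.det := by rw [← hQ]
      _ = _ := hP.symm
  rw [hP, ord_mul' hdn (toK_ne_zero hPQ.ne_zero), ord_toK_of_isUnit hco hPQ, add_zero]

end Groth.Agent.RefChK0
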