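import Groth.Agent.RefChK0.Local
import Groth.Agent.ExtPowSt.Modification

/-!
# The second difference of classes of divisors as the class of a cokernel
-/

set_option autoImplicit false
set_option linter.style.haveILetI false

universe u

open CategoryTheory Limits AlgebraicGeometry

noncomputable section

namespace Groth.Agent.RefChK0

open Groth.Agent.HomShQC Groth.Agent.Ref1 Groth.Agent.PullStalk.Sky Groth.Agent.PullStalk.Exact CycLib.Dev

variable {X : Scheme.{u}} [IsIntegral X] [IsLocallyNoetherian X] (hX : Pi1.IsNormalScheme X)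

local notation "η" => genericPoint X
local notation "K" => Scheme.functionField X

/-- A sheaf of a divisor with its stalks. -/
structure Model (D : X → ℤ) where
  F : X.Modules
  s : F.presheaf.stalk η
  hF : RefHull.IsRef1 F
  hs : s ≠ 0
  hD : ∀ y : X, Order.coheight y = 1 → ordS F y s = D y

theorem nonempty_model {D : X → ℤ} (h : IsDiv D) : Nonempty (Model D) :=
  let ⟨F, s, hF, hs, hD⟩ := h
  ⟨⟨F, s, hF, hs, hD⟩⟩

include hX

theorem Model.isDiv {D : X → ℤ} (m : Model D) : IsDiv D := ⟨m.F, m.s, m.hF, m.hs, m.hD⟩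

omit hX in
theorem Model.smul_inj {D : X → ℤ} (m : Model D) {a b : K} (h : a • m.s = b • m.s) : a = b :=
  sub_eq_zero.1 (((rankOne_of_isRef1 m.hF).eq_zero_or (a - b) m.s (by rw [sub_smul, h, sub_self])).resolve_right m.hs)

theorem Model.exists_equiv {D : X → ℤ} (m : Model D) (x : X) :
    ∃ e : m.F.presheaf.stalk x ≃ₗ[X.presheaf.stalk x] lat D x,
      ∀ v, (e v : K) • m.s = toη m.F x v := by
  choose a ha using fun v : m.F.presheaf.stalk x => exists_coe_smul m.hF m.hs v
  have hmem : ∀ v, a v ∈ lat D x := fun v => (mem_lat_iff hX m.hF m.hs m.hD).2 ⟨v, (ha v).symm⟩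
  let f : m.F.presheaf.stalk x →ₗ[X.presheaf.stalk x] lat D x :=
    { toFun := fun v => ⟨a v, hmem v⟩
      map_add' := fun v w => Subtype.ext (m.smul_inj (by
        show a (v + w) • m.s = (a v + a w) • m.s
        rw [ha, add_smul, ha, ha, map_add]))
      map_smul' := fun r v => Subtype.ext (m.smul_inj (by
        show a (r • v) • m.s = (r • a v) • m.s
        rw [ha, toη, sp_smul, ← toη, ← ha v, smul_smul]
        rfl)) }
  refine ⟨LinearEquiv.ofBijective f ⟨(injective_iff_map_eq_zero f).2 fun v hv => ?_, fun b => ?_⟩, ha⟩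
  · refine toη_injective_of_isReflexive m.F m.hF.1 m.hF.2.1 x ?_
    rw [map_zero, ← ha v, show a v = 0 from congrArg Subtype.val hv, zero_smul]
  · obtain ⟨v, hv⟩ := (mem_lat_iff hX m.hF m.hs m.hD).1 b.2
    exact ⟨v, Subtype.ext (m.smul_inj ((ha v).trans hv))⟩

/-- The inclusion of a smaller divisor. -/
theorem Model.exists_hom {D E : X → ℤ} (m : Model D) (n : Model E)
    (h : ∀ y, Order.coheight y = 1 → D y ≤ E y) :
    ∃ ψ : m.F ⟶ n.F, ∀ (x : X) (v : m.F.presheaf.stalk x) (a : K),
      a • m.s = toη m.F x v → toη n.F x (stalkLin ψ x v) = a • n.s := by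
  choose c hc using fun v => (rankOne_of_isRef1 m.hF).exists_smul m.hs v
  let T : RefHull.StalkHom m.F n.F η :=
    { toFun := fun v => c v • n.s
      map_add' := fun v w => by
        rw [← add_smul, m.smul_inj (show c (v + w) • m.s = (c v + c w) • m.s by rw [add_smul, ← hc, ← hc, ← hc])]
      map_smul' := fun r v => by
        rw [RingHom.id_apply, smul_smul,
          m.smul_inj (show c (r • v) • m.s = (r * c v) • m.s by rw [mul_smul, ← hc, ← hc])] }
  obtain ⟨ψ, hψ⟩ := exists_hom_of_generic (toη_injective_of_isReflexive n.F n.hF.1 n.hF.2.1) T fun x v =>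
    (mem_lat_iff hX n.hF n.hs n.hD).1
      (lat_mono hX h x ((mem_lat_iff hX m.hF m.hs m.hD).2 ⟨v, hc (toη m.F x v)⟩))
  refine ⟨ψ, fun x v a ha => ?_⟩
  refine (sp_stalkMap ψ (hsp x) v).trans ?_
  rw [hψ]
  show c (toη m.F x v) • n.s = a • n.s
  rw [m.smul_inj (show c (toη m.F x v) • m.s = a • m.s by rw [← hc, ha])]

variable {δ : X → ℤ} (hd : Cyc.IsDimFun X δ)

include hd in
/-- For effective `a`, `c` without common component, the second difference at `b` is the class of
the quotient of lattices. -/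
theorem exists_coker {b a c : X → ℤ} (hb : IsDiv b) (ha : IsDiv a) (hc : IsDiv c)
    (ha0 : ∀ y, Order.coheight y = 1 → 0 ≤ a y) (hc0 : ∀ y, Order.coheight y = 1 → 0 ≤ c y)
    (hac : ∀ y, Order.coheight y = 1 → a y = 0 ∨ c y = 0) :
    ∃ Q : X.Modules, Cyc.CohLe δ (δ η - 2) Q ∧
      kc δ (δ η) Q = kd δ b - kd δ (b - a) - kd δ (b - c) + kd δ (b - a - c) ∧
      ∀ x, Nonempty (Q.presheaf.stalk x ≃ₗ[X.presheaf.stalk x]
        (lat b x ⧸ (lat (b - a) x ⊔ lat (b - c) x).submoduleOf (lat b x))) := by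
  obtain ⟨mC⟩ := nonempty_model hb
  obtain ⟨mA⟩ := nonempty_model (hb.sub hX ha)
  obtain ⟨mB⟩ := nonempty_model (hb.sub hX hc)
  obtain ⟨mH⟩ := nonempty_model ((hb.sub hX ha).sub hX hc)
  have hle : ∀ {f : X → ℤ}, (∀ y, Order.coheight y = 1 → 0 ≤ f y) → ∀ g : X → ℤ,
      ∀ y, Order.coheight y = 1 → (g - f) y ≤ g y := fun hf g y hy => by
    have := hf y hy; simp only [Pi.sub_apply]; omega
  obtain ⟨ψA, hψA⟩ := mA.exists_hom hX mC (hle ha0 b)
  obtain ⟨ψB, hψB⟩ := mB.exists_hom hX mC (hle hc0 b)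
  obtain ⟨φA, hφA⟩ := mH.exists_hom hX mA (hle hc0 (b - a))
  obtain ⟨φB, hφB⟩ := mH.exists_hom hX mB (fun y hy => by
    have := ha0 y hy; simp only [Pi.sub_apply]; omega)
  choose eC heC using mC.exists_equiv hX
  choose eA heA using mA.exists_equiv hX
  choose eB heB using mB.exists_equiv hX
  choose eH heH using mH.exists_equiv hX
  have injC := toη_injective_of_isReflexive mC.F mC.hF.1 mC.hF.2.1
  have injA := toη_injective_of_isReflexive mA.F mA.hF.1 mA.hF.2.1
  have injB := toη_injective_of_isReflexive mB.F mB.hF.1 mB.hF.2.1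
  have hA' : ∀ x v, (eC x (stalkLin ψA x v) : K) = (eA x v : K) := fun x v =>
    mC.smul_inj ((heC x _).trans (hψA x v _ (heA x v)))
  have hB' : ∀ x v, (eC x (stalkLin ψB x v) : K) = (eB x v : K) := fun x v =>
    mC.smul_inj ((heC x _).trans (hψB x v _ (heB x v)))
  have hHA : ∀ x v, (eA x (stalkLin φA x v) : K) = (eH x v : K) := fun x v =>
    mA.smul_inj ((heA x _).trans (hφA x v _ (heH x v)))
  have hHB : ∀ x v, (eB x (stalkLin φB x v) : K) = (eH x v : K) := fun x v =>
    mB.smul_inj ((heB x _).trans (hφB x v _ (heH x v)))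
  let p := biprod.desc ψA ψB
  let ι := biprod.lift φA (-φB)
  have hdec : ∀ x t, t = stalkLin (biprod.inl : mA.F ⟶ mA.F ⊞ mB.F) x (stalkLin biprod.fst x t) +
      stalkLin (biprod.inr : mB.F ⟶ mA.F ⊞ mB.F) x (stalkLin biprod.snd x t) := fun x t => by
    rw [← CohDev.stalkLin_comp_apply, ← CohDev.stalkLin_comp_apply, ← CohDev.stalkLin_add_apply,
      biprod.total, CohDev.stalkLin_id_apply]
  have hpl : ∀ x v, stalkLin p x (stalkLin (biprod.inl : mA.F ⟶ mA.F ⊞ mB.F) x v) = stalkLin ψA x v := fun x v => by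
    rw [← CohDev.stalkLin_comp_apply, biprod.inl_desc]
  have hpr : ∀ x v, stalkLin p x (stalkLin (biprod.inr : mB.F ⟶ mA.F ⊞ mB.F) x v) = stalkLin ψB x v := fun x v => by
    rw [← CohDev.stalkLin_comp_apply, biprod.inr_desc]
  have hp : ∀ x t, (eC x (stalkLin p x t) : K) =
      (eA x (stalkLin biprod.fst x t) : K) + (eB x (stalkLin biprod.snd x t) : K) := fun x t => by
    conv_lhs => rw [hdec x t]
    simp only [map_add, hpl, hpr, Submodule.coe_add, hA', hB']
  have hneg : ∀ x v, stalkLin (-φB) x v = -stalkLin φB x v := fun x v => by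
    rw [eq_neg_iff_add_eq_zero, ← CohDev.stalkLin_add_apply, neg_add_cancel, CohDev.stalkLin_zero_apply]
  have hι1 : ∀ x v, (eA x (stalkLin biprod.fst x (stalkLin ι x v)) : K) = (eH x v : K) := fun x v => by
    rw [← CohDev.stalkLin_comp_apply]
    simp only [ι, biprod.lift_fst, hHA]
  have hι2 : ∀ x v, (eB x (stalkLin biprod.snd x (stalkLin ι x v)) : K) = -(eH x v : K) := fun x v => by
    rw [← CohDev.stalkLin_comp_apply]
    simp only [ι, biprod.lift_snd, hneg, map_neg, Submodule.coe_neg, hHB]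
  have w : ι ≫ p = 0 := Omega.Stalks.hom_ext_stalk fun x => LinearMap.ext fun v => (eC x).injective (Subtype.ext (by
    rw [CohDev.stalkLin_comp_apply, hp, hι1, hι2, CohDev.stalkLin_zero_apply, map_zero, Submodule.coe_zero,
      add_neg_cancel]))
  haveI : Mono ι := Omega.Stalks.mono_of_stalk fun x v w hvw => (eH x).injective (Subtype.ext (by
    rw [← hι1, ← hι1, hvw]))
  have hex : (ShortComplex.mk ι p w).Exact := by
    refine Omega.Stalks.exact_of_stalk _ fun x t ht => ?_
    rw [LinearMap.mem_ker] at ht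
    have h1 : (eA x (stalkLin biprod.fst x t) : K) + (eB x (stalkLin biprod.snd x t) : K) = 0 := by
      rw [← hp, show stalkLin p x t = 0 from ht, map_zero, Submodule.coe_zero]
    set α := (eA x (stalkLin biprod.fst x t) : K) with hα
    have hαA : InLat (b - a) x α := (mem_lat hX (hb.sub hX ha)).1 (eA x _).2
    have hαB : InLat (b - c) x α := (mem_lat hX (hb.sub hX hc)).1 (by
      rw [eq_neg_of_add_eq_zero_left h1]; exact neg_mem (eB x _).2)
    have hαH : α ∈ lat (b - a - c) x := Submodule.subset_span (or_iff_not_imp_left.2 fun h0 y hyx hy => by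
      have e1 := hαA.resolve_left h0 y hyx hy
      have e2 := hαB.resolve_left h0 y hyx hy
      simp only [Pi.sub_apply] at e1 e2 ⊢
      rcases hac y hy with h | h <;> omega)
    refine ⟨(eH x).symm ⟨α, hαH⟩, ?_⟩
    show stalkLin ι x _ = t
    rw [hdec x t, hdec x (stalkLin ι x _)]
    congr 1
    · congr 1
      exact (eA x).injective (Subtype.ext (by rw [hι1, LinearEquiv.apply_symm_apply]))
    · congr 1
      exact (eB x).injective (Subtype.ext (by
        rw [hι2, LinearEquiv.apply_symm_apply]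
        exact neg_eq_of_add_eq_zero_right h1))
  have hcohA := cohLe_top hd mA.hF.1
  have hcohB := cohLe_top hd mB.hF.1
  have hcohC := cohLe_top hd mC.hF.1
  have hrange : ∀ x, Submodule.map (eC x).toLinearMap (LinearMap.range (stalkLin p x)) =
      (lat (b - a) x ⊔ lat (b - c) x).submoduleOf (lat b x) := fun x => by
    ext ⟨z, hz⟩
    rw [Submodule.submoduleOf, Submodule.mem_comap, Submodule.subtype_apply, Submodule.mem_sup]
    constructor
    · rintro ⟨_, ⟨t, rfl⟩, e⟩
      exact ⟨_, (eA x (stalkLin biprod.fst x t)).2, _, (eB x (stalkLin biprod.snd x t)).2,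
        (hp x t).symm.trans (congrArg Subtype.val e)⟩
    · rintro ⟨α, hα, β, hβ, e⟩
      refine ⟨_, ⟨stalkLin (biprod.inl : mA.F ⟶ mA.F ⊞ mB.F) x ((eA x).symm ⟨α, hα⟩) +
        stalkLin (biprod.inr : mB.F ⟶ mA.F ⊞ mB.F) x ((eB x).symm ⟨β, hβ⟩), rfl⟩, Subtype.ext ?_⟩
      show (eC x (stalkLin p x (_ + _)) : K) = z
      simp only [map_add, hpl, hpr, Submodule.coe_add, hA', hB', LinearEquiv.apply_symm_apply]
      exact e
  have hQ : ∀ x, Nonempty ((cokernel p).presheaf.stalk x ≃ₗ[X.presheaf.stalk x]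
      (lat b x ⧸ (lat (b - a) x ⊔ lat (b - c) x).submoduleOf (lat b x))) := fun x => by
    obtain ⟨hsurj, hker⟩ := ExtPowSt.stalk_exact_right p (cokernel.π p) (cokernel.condition p)
      (ShortComplex.exact_of_g_is_cokernel _ (cokernelIsCokernel p)) inferInstance x
    have hk : LinearMap.ker (stalkLin (cokernel.π p) x) = LinearMap.range (stalkLin p x) := by
      refine le_antisymm (fun u hu => hker u hu) ?_
      rintro _ ⟨t, rfl⟩
      rw [LinearMap.mem_ker, ← CohDev.stalkLin_comp_apply, cokernel.condition, CohDev.stalkLin_zero_apply]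
    exact ⟨((LinearMap.quotKerEquivOfSurjective _ hsurj).symm.trans (Submodule.quotEquivOfEq _ _ hk)).trans
      (Submodule.Quotient.equiv _ _ (eC x) (hrange x))⟩
  refine ⟨cokernel p, ⟨CohDev.isCoh_cokernel p (CohDev.isCoh_biprod mA.hF.1 mB.hF.1).1 mC.hF.1, fun x hx => ?_⟩, ?_, hQ⟩
  · by_contra hlt
    refine not_nontrivial_iff_subsingleton.2 ?_ hx
    obtain ⟨e⟩ := hQ x
    refine e.toEquiv.subsingleton_congr.2 (Submodule.Quotient.subsingleton_iff.2 (eq_top_iff.2 fun z _ => ?_))
    rw [Submodule.submoduleOf, Submodule.mem_comap, Submodule.subtype_apply]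
    have hz := (mem_lat hX hb).1 z.2
    have hy1 : ∀ y, y ⤳ x → Order.coheight y = 1 → y = x ∧ δ x + 1 = δ η := fun y hyx hy => by
      by_contra hne
      have hne2 : genericPoint X ≠ y := by
        rintro rfl
        rw [Order.coheight_eq_zero.mpr (fun z _ => Scheme.le_iff_specializes.mpr (hsp z))] at hy
        exact zero_ne_one hy
      have h1 := (hd _ _ (genericPoint_specializes y) hne2).1
      by_cases hyx' : y = x
      · subst hyx'
        simp only [true_and] at hne
        omega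
      · have h2 := (hd _ _ hyx hyx').1
        omega
    by_cases hx1 : Order.coheight x = 1 ∧ a x ≠ 0
    · refine Submodule.mem_sup_right (Submodule.subset_span (or_iff_not_imp_left.2 fun h0 y hyx hy => ?_))
      obtain ⟨rfl, -⟩ := hy1 y hyx hy
      have := hz.resolve_left h0 y hyx hy
      have := (hac y hy).resolve_left hx1.2
      simp only [Pi.sub_apply]
      omega
    · refine Submodule.mem_sup_left (Submodule.subset_span (or_iff_not_imp_left.2 fun h0 y hyx hy => ?_))
      obtain ⟨rfl, -⟩ := hy1 y hyx hy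
      have := hz.resolve_left h0 y hyx hy
      have : a y = 0 := by by_contra h; exact hx1 ⟨hy, h⟩
      simp only [Pi.sub_apply]
      omega
  · have hcohAB := cohLe_biprod hcohA hcohB
    have e1 := kc_map p hcohAB hcohC
    have e2 : kc δ (δ η) (kernel p) = kc δ (δ η) mH.F :=
      kc_iso (IsLimit.conePointUniqueUpToIso (kernelIsKernel p) hex.fIsKernel)
    rw [kd_eq hX mC.hF mC.hs mC.hD, kd_eq hX mA.hF mA.hs mA.hD, kd_eq hX mB.hF mB.hs mB.hD,
      kd_eq hX mH.hF mH.hs mH.hD]
    rw [e2, kc_biprod hcohA hcohB] at e1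
    rw [eq_sub_iff_add_eq] at e1
    rw [← e1]
    abel

/-- The quotient of lattices is bounded by generators. -/
theorem length_le_mul {b a c : X → ℤ} (hb : IsDiv b) (ha : IsDiv a) (hc : IsDiv c) {x : X} {r : ℕ}
    (g : Fin r → K) (hg : ∀ i, g i ∈ lat b x)
    (hgen : lat b x ≤ Submodule.span (X.presheaf.stalk x) (Set.range g)) :
    Module.length (X.presheaf.stalk x) (lat b x ⧸ (lat (b - a) x ⊔ lat (b - c) x).submoduleOf (lat b x)) ≤
      r * Module.length (X.presheaf.stalk x) (X.presheaf.stalk x ⧸ (latIdeal (-a) x ⊔ latIdeal (-c) x)) := by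
  let R := X.presheaf.stalk x
  let L := (lat (b - a) x ⊔ lat (b - c) x).submoduleOf (lat b x)
  let I := latIdeal (-a) x ⊔ latIdeal (-c) x
  let φ : Fin r → (R ⧸ I) →ₗ[R] (lat b x ⧸ L) := fun i =>
    Submodule.liftQ I (L.mkQ.comp (LinearMap.toSpanSingleton R (lat b x) ⟨g i, hg i⟩)) fun z hz => by
      rw [LinearMap.mem_ker, LinearMap.comp_apply, Submodule.mkQ_apply, Submodule.Quotient.mk_eq_zero]
      show z • g i ∈ lat (b - a) x ⊔ lat (b - c) x
      obtain ⟨z₁, h₁, z₂, h₂, rfl⟩ := Submodule.mem_sup.1 hz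
      rw [add_smul, Algebra.smul_def, Algebra.smul_def, mul_comm, mul_comm (algebraMap R K z₂)]
      refine Submodule.add_mem_sup ?_ ?_
      · rw [sub_eq_add_neg]; exact mul_mem_lat hX hb (ha.neg hX) (hg i) h₁
      · rw [sub_eq_add_neg]; exact mul_mem_lat hX hb (hc.neg hX) (hg i) h₂
  let Φ : (Fin r → R ⧸ I) →ₗ[R] (lat b x ⧸ L) := ∑ i, (φ i).comp (LinearMap.proj i)
  have hΦ : Function.Surjective Φ := by
    intro q
    obtain ⟨⟨z, hz⟩, rfl⟩ := Submodule.Quotient.mk_surjective L q
    obtain ⟨w, hw⟩ := (Submodule.mem_span_range_iff_exists_fun R).1 (hgen hz)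
    refine ⟨fun i => Submodule.Quotient.mk (w i), ?_⟩
    simp only [Φ, φ, LinearMap.sum_apply, LinearMap.comp_apply, LinearMap.proj_apply, Submodule.liftQ_apply,
      LinearMap.toSpanSingleton_apply]
    rw [← map_sum]
    refine congrArg L.mkQ (Subtype.ext ?_)
    rw [Submodule.coe_sum]
    exact hw
  refine (Module.length_le_of_surjective Φ hΦ).trans (le_of_eq ?_)
  simp [I, R]

/-- For a principal lattice the quotient does not depend on the divisor. -/
theorem length_eq_of_principal {b a c : X → ℤ} (hb : IsDiv b) (ha : IsDiv a) (hc : IsDiv c) {x : X}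
    (ha0 : ∀ y, Order.coheight y = 1 → 0 ≤ a y) (hc0 : ∀ y, Order.coheight y = 1 → 0 ≤ c y)
    {u : K} (hu : u ∈ lat b x) (hgen : lat b x ≤ Submodule.span (X.presheaf.stalk x) {u}) :
    Module.length (X.presheaf.stalk x) (lat b x ⧸ (lat (b - a) x ⊔ lat (b - c) x).submoduleOf (lat b x)) =
      Module.length (X.presheaf.stalk x) (X.presheaf.stalk x ⧸ (latIdeal (-a) x ⊔ latIdeal (-c) x)) := by
  let R := X.presheaf.stalk x
  let L := (lat (b - a) x ⊔ lat (b - c) x).submoduleOf (lat b x)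
  let f : R →ₗ[R] (lat b x ⧸ L) := L.mkQ.comp (LinearMap.toSpanSingleton R (lat b x) ⟨u, hu⟩)
  have hf : Function.Surjective f := by
    intro q
    obtain ⟨⟨z, hz⟩, rfl⟩ := Submodule.Quotient.mk_surjective L q
    obtain ⟨w, hw⟩ := Submodule.mem_span_singleton.1 (hgen hz)
    exact ⟨w, congrArg L.mkQ (Subtype.ext hw)⟩
  have hu0 : u ≠ 0 := by
    rintro rfl
    obtain ⟨F, s, hF, hs, eD⟩ := hb
    haveI := hF.1.1
    obtain ⟨r, v, hr, hv⟩ := exists_smul_eq_toη F x s
    have h1 := hgen ((mem_lat_iff hX hF hs eD).2 ⟨v, hv⟩)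
    rw [Submodule.span_zero_singleton, Submodule.mem_bot] at h1
    exact toK_ne_zero hr h1
  have hord : ∀ y, y ⤳ x → Order.coheight y = 1 → Scheme.ord u y = -b y := fun y hyx hy => by
    obtain ⟨v, hv, hv0, e⟩ := exists_gen hX hb hyx hy
    obtain ⟨w, hw⟩ := Submodule.mem_span_singleton.1 (hgen hv)
    have h1 := ((mem_lat hX hb).1 hu).resolve_left hu0 y hyx hy
    rw [← hw, Algebra.smul_def] at e hv0
    have hw0 : toK x w ≠ 0 := (mul_ne_zero_iff.1 hv0).1
    have h2 : 0 ≤ Scheme.ord (toK x w) y :=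
      (((inLat_zero_iff hX).2 ⟨w, rfl⟩ : InLat 0 x (toK x w)).resolve_left hw0 y hyx hy).trans (by simp)
    have h3 : Scheme.ord (toK x w * u) y = Scheme.ord (toK x w) y + Scheme.ord u y := Scheme.ord_mul hw0 hu0
    change Scheme.ord (toK x w * u) y = _ at e
    omega
  have hstep : ∀ {p : X → ℤ}, IsDiv p → (∀ y, Order.coheight y = 1 → 0 ≤ p y) →
      ∀ {α : K}, α ∈ lat (b - p) x → ∃ z ∈ latIdeal (-p) x, z • u = α := fun {p} hp hp0 {α} hα => by
    obtain ⟨z, hz⟩ := Submodule.mem_span_singleton.1 (hgen (lat_mono hX (fun y hy => by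
      have := hp0 y hy; simp only [Pi.sub_apply]; omega) x hα))
    refine ⟨z, mem_latIdeal.2 (Submodule.subset_span (or_iff_not_imp_left.2 fun hz0 y hyx hy => ?_)), hz⟩
    have h1 := (mem_lat hX (hb.sub hX hp)).1 hα
    rw [← hz, Algebra.smul_def] at h1
    have h2 := h1.resolve_left (mul_ne_zero hz0 hu0) y hyx hy
    have h3 : Scheme.ord (toK x z * u) y = Scheme.ord (toK x z) y + Scheme.ord u y := Scheme.ord_mul hz0 hu0
    change 0 ≤ Scheme.ord (toK x z * u) y + _ at h2
    rw [h3, hord y hyx hy] at h2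
    simp only [Pi.sub_apply, Pi.neg_apply] at h2 ⊢
    omega
  have hker : LinearMap.ker f = latIdeal (-a) x ⊔ latIdeal (-c) x := by
    ext z
    rw [LinearMap.mem_ker, LinearMap.comp_apply, Submodule.mkQ_apply, Submodule.Quotient.mk_eq_zero]
    show z • u ∈ lat (b - a) x ⊔ lat (b - c) x ↔ _
    constructor
    · intro h
      obtain ⟨α, hα, β, hβ, e⟩ := Submodule.mem_sup.1 h
      obtain ⟨z₁, h₁, rfl⟩ := hstep ha ha0 hα
      obtain ⟨z₂, h₂, rfl⟩ := hstep hc hc0 hβ
      rw [← add_smul] at e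
      rw [← smul_left_injective R hu0 e]
      exact Submodule.add_mem_sup h₁ h₂
    · intro h
      obtain ⟨z₁, h₁, z₂, h₂, rfl⟩ := Submodule.mem_sup.1 h
      rw [add_smul, Algebra.smul_def, Algebra.smul_def, mul_comm, mul_comm (algebraMap R K z₂)]
      refine Submodule.add_mem_sup ?_ ?_
      · rw [sub_eq_add_neg]; exact mul_mem_lat hX hb (ha.neg hX) hu h₁
      · rw [sub_eq_add_neg]; exact mul_mem_lat hX hb (hc.neg hX) hu h₂
  exact ((LinearMap.quotKerEquivOfSurjective f hf).symm.trans (Submodule.quotEquivOfEq _ _ hker)).length_eq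

end Groth.Agent.RefChK0
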