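import Groth.Agent.RefChK0.Glob

/-!
# The third difference of the class of a divisor takes finitely many values

For a homomorphism killing codimension three, the third difference of the class of a divisor takes
only finitely many values.
-/

set_option autoImplicit false
set_option linter.style.haveILetI false

universe u

open CategoryTheory Limits AlgebraicGeometry

noncomputable section

namespace Groth.Agent.RefChK0

open Groth.Agent.HomShQC Groth.Agent.Ref1 Groth.Agent.PullStalk.Sky CycLib.Dev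

variable {X : Scheme.{u}} [IsIntegral X] [IsLocallyNoetherian X]

local notation "η" => genericPoint X
local notation "K" => Scheme.functionField X

/-- The third difference of a function on a group. -/
def tri3 {G : Type*} [AddCommGroup G] (Φ : G → ℤ) (a b c : G) : ℤ :=
  Φ (a + b + c) - Φ (a + b) - Φ (a + c) - Φ (b + c) + Φ a + Φ b + Φ c - Φ 0

theorem tri3_swap₁ {G : Type*} [AddCommGroup G] (Φ : G → ℤ) (a b c : G) : tri3 Φ a b c = tri3 Φ b a c := by
  simp only [tri3, add_comm b a]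
  ring

theorem tri3_swap₂ {G : Type*} [AddCommGroup G] (Φ : G → ℤ) (a b c : G) : tri3 Φ a b c = tri3 Φ a c b := by
  simp only [tri3, add_comm c b, show a + c + b = a + b + c by abel]
  ring

theorem tri3_shift {G : Type*} [AddCommGroup G] (Φ Ψ : G → ℤ) {A a b c : G}
    (h₁ : Φ (A + (a + b + c)) = Φ (a + b + c) - Ψ (a + b + c)) (h₂ : Φ (A + (a + b)) = Φ (a + b) - Ψ (a + b))
    (h₃ : Φ (A + (a + c)) = Φ (a + c) - Ψ (a + c)) (h₄ : Φ (A + a) = Φ a - Ψ a)
    (h₅ : Ψ (a + b + c) - Ψ (a + b) - Ψ (a + c) + Ψ a = 0) : tri3 Φ (A + a) b c = tri3 Φ a b c := by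
  simp only [tri3, add_assoc A]
  rw [h₁, h₂, h₃, h₄]
  linarith

variable {δ : X → ℤ} (Z : KZero.K0sub (Cyc.CohLe δ (δ (genericPoint X))) →+ ℤ)

/-- The third difference of the class of a divisor. -/
def tri (a b c : X → ℤ) : ℤ := tri3 (fun D : X → ℤ => Z (kd δ D)) a b c

theorem tri_swap₁ (a b c : X → ℤ) : tri Z a b c = tri Z b a c := tri3_swap₁ _ a b c

theorem tri_swap₂ (a b c : X → ℤ) : tri Z a b c = tri Z a c b := tri3_swap₂ _ a b c

variable (hX : Pi1.IsNormalScheme X) (hd : Cyc.IsDimFun X δ)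
  (hZ : ∀ c ∈ filt δ (δ (genericPoint X)) (δ (genericPoint X) - 3), Z c = 0)

include hX hd hZ

/-- Cartier divisors do not matter. -/
theorem tri_add_cartier {A : X → ℤ} {N : X.Modules} (hN : PicF.IsInvertible N) {t : N.presheaf.stalk η}
    (ht : t ≠ 0) (eN : ∀ y : X, Order.coheight y = 1 → ordS N y t = A y) {a b c : X → ℤ}
    (ha : IsDiv a) (hb : IsDiv b) (hc : IsDiv c) : tri Z (A + a) b c = tri Z a b c := by
  have htw : ∀ {D : X → ℤ}, IsDiv D → Z (kd δ (A + D)) = Z (kd δ D) - Z (c1op δ (δ η) hN (kd δ D)) := by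
    intro D hD
    rw [kd_add_cartier hX hd hN ht eN hD, ← map_sub]
    congr 1
    rw [c1op, AddMonoidHom.sub_apply, AddMonoidHom.id_apply, sub_sub_cancel]
  refine tri3_shift (fun D => Z (kd δ D)) (fun D => Z (c1op δ (δ η) hN (kd δ D))) (htw ((ha.add hX hb).add hX hc))
    (htw (ha.add hX hb)) (htw (ha.add hX hc)) (htw ha) ?_
  have key := hZ _ (filt_mono (show δ η - 2 - 1 ≤ δ η - 3 by omega) (c1op_mem hd (m := δ η - 2) (by omega) hN
    (sub_mem (kd_sub_mem hX hd (ha.add hX hb) hc) (kd_sub_mem hX hd ha hc))))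
  simp only [map_sub] at key
  generalize Z (c1op δ (δ η) hN (kd δ (a + b + c))) = p₁ at key ⊢
  generalize Z (c1op δ (δ η) hN (kd δ (a + b))) = p₂ at key ⊢
  generalize Z (c1op δ (δ η) hN (kd δ (a + c))) = p₃ at key ⊢
  generalize Z (c1op δ (δ η) hN (kd δ a)) = p₄ at key ⊢
  generalize Z (c1op δ (δ η) hN (kd δ c)) = p₅ at key ⊢
  generalize Z (c1op δ (δ η) hN (kd δ 0)) = p₆ at key ⊢
  omega

theorem tri_add_ord {f : K} (hf : f ≠ 0) {a b c : X → ℤ}
    (ha : IsDiv a) (hb : IsDiv b) (hc : IsDiv c) : tri Z ((fun y => Scheme.ord f y) + a) b c = tri Z a b c :=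
  tri_add_cartier Z hX hd hZ (LFFrame.isInvertible_structureModule X)
    (t := unitStalk η f) (fun h => hf ((unitStalk η).injective (h.trans (map_zero _).symm)))
    (fun _ hy => ordS_unit hy hf) ha hb hc

omit Z hd hZ in
/-- The rational functions not reaching the divisor at a point of codimension one. -/
theorem exists_component_avoid (k : Type u) [Field k] [X.Over (Spec (CommRingCat.of k))] {P : X → ℤ}
    (hP : IsDiv P) {y : X} (hy : Order.coheight y = 1)
    (hgen : lat P y ≤ Submodule.span (X.presheaf.stalk y) (glob k P : Set K)) :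
    letI := algK (X := X) k
    ∃ W : Submodule k (glob k P), W ≠ ⊤ ∧
      ∀ v : glob k P, v ∉ W → (v : K) ≠ 0 → P y + Scheme.ord (v : K) y = 0 := by
  letI := algK (X := X) k
  letI := algStalk k y
  haveI := tower (X := X) k y
  let R := X.presheaf.stalk y
  let L : Submodule R K := IsLocalRing.maximalIdeal R • lat P y
  refine ⟨Submodule.comap (glob k P).subtype (L.restrictScalars k), fun h => ?_, fun v hv hv0 => ?_⟩
  · have hle : lat P y ≤ L := hgen.trans (Submodule.span_le.2 fun f hf =>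
      (show (⟨f, hf⟩ : glob k P) ∈ Submodule.comap (glob k P).subtype (L.restrictScalars k) from h ▸ Submodule.mem_top :))
    have h0 := Submodule.eq_bot_of_le_smul_of_le_jacobson_bot (IsLocalRing.maximalIdeal R) (lat P y)
      (fg_lat hX hP y) hle (IsLocalRing.maximalIdeal_le_jacobson _)
    obtain ⟨u, hu, hu0, -⟩ := exists_gen hX hP (specializes_refl y) hy
    exact hu0 ((Submodule.mem_bot R).1 (h0 ▸ hu))
  · obtain ⟨u, hu, hu0, e⟩ := exists_gen hX hP (specializes_refl y) hy
    have hnn := ((mem_lat hX hP).1 (v.2 y)).resolve_left hv0 y (specializes_refl y) hy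
    by_contra hne
    have hwu : InLat 0 y ((v : K) / u) := Or.inr fun z hz hz1 => by
      obtain rfl : z = y := by
        by_contra hzy
        have := Order.coheight_strictAnti (lt_of_le_not_ge (Scheme.le_iff_specializes.2 hz)
          fun h => hzy ((Scheme.le_iff_specializes.1 h).antisymm hz).eq.symm) (by rw [hz1]; exact ENat.one_lt_top)
        rw [hy, hz1] at this
        exact lt_irrefl _ this
      have h3 : Scheme.ord ((v : K) / u * u) z = Scheme.ord ((v : K) / u) z + Scheme.ord u z :=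
        Scheme.ord_mul (div_ne_zero hv0 hu0) hu0
      rw [div_mul_cancel₀ _ hu0, e] at h3
      simp only [Pi.zero_apply, add_zero]
      omega
    obtain ⟨r, hr⟩ := (inLat_zero_iff hX).1 hwu
    have hru : r • u = (v : K) := by
      rw [Algebra.smul_def]
      show toK y r * u = _
      rw [hr, div_mul_cancel₀ _ hu0]
    refine hv ?_
    show (v : K) ∈ L
    rw [← hru]
    refine Submodule.smul_mem_smul ?_ hu
    by_contra hr'
    replace hr' := IsLocalRing.notMem_maximalIdeal.1 hr'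
    have h3 : Scheme.ord (toK y r * u) y = Scheme.ord (toK y r) y + Scheme.ord u y :=
      Scheme.ord_mul (toK_ne_zero hr'.ne_zero) hu0
    rw [ord_toK_of_isUnit hy hr', e, hr, div_mul_cancel₀ _ hu0] at h3
    omega

/-- The third difference takes finitely many values. -/
theorem finite_tri (k : Type u) [Field k] [IsAlgClosed k] [X.Over (Spec (CommRingCat.of k))]
    [LocallyOfFiniteType (X ↘ Spec (CommRingCat.of k))] [CompactSpace X] {L : X.Modules}
    (hL : CohB1.IsAmple L) :
    ∃ B : Set ℤ, B.Finite ∧ ∀ a b c : X → ℤ, IsDiv a → IsDiv b → IsDiv c → tri Z a b c ∈ B := by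
  classical
  obtain ⟨E, S, hSfin, hprin, hS⟩ := exists_badSet hX k
  letI := algK (X := X) k
  choose hS2 J hJ hJm hJesc using hS
  have hb : ∀ x : S, ∃ c₁ : ℕ, _ := fun x =>
    letI := algStalk k x.1
    haveI := tower (X := X) k x.1
    exists_bound hX k (hS2 x.1 x.2) (hJ x.1 x.2) (hJm x.1 x.2) (hJesc x.1 x.2)
  choose c₁ hc₁ using hb
  haveI := hSfin.to_subtype
  -- the values on pairs with a given difference of lengths
  let Zv : (X → ℤ) → ℤ := fun g =>
    if h : ∃ p : X.Modules × X.Modules, Cyc.CohLe δ (δ η - 2) p.1 ∧ Cyc.CohLe δ (δ η - 2) p.2 ∧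
        Cyc.sheafFun δ (δ η - 2) p.1 - Cyc.sheafFun δ (δ η - 2) p.2 = g
    then Z (kc δ (δ η) (Classical.choose h).1) - Z (kc δ (δ η) (Classical.choose h).2) else 0
  have hZv : ∀ {A B : X.Modules}, Cyc.CohLe δ (δ η - 2) A → Cyc.CohLe δ (δ η - 2) B →
      Z (kc δ (δ η) A) - Z (kc δ (δ η) B) =
        Zv (Cyc.sheafFun δ (δ η - 2) A - Cyc.sheafFun δ (δ η - 2) B) := by
    intro A B hA hB
    have h : ∃ p : X.Modules × X.Modules, Cyc.CohLe δ (δ η - 2) p.1 ∧ Cyc.CohLe δ (δ η - 2) p.2 ∧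
        Cyc.sheafFun δ (δ η - 2) p.1 - Cyc.sheafFun δ (δ η - 2) p.2 =
          Cyc.sheafFun δ (δ η - 2) A - Cyc.sheafFun δ (δ η - 2) B := ⟨(A, B), hA, hB, rfl⟩
    simp only [Zv]
    rw [dif_pos h]
    obtain ⟨h1, h2, h3⟩ := Classical.choose_spec h
    set A' := (Classical.choose h).1
    set B' := (Classical.choose h).2
    have hle : δ η - 2 ≤ δ η := by omega
    have hk := kc_sub_mem_of_sheafFun hd hle (cohLe_biprod hA h2) (cohLe_biprod h1 hB) (by
      rw [sheafFun_biprod hd hA h2, sheafFun_biprod hd h1 hB]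
      funext y
      have := congrFun h3 y
      simp only [Pi.sub_apply, Pi.add_apply] at this ⊢
      omega)
    have := hZ _ (filt_mono (by omega) hk)
    rw [kc_biprod (cohLe_mono hle hA) (cohLe_mono hle h2), kc_biprod (cohLe_mono hle h1) (cohLe_mono hle hB),
      map_sub, map_add, map_add] at this
    linarith
  let box : Set (X → ℤ) := {g | ∀ y, (y ∉ S → g y = 0) ∧ ∀ h : y ∈ S, |g y| ≤ E * c₁ ⟨y, h⟩}
  have hbox : box.Finite := by
    refine ((Set.Finite.pi fun x : S => Set.finite_Icc (-(E * c₁ x : ℤ)) (E * c₁ x)).image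
      fun f : S → ℤ => fun y => if h : y ∈ S then f ⟨y, h⟩ else 0).subset fun g hg => ?_
    refine ⟨fun x => g x.1, fun x _ => ?_, funext fun y => ?_⟩
    · exact abs_le.1 ((hg x.1).2 x.2)
    · by_cases h : y ∈ S
      · simp [h]
      · simp [h, (hg y).1 h]
  refine ⟨Zv '' box, hbox.image _, fun a₀ b c₀ ha₀ hb hc₀ => ?_⟩
  -- representatives
  obtain ⟨A, NA, tA, hNA, htA, eA, hAP, hgenA⟩ := exists_global hX k hL (ha₀.neg hX)
  obtain ⟨C, NC, tC, hNC, htC, eC, hCP, hgenC⟩ := exists_global hX k hL (hc₀.neg hX)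
  set P := A + -a₀ with hPdef
  set P' := C + -c₀ with hP'def
  haveI : Nontrivial (glob k P) := by
    rw [Submodule.nontrivial_iff_ne_bot]
    intro h
    obtain ⟨F, w, hF, hw, eF⟩ := hAP
    haveI := hF.1.1
    obtain ⟨a, v, ha, hv⟩ := exists_smul_eq_toη F η w
    have h1 : (toK η a : K) ∈ lat P η := (mem_lat_iff hX hF hw eF).2 ⟨v, hv⟩
    have h2 := hgenA η h1
    rw [h, Submodule.bot_coe, Submodule.span_zero_singleton, Submodule.mem_bot] at h2
    exact toK_ne_zero ha h2
  choose ι hι W hW hgood using fun x : S => hc₁ x P (glob k P) hAP (fun f hf => hf x.1) (hgenA x.1)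
  let W₁ : Option (Σ x : S, ι x) → Submodule k (glob k P) := fun o => o.elim ⊥ fun p => W p.1 p.2
  obtain ⟨v, hv⟩ := Submodule.exists_forall_notMem_of_forall_ne_top W₁ (by
    rintro (_ | ⟨x, i⟩)
    · exact bot_ne_top
    · exact hW x i)
  have hv0 : (v : K) ≠ 0 := fun h => hv none ((Submodule.mem_bot k).2 (Subtype.ext h))
  let a : X → ℤ := fun y => P y + Scheme.ord (v : K) y
  have ha : IsDiv a := hAP.add hX (isDiv_ord hX hv0)
  have ha0 : ∀ y, Order.coheight y = 1 → 0 ≤ a y := fun y hy => by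
    have := ((mem_lat hX hAP).1 (v.2 y)).resolve_left hv0 y (specializes_refl y) hy
    simp only [a]
    omega
  let T := {y : X | Order.coheight y = 1 ∧ a y ≠ 0}
  haveI : Finite T := (ha.finite_support hX).to_subtype
  haveI : Nontrivial (glob k P') := by
    rw [Submodule.nontrivial_iff_ne_bot]
    intro h
    obtain ⟨F, w, hF, hw, eF⟩ := hCP
    haveI := hF.1.1
    obtain ⟨a, v, ha, hv⟩ := exists_smul_eq_toη F η w
    have h1 : (toK η a : K) ∈ lat P' η := (mem_lat_iff hX hF hw eF).2 ⟨v, hv⟩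
    have h2 := hgenC η h1
    rw [h, Submodule.bot_coe, Submodule.span_zero_singleton, Submodule.mem_bot] at h2
    exact toK_ne_zero ha h2
  choose ι' hι' W' hW' hgood' using fun x : S =>
    hgood x v (fun i => hv (some ⟨x, i⟩)) hv0 P' (glob k P') hCP (fun f hf => hf x.1) (hgenC x.1)
  choose WT hWT hWTgood using fun y : T => exists_component_avoid hX k hCP y.2.1 (hgenC y.1)
  let W₂ : Option (T ⊕ Σ x : S, ι' x) → Submodule k (glob k P') := fun o =>
    o.elim ⊥ fun p => p.elim WT fun q => W' q.1 q.2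
  obtain ⟨v', hv'⟩ := Submodule.exists_forall_notMem_of_forall_ne_top W₂ (by
    rintro (_ | y | ⟨x, i⟩)
    · exact bot_ne_top
    · exact hWT y
    · exact hW' x i)
  have hv0' : (v' : K) ≠ 0 := fun h => hv' none ((Submodule.mem_bot k).2 (Subtype.ext h))
  let c : X → ℤ := fun y => P' y + Scheme.ord (v' : K) y
  have hc : IsDiv c := hCP.add hX (isDiv_ord hX hv0')
  have hc0 : ∀ y, Order.coheight y = 1 → 0 ≤ c y := fun y hy => by
    have := ((mem_lat hX hCP).1 (v'.2 y)).resolve_left hv0' y (specializes_refl y) hy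
    simp only [c]
    omega
  have hac : ∀ y, Order.coheight y = 1 → a y = 0 ∨ c y = 0 := fun y hy =>
    or_iff_not_imp_left.2 fun h => hWTgood ⟨y, hy, h⟩ v' (hv' (some (Sum.inl ⟨y, hy, h⟩))) hv0'
  -- reduction to the representatives
  have hAd : IsDiv A := ⟨NA, tA, ExtPowSt.isRef1_of_isInvertible hNA, htA, eA⟩
  have hCd : IsDiv C := ⟨NC, tC, ExtPowSt.isRef1_of_isInvertible hNC, htC, eC⟩
  have e1 : a₀ = A + ((fun y => Scheme.ord (v : K) y) + -a) := by
    funext y; simp [a, hPdef]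
  have e2 : c₀ = C + ((fun y => Scheme.ord (v' : K) y) + -c) := by
    funext y; simp [c, hP'def]
  have hred : tri Z a₀ b c₀ = tri Z b (-a) (-c) := by
    have q1 : tri Z a₀ b c₀ = tri Z (-a) b c₀ := by
      conv_lhs => rw [e1]
      rw [tri_add_cartier Z hX hd hZ hNA htA eA ((isDiv_ord hX hv0).add hX (ha.neg hX)) hb hc₀,
        tri_add_ord Z hX hd hZ hv0 (ha.neg hX) hb hc₀]
    have q2 : tri Z c₀ b (-a) = tri Z (-c) b (-a) := by
      conv_lhs => rw [e2]
      rw [tri_add_cartier Z hX hd hZ hNC htC eC ((isDiv_ord hX hv0').add hX (hc.neg hX)) hb (ha.neg hX),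
        tri_add_ord Z hX hd hZ hv0' (hc.neg hX) hb (ha.neg hX)]
    calc tri Z a₀ b c₀ = tri Z (-a) b c₀ := q1
      _ = tri Z c₀ b (-a) := by rw [tri_swap₂, tri_swap₁, tri_swap₂]
      _ = tri Z (-c) b (-a) := q2
      _ = tri Z b (-a) (-c) := by rw [tri_swap₁, tri_swap₂]
  obtain ⟨Q, hQ, eQ, hQst⟩ := exists_coker hX hd hb ha hc ha0 hc0 hac
  obtain ⟨Q₀, hQ₀, eQ₀, hQ₀st⟩ := exists_coker hX hd (isDiv_zero (X := X)) ha hc ha0 hc0 hac
  have hval : tri Z b (-a) (-c) = Z (kc δ (δ η) Q) - Z (kc δ (δ η) Q₀) := by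
    rw [eQ, eQ₀]
    simp only [tri, tri3, map_add, map_sub, ← sub_eq_add_neg, zero_sub]
    ring
  refine ⟨_, ?_, ((hred.trans hval).trans (hZv hQ hQ₀)).symm⟩
  intro y
  obtain ⟨eb⟩ := hQst y
  obtain ⟨e0⟩ := hQ₀st y
  simp only [Pi.sub_apply, Cyc.sheafFun]
  rw [eb.length_eq, e0.length_eq]
  refine ⟨fun hyS => ?_, fun hyS => ?_⟩
  · split_ifs with hy
    · have h2 : Order.coheight y = 2 := by
        have := CycLib.coheight_eq hd 2 y (genericPoint_specializes y)
          (fun z _ => genericPoint_specializes z) (by rw [hy]; push_cast; ring)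
        exact_mod_cast this
      obtain ⟨u, hu, hgu⟩ := hprin y h2 hyS b hb
      obtain ⟨u₀, hu₀, hgu₀⟩ := hprin y h2 hyS 0 isDiv_zero
      rw [length_eq_of_principal hX hb ha hc ha0 hc0 hu hgu,
        length_eq_of_principal hX isDiv_zero ha hc ha0 hc0 hu₀ hgu₀, sub_self]
    · rfl
  · have hlen : ∀ {β : X → ℤ}, IsDiv β → (Module.length (X.presheaf.stalk y)
        (lat β y ⧸ (lat (β - a) y ⊔ lat (β - c) y).submoduleOf (lat β y))).toNat ≤ E * c₁ ⟨y, hyS⟩ := by
      intro β hβ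
      obtain ⟨-, r, g, hr, hg, hgen⟩ := hJ y hyS β hβ
      refine ENat.toNat_le_of_le_coe ((length_le_mul hX hβ ha hc g hg hgen).trans ?_)
      rw [Nat.cast_mul]
      refine mul_le_mul' (by exact_mod_cast hr) ?_
      exact hgood' ⟨y, hyS⟩ v' (fun i => hv' (some (Sum.inr ⟨⟨y, hyS⟩, i⟩))) hv0'
    have h1 := hlen hb
    have h2 := hlen (isDiv_zero (X := X))
    have h1' : ((Module.length (X.presheaf.stalk y) (lat b y ⧸ (lat (b - a) y ⊔ lat (b - c) y).submoduleOf (lat b y))).toNat : ℤ) ≤ (E * c₁ ⟨y, hyS⟩ : ℕ) := by exact_mod_cast h1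
    have h2' : ((Module.length (X.presheaf.stalk y) (lat (0 : X → ℤ) y ⧸ (lat (0 - a) y ⊔ lat (0 - c) y).submoduleOf (lat (0 : X → ℤ) y))).toNat : ℤ) ≤ (E * c₁ ⟨y, hyS⟩ : ℕ) := by exact_mod_cast h2
    push_cast at h1' h2'
    have hnn : (0 : ℤ) ≤ E * c₁ ⟨y, hyS⟩ := by positivity
    split_ifs
    · rw [abs_le]; constructor <;> omega
    · simpa using hnn

end Groth.Agent.RefChK0
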